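import Cfsg.Agent.OddChar.TypeOne.Gap.Frob
import Cfsg.Agent.OddLocal.SupportR
import Cfsg.Agent.S1379
import Cfsg.Agent.S1377
import Cfsg.Agent.S1526

/-!
# Not every maximal subgroup is without `κ`-primes
-/

set_option autoImplicit false
set_option linter.unusedSectionVars false

namespace Cfsg.Agent.OddChar.TypeOne.Gap

open Cfsg Subgroup
open Cfsg.Agent.OddLocal Cfsg.Agent.OddLocal.SigmaParts
open Cfsg.Agent.Transfer.Fusion (map_conj_mul map_conj_one map_conj_inv_cancel)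

theorem exists_kappa {G : Type*} [Group G] [Finite G] (hG : IsMinSimpleOddOrder G) :
    ∃ M : Subgroup G, IsCoatom M ∧ (kappa M).Nonempty := by
  classical
  by_contra hcon
  have hall : ∀ M : Subgroup G, IsCoatom M → kappa M = ∅ := fun M hM =>
    Set.not_nonempty_iff_eq_empty.mp fun h => hcon ⟨M, hM, h⟩
  have hC : ∀ M : Subgroup G, IsCoatom M → ∀ x ∈ sigmaCore M, x ≠ 1 →
      centralizer ({x} : Set G) ≤ M := fun M hM x hx hx1 => by
    by_contra h
    obtain ⟨N, hN⟩ := Signalizer.exists_sig hG hM hx hx1 h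
    exact Set.not_nonempty_empty (hall N hN.hN ▸ kappa_nonempty hG hM hx hx1 h hN.hN hN.hC)
  have hcov : ∀ g : G, g ≠ 1 → ∃ (M : Subgroup G) (y : G), IsCoatom M ∧ y * g * y⁻¹ ∈ sigmaCore M := by
    intro g hg
    obtain ⟨M, hM, hgM⟩ := (S1379.result hG).2.1 hall g hg
    obtain ⟨a, ha, r, hr, y, rfl⟩ := SupportR.mem_tilde.mp hgM
    rw [SupportR.supportR_of_le (hC M hM a ha.1 ha.2), mem_bot] at hr
    subst hr
    exact ⟨M, y⁻¹, hM, by simpa [mul_assoc] using ha.1⟩
  -- the classes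
  let s : Setoid {M : Subgroup G // IsCoatom M} :=
    { r := fun M N => ∃ g : G, N.1 = M.1.map (MulAut.conj g).toMonoidHom
      iseqv := ⟨fun M => ⟨1, (map_conj_one _).symm⟩,
        fun ⟨g, e⟩ => ⟨g⁻¹, by rw [e, map_conj_inv_cancel]⟩,
        fun ⟨g, e⟩ ⟨g', e'⟩ => ⟨g' * g, by rw [e', e, map_conj_mul]⟩⟩ }
  haveI : Fintype (Quotient s) := Fintype.ofFinite _
  set L : Quotient s → Subgroup G := fun i => i.out.1 with hL
  have hLM : ∀ i, IsCoatom (L i) := fun i => i.out.2
  have hcover : ∀ g : G, g ≠ 1 → ∃ i, ∃ x : G, x * g * x⁻¹ ∈ sigmaCore (L i) := by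
    intro g hg
    obtain ⟨M, y, hM, hy⟩ := hcov g hg
    obtain ⟨z, hz⟩ := s.symm (Quotient.mk_out (s := s) ⟨M, hM⟩)
    refine ⟨⟦⟨M, hM⟩⟧, z * y, ?_⟩
    show _ ∈ sigmaCore (Quotient.out (s := s) ⟦⟨M, hM⟩⟧).1
    rw [hz, sigmaCore_map]
    exact ⟨_, hy, by simp [mul_assoc]⟩
  by_cases htwo : 2 ≤ Fintype.card (Quotient s)
  · refine S1526.result hG.1 htwo L (fun i => sigmaCore (L i)) (fun i => ?_)
      (fun i => Sigma.sigmaCore_ne_bot hG (hLM i))
      (fun i x hx h hh => (mem_normalizer_iff.mp (Sigma.le_normalizer_sigmaCore _ hx) h).mp hh)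
      (fun i h hh hh1 => inf_centralizer_le hG (hLM i) (hall _ (hLM i)) hh hh1)
      (fun i j hij => ?_) (fun i => ⟨isTI_core hG (hLM i) (hC _ (hLM i)), normalizer_core hG (hLM i)⟩)
      hcover
    · refine lt_of_le_of_ne (Sigma.sigmaCore_le _) fun e => ?_
      exact (Cfsg.Agent.Coprime.commutator_lt_of_isSolvable (Transitivity.isSolvable_of_ne_top hG (hLM i).1)
        (fun e' => Sigma.sigmaCore_ne_bot hG (hLM i) (e.trans e'))).not_ge
        (e.ge.trans (Sigma.sigmaCore_le_commutator hG (hLM i)))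
    · have hne : ∀ g : G, L j ≠ (L i).map (MulAut.conj g).toMonoidHom := fun g hg => hij (by
        rw [← Quotient.out_eq i, ← Quotient.out_eq j]
        exact Quotient.sound ⟨g, hg⟩)
      refine Nat.coprime_of_dvd fun r hr h1 h2 => ?_
      exact not_sigma_of_ne hG (hLM i) (hLM j) hne
        (Transitivity.isPi_piCoreOf (sigma (L i)) (L i) r hr h1)
        (Transitivity.isPi_piCoreOf (sigma (L j)) (L j) r hr h2)
  · haveI : Subsingleton (Quotient s) := Fintype.card_le_one_iff_subsingleton.mp (by omega)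
    obtain ⟨g₀, hg₀⟩ : ∃ g : G, g ≠ 1 := by
      haveI := hG.2.1
      exact exists_ne 1
    obtain ⟨i, -⟩ := hcover g₀ hg₀
    have hsub : ({1}ᶜ : Set G) ⊆ tildeOf (L i) ((sigmaCore (L i) : Set G) \ {1}) := fun g hg => by
      obtain ⟨j, x, hx⟩ := hcover g hg
      rw [Subsingleton.elim j i] at hx
      exact SupportR.mem_tilde.mpr ⟨x * g * x⁻¹, ⟨hx, fun e => hg (conj_eq_one_iff.mp e)⟩, 1,
        one_mem _, x⁻¹, by group⟩
    have h1 := Set.ncard_le_ncard hsub (Set.toFinite _)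
    rw [S1377.result hG (L i) (hLM i), Set.ncard_compl, Set.ncard_singleton] at h1
    have h2 : Nat.card (sigmaCore (L i)) ≤ Nat.card (L i) :=
      Nat.le_of_dvd Nat.card_pos (card_dvd_of_le (Sigma.sigmaCore_le _))
    have h3 := (L i).card_mul_index
    have h4 : 1 < (L i).index := by
      rcases Nat.lt_or_ge 1 (L i).index with h | h
      · exact h
      · exact absurd (index_eq_one.mp (le_antisymm h (Nat.pos_of_ne_zero index_ne_zero_of_finite)))
          (hLM i).1
    have h5 : 1 ≤ Nat.card (sigmaCore (L i)) := Nat.card_pos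
    have h6 : (Nat.card (sigmaCore (L i)) - 1) * (L i).index + (L i).index ≤ Nat.card G := by
      rw [← Nat.succ_mul, Nat.succ_eq_add_one, Nat.sub_add_cancel h5, ← h3]
      exact Nat.mul_le_mul_right _ h2
    omega

end Cfsg.Agent.OddChar.TypeOne.Gap
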