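import Cfsg.Agent.OddChar.TypeOne.Gap.TypeI
import Cfsg.Agent.OddChar.TypeOne.Gap.AllFrobenius
import Cfsg.Agent.OddLocal.PTypeCover
import Cfsg.Agent.S1383

/-!
# The types of all maximal subgroups
-/

set_option autoImplicit false

namespace Cfsg.Agent.OddChar.TypeOne.Gap

open Cfsg Subgroup
open Cfsg.Agent.OddLocal

variable {G : Type*} [Group G] [Finite G] {M K U : Subgroup G}

theorem typeP_cases (hG : IsMinSimpleOddOrder G) (hM : IsCoatom M) (hKU : IsSigmaDecomposition M K U)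
    (hK : K ≠ ⊥) : IsOfTypeII M ∨ IsOfTypeIII M ∨ IsOfTypeIV M ∨ IsOfTypeV M := by
  by_cases hU : U = ⊥
  · by_cases hF : fittingHallOf M = sigmaCore M
    · exact Or.inr (Or.inr (Or.inr ((S1383.result hG M hM K U hKU).mpr ⟨hK, hU, hF⟩)))
    · rcases Types.typeIII_or_IV hG hM hKU hF with h | h
      exacts [Or.inr (Or.inl h), Or.inr (Or.inr (Or.inl h))]
  · exact Or.inl (Types.typeII hG hM hKU hK hU)

theorem typeI_of_kappa (hG : IsMinSimpleOddOrder G) (hM : IsCoatom M) (hκ : kappa M = ∅) : IsOfTypeI M := by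
  obtain ⟨K, U, hKU⟩ := Fcore.exists_decomp hG hM
  have hK : K = ⊥ := card_eq_one.mp (Nat.eq_one_iff_not_exists_prime_dvd.mpr
    fun r hr hd => Set.notMem_empty r (hκ ▸ hKU.hall.2.1 r hr hd))
  refine isOfTypeI hG hM hKU hK fun hU => ?_
  have hE := KappaDecomp.isCompl hKU
  rw [hU, hK, sup_bot_eq] at hE
  have hMσ : M ≤ sigmaCore M := fun m hm => by
    obtain ⟨a, ha, b, hb, rfl⟩ := hE.2.2.2 m hm
    rwa [mem_bot.mp ha, one_mul]
  exact (Cfsg.Agent.Coprime.commutator_lt_of_isSolvable (Transitivity.isSolvable_of_ne_top hG hM.1)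
    (fun e => Sigma.sigmaCore_ne_bot hG hM (le_bot_iff.mp (e ▸ Sigma.sigmaCore_le M)))).not_ge
      (hMσ.trans (Sigma.sigmaCore_le_commutator hG hM))

end Cfsg.Agent.OddChar.TypeOne.Gap
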