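import Cfsg.Agent.OddChar.TypeOne.Gap.Tame
import Cfsg.Agent.OddChar.TypeOne.Gap.Structure
import Cfsg.Agent.OddLocal.SupportR

/-!
# When one maximal subgroup supports another
-/

set_option autoImplicit false
set_option linter.unusedSectionVars false

namespace Cfsg.Agent.OddChar.TypeOne.Gap

open Cfsg Subgroup
open Cfsg.Agent.OddLocal Cfsg.Agent.OddLocal.SigmaParts
open Cfsg.Agent.Transfer.Fusion (map_conj_one map_conj_mul map_conj_inv_cancel)

variable {G : Type*} [Group G] [Finite G] {M S T : Subgroup G} {x : G}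

theorem typeI_iff (hG : IsMinSimpleOddOrder G) (hM : IsCoatom M) : IsOfTypeI M ↔ kappa M = ∅ := by
  refine ⟨fun hI => ?_, typeI_of_kappa hG hM⟩
  obtain ⟨K, U, hKU⟩ := Fcore.exists_decomp hG hM
  exact kappa_eq_empty hKU (Types.of_typeI hG hM hKU hI).1

theorem typeA_eq (hG : IsMinSimpleOddOrder G) (hM : IsCoatom M) :
    typeA M = {a | a ∈ M ∧ ((kappa M).Nonempty → a ∈ ⁅M, M⁆) ∧ a ≠ 1 ∧
      ∃ x ∈ sigmaCore M, x ≠ 1 ∧ a * x = x * a} := by
  rcases (kappa M).eq_empty_or_nonempty with h | h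
  · rw [typeA, if_pos ((typeI_iff hG hM).mpr h), ← core_eq_fittingHallOf hG hM h, h]
    ext a
    simp
  · rw [typeA, if_neg fun hI => Set.not_nonempty_empty ((typeI_iff hG hM).mp hI ▸ h),
      Types.typeCore_eq hG hM]
    ext a
    exact ⟨fun ⟨h1, h2, h3⟩ => ⟨commutator_le_self M h1, fun _ => h1, h2, h3⟩,
      fun ⟨_, h1, h2, h3⟩ => ⟨h1 h, h2, h3⟩⟩

theorem typeA_conj (hG : IsMinSimpleOddOrder G) (hM : IsCoatom M) (g : G) {a : G} :
    a ∈ typeA M → g * a * g⁻¹ ∈ typeA (M.map (MulAut.conj g).toMonoidHom) := by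
  rw [typeA_eq hG hM, typeA_eq hG (Unique.isCoatom_map_conj hM g)]
  rintro ⟨haM, hcom, ha1, y, hy, hy1, hay⟩
  refine ⟨⟨a, haM, rfl⟩, fun hne => ?_, fun e => ha1 (conj_eq_one_iff.mp e), g * y * g⁻¹, ?_,
    fun e => hy1 (conj_eq_one_iff.mp e), ((Commute.conj_iff g).mpr hay).eq⟩
  · rw [← Subgroup.map_commutator]
    exact ⟨a, hcom (by rwa [PType.kappa_eq hG] at hne), rfl⟩
  · rw [sigmaCore_map]; exact ⟨y, hy, rfl⟩

theorem typeA1_eq (hG : IsMinSimpleOddOrder G) (hM : IsCoatom M) :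
    typeA1 M = (sigmaCore M : Set G) \ {1} := by rw [typeA1, Types.typeCore_eq hG hM]

theorem core_subset_typeA (hG : IsMinSimpleOddOrder G) (hM : IsCoatom M) :
    typeA1 M ⊆ typeA M := by
  rw [typeA1_eq hG hM, typeA_eq hG hM]
  rintro a ⟨ha, ha1⟩
  exact ⟨Sigma.sigmaCore_le M ha, fun _ => Sigma.sigmaCore_le_commutator hG hM ha, ha1, a, ha, ha1, rfl⟩

/-- An element of `M` outside `M_σ` with a fixed point, none of whose primes is in `κ(M)`, is in `A(M)`. -/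
theorem mem_typeA (hG : IsMinSimpleOddOrder G) (hM : IsCoatom M) (hx : x ∈ M) (hx1 : x ≠ 1)
    (hy : ∃ y ∈ sigmaCore M, y ≠ 1 ∧ x * y = y * x)
    (hκ : ∀ p : ℕ, p.Prime → p ∣ orderOf x → p ∉ kappa M) : x ∈ typeA M := by
  rw [typeA_eq hG hM]
  refine ⟨hx, fun hne => ?_, hx1, hy⟩
  obtain ⟨K, U, hKU⟩ := Fcore.exists_decomp hG hM
  have hK : K ≠ ⊥ := fun e => Set.not_nonempty_empty (kappa_eq_empty hKU e ▸ hne)
  rw [PType.commutator_eq hG hM hKU hK]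
  exact KappaDecomp.mem_sup_of_not_kappa hG hM hKU hx hκ

theorem not_kappa_of_typeA (hG : IsMinSimpleOddOrder G) (hM : IsCoatom M) (hx : x ∈ typeA M) {p : ℕ}
    (hp : p.Prime) (hd : p ∣ orderOf x) : p ∉ kappa M := fun hκ => by
  rw [typeA_eq hG hM] at hx
  obtain ⟨hxM, hcom, -, hy⟩ := hx
  obtain ⟨K, U, hKU⟩ := Fcore.exists_decomp hG hM
  have hK : K ≠ ⊥ := fun e => Set.notMem_empty p (kappa_eq_empty hKU e ▸ hκ)
  have hx' := hcom ⟨p, hκ⟩
  rw [PType.commutator_eq hG hM hKU hK] at hx'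
  exact (DadeSets.mem_sigmaA_iff hG hM hKU ⟨hxM, hy⟩).mpr ⟨⟨hxM, hy⟩, hx'⟩ p hp hd hκ

variable (hG : IsMinSimpleOddOrder G) (hS : IsCoatom S) (hT : IsCoatom T)
  (hnc : ∀ g : G, T.map (MulAut.conj g).toMonoidHom ≠ S)
include hG hS hT hnc

theorem centralizer_of_inter (hx : x ∈ typeA1 S ∩ typeA T) :
    ¬ centralizer ({x} : Set G) ≤ S ∧ centralizer ({x} : Set G) ≤ T := by
  obtain ⟨hxS, hxT⟩ := hx
  rw [typeA1_eq hG hS] at hxS
  obtain ⟨hxσ, hx1⟩ := hxS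
  have hκ := fun {p : ℕ} => not_kappa_of_typeA hG hT hxT (p := p)
  rw [typeA_eq hG hT] at hxT
  obtain ⟨hxT, -, -, y, hy, hy1, hxy⟩ := hxT
  have hσ : ∀ p : ℕ, p.Prime → p ∣ orderOf x → p ∉ sigma T :=
    piEl_of_sigma_ne hG hT hS (fun g e => hnc g e.symm) (mem_sigma_core hxσ)
  rcases S1432.result hG T hT y hy hy1 x
    (mem_inf.mpr ⟨hxT, mem_centralizer_singleton_iff.mpr hxy⟩) hx1 hσ with
    ⟨hk, -⟩ | ⟨-, -, hle, huniq⟩
  · obtain ⟨p, hp, hd⟩ := Nat.exists_prime_and_dvd (mt orderOf_eq_one_iff.mp hx1)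
    exact absurd (hk p hp hd) (hκ hp hd)
  · refine ⟨fun hleS => hnc 1 ?_, hle⟩
    rw [map_conj_one]
    exact (huniq S hS hleS).symm

theorem supports_iff : Supports T S ↔ (typeA1 S ∩ typeA T).Nonempty := by
  constructor
  · rintro ⟨-, x, hx, hxS, hxT⟩
    obtain ⟨K, U, hKU⟩ := Fcore.exists_decomp hG hS
    obtain ⟨hsub, -, -⟩ := DadeSets.three_sets hG hS hKU (typeA0 S) (Or.inr (Or.inr rfl))
    obtain ⟨hx0, hx1⟩ := hsub x hx
    have hxσ := (DadeSets.fusion_centralizer hG hS hKU hx0 hx1).2 hxS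
    obtain ⟨N, h⟩ := Signalizer.exists_sig hG hS hxσ hx1 hxS
    obtain rfl := h.uniq T hT hxT
    refine ⟨x, ?_, (support_typeII hG hS hxσ hx1 hxS h).2.1⟩
    rw [typeA1_eq hG hS]
    exact ⟨hxσ, hx1⟩
  · rintro ⟨x, hx⟩
    exact ⟨hT, x, Or.inl (core_subset_typeA hG hS hx.1), centralizer_of_inter hG hS hT hnc hx⟩

omit hnc in
theorem nc_map (hnc : ∀ g : G, T.map (MulAut.conj g).toMonoidHom ≠ S) (g : G) :
    ∀ h : G, (T.map (MulAut.conj g).toMonoidHom).map (MulAut.conj h).toMonoidHom ≠ S := fun h => by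
  rw [← map_conj_mul]
  exact hnc _

theorem exists_supports_iff : (∃ g : G, Supports (T.map (MulAut.conj g).toMonoidHom) S) ↔
    (tildeOf S (typeA1 S) ∩ tildeOf T (typeA T)).Nonempty := by
  have hTg := Unique.isCoatom_map_conj hT
  constructor
  · rintro ⟨g, hg⟩
    obtain ⟨x, hx1, hx2⟩ := (supports_iff hG hS (hTg g) (nc_map hG hS hT hnc g)).mp hg
    have hxT := typeA_conj hG (hTg g) g⁻¹ hx2
    rw [map_conj_inv_cancel, inv_inv] at hxT
    exact ⟨x, SupportR.mem_tilde.mpr ⟨x, hx1, 1, one_mem _, 1, by group⟩,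
      SupportR.mem_tilde.mpr ⟨g⁻¹ * x * g, hxT, 1, one_mem _, g, by group⟩⟩
  · rintro ⟨w, hwS, hwT⟩
    have hwS' := hwS
    rw [typeA1_eq hG hS] at hwS'
    obtain ⟨a, ⟨haσ, ha1⟩, r, hr, y, rfl⟩ := SupportR.mem_tilde.mp hwS'
    obtain ⟨b, hb, s, hs, z, e⟩ := SupportR.mem_tilde.mp hwT
    have hb1 : b ≠ 1 := by rw [typeA_eq hG hT] at hb; exact hb.2.2.1
    by_cases hbσ : b ∈ sigmaCore T
    · exfalso
      have hd := SupportR.tilde_disjoint hG hS hT fun g e => hnc g⁻¹ (by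
        rw [e, map_conj_inv_cancel])
      refine Set.eq_empty_iff_forall_notMem.mp hd _ ⟨hwS', SupportR.mem_tilde.mpr
        ⟨b, ⟨hbσ, hb1⟩, s, hs, z, e⟩⟩
    obtain ⟨K, U, hKU⟩ := Fcore.exists_decomp hG hT
    obtain ⟨hsub, -, -⟩ := DadeSets.three_sets hG hT hKU (typeA T) (Or.inr (Or.inl rfl))
    have hC : centralizer ({b} : Set G) ≤ T := by
      by_contra hC
      exact hbσ ((DadeSets.fusion_centralizer hG hT hKU (hsub b hb).1 hb1).2 hC)
    rw [SupportR.supportR_of_le hC, mem_bot] at hs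
    subst hs
    rw [mul_one] at e
    obtain ⟨har, hrσ, -⟩ := SupportR.mem_cases hG hS haσ ha1 hr
    have ha : a ∈ zpowers (a * r) :=
      mem_zpowers_mul har (coprime_of_parts (mem_sigma_core haσ) hrσ)
    set g := y⁻¹ * z
    have hb' : a * r = g * b * g⁻¹ := by
      calc a * r = y⁻¹ * (y * (a * r) * y⁻¹) * y := by group
        _ = y⁻¹ * (z * b * z⁻¹) * y := by rw [e]
        _ = g * b * g⁻¹ := by simp only [g]; group
    obtain ⟨i, hi⟩ := mem_zpowers_iff.mp ha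
    rw [hb', conj_zpow] at hi
    have hbi : b ^ i ∈ typeA T := by
      have hκ := fun {p : ℕ} => not_kappa_of_typeA hG hT hb (p := p)
      rw [typeA_eq hG hT] at hb
      obtain ⟨hbT, -, -, v, hv, hv1, hbv⟩ := hb
      refine mem_typeA hG hT (zpow_mem hbT i) (fun h => ha1 ?_) ⟨v, hv, hv1,
        ((show Commute b v from hbv).zpow_left i).eq⟩ fun p hp hd => hκ hp (hd.trans (orderOf_dvd_of_mem_zpowers (zpow_mem_zpowers b i)))
      rw [← hi, h, mul_one, mul_inv_cancel]; rfl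
    refine ⟨g, (supports_iff hG hS (hTg g) (nc_map hG hS hT hnc g)).mpr ⟨a, ?_, ?_⟩⟩
    · rw [typeA1_eq hG hS]; exact ⟨haσ, ha1⟩
    · rw [← hi]; exact typeA_conj hG hT g hbi

omit hnc in
theorem kappa_of_supports (hsup : Supports T S) : kappa S = ∅ ∧ (kappa T).Nonempty := by
  obtain ⟨-, x, hx, hxS, hxT⟩ := hsup
  obtain ⟨K, U, hKU⟩ := Fcore.exists_decomp hG hS
  obtain ⟨hsub, -, -⟩ := DadeSets.three_sets hG hS hKU (typeA0 S) (Or.inr (Or.inr rfl))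
  obtain ⟨hx0, hx1⟩ := hsub x hx
  have hxσ := (DadeSets.fusion_centralizer hG hS hKU hx0 hx1).2 hxS
  exact ⟨kappa_empty_of_not_le hG hS hxσ hx1 hxS, kappa_nonempty hG hS hxσ hx1 hxS hT hxT⟩

end Cfsg.Agent.OddChar.TypeOne.Gap
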