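import Cfsg.Agent.OddChar.Dade.Sum
import Cfsg.Agent.OddChar.Coherence.Basic
import Cfsg.Agent.S1500
import Cfsg.Agent.S1501

/-!
# Averages over the cosets of a Dade set-up, and the norm inequality for two of them
-/

set_option autoImplicit false
set_option linter.unusedSectionVars false

namespace Cfsg.Agent.OddChar.TypeOne.Gap

open Cfsg.Agent.Characters Cfsg.Agent.OddChar
open scoped ComplexConjugate

universe u

variable {G : Type u} [Group G] [Fintype G]

open Classical in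
/-- The average of `ψ` over `a R(a)`. -/
noncomputable def rho (R : G → Subgroup G) (ψ : G → ℂ) (a : G) : ℂ :=
  (Nat.card (R a) : ℂ)⁻¹ * ∑ r ∈ Finset.univ.filter (fun r => r ∈ R a), ψ (a * r)

variable {A A' : Set G} {L : Subgroup G} {R : G → Subgroup G}

theorem rho_of_bot {ψ : G → ℂ} {a : G} (h : R a = ⊥) : rho R ψ a = ψ a := by
  classical
  unfold rho
  rw [h, show (Finset.univ.filter fun r : G => r ∈ (⊥ : Subgroup G)) = {1} by ext; simp]
  simp

/-- Averages see only the values on the coset. -/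
theorem rho_congr {ψ ψ' : G → ℂ} {a : G} (h : ∀ r ∈ R a, ψ (a * r) = ψ' (a * r)) :
    rho R ψ a = rho R ψ' a := by
  classical
  unfold rho
  exact congrArg _ (Finset.sum_congr rfl fun r hr => h r (Finset.mem_filter.1 hr).2)

theorem rho_const {ψ : G → ℂ} {a : G} {c : ℂ} (h : ∀ r ∈ R a, ψ (a * r) = c) : rho R ψ a = c := by
  classical
  unfold rho
  rw [Finset.sum_congr rfl fun r hr => h r (Finset.mem_filter.1 hr).2, Finset.sum_const, nsmul_eq_mul,
    ← Fintype.card_subtype, ← Nat.card_eq_fintype_card,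
    inv_mul_cancel_left₀ (Nat.cast_ne_zero.2 Nat.card_pos.ne')]

/-- A smaller stable set still gives a Dade set-up. -/
theorem dade_mono (hD : Cfsg.DadeHypothesis A L R) (hsub : A' ⊆ A)
    (hst : ∀ x ∈ L, ∀ a ∈ A', x * a * x⁻¹ ∈ A') : Cfsg.DadeHypothesis A' L R where
  one_not_mem := fun h => hD.one_not_mem (hsub h)
  subset := hsub.trans hD.subset
  conj_mem := hst
  fusion := fun a ha g hg => hD.fusion a (hsub ha) g (hsub hg)
  le_centralizer := fun a ha => hD.le_centralizer a (hsub ha)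
  conj_mem_H := fun a ha => hD.conj_mem_H a (hsub ha)
  inf_eq_bot := fun a ha => hD.inf_eq_bot a (hsub ha)
  sup_eq := fun a ha => hD.sup_eq a (hsub ha)
  coprime := fun a ha b hb => hD.coprime a (hsub ha) b (hsub hb)

variable (hD : Cfsg.DadeHypothesis A L R)
include hD

theorem rho_conj {ψ : G → ℂ} (hψ : Cfsg.IsClassFunction G ψ) {a x : G} (ha : a ∈ A) (hx : x ∈ L) :
    rho R ψ (x * a * x⁻¹) = rho R ψ a := by
  classical
  unfold rho
  rw [Dade.card_H_conj hD ha (hD.conj_mem x hx a ha)]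
  congr 1
  refine (Finset.sum_bij' (fun r _ => x * r * x⁻¹) (fun r _ => x⁻¹ * r * x) ?_ ?_ ?_ ?_ ?_).symm
  · intro r hr
    exact Finset.mem_filter.2 ⟨Finset.mem_univ _, Dade.conj_mem_HL hD ha hx (Finset.mem_filter.1 hr).2⟩
  · intro r hr
    refine Finset.mem_filter.2 ⟨Finset.mem_univ _, ?_⟩
    have := Dade.conj_mem_HL hD (hD.conj_mem x hx a ha) (inv_mem hx) (Finset.mem_filter.1 hr).2
    rw [inv_inv] at this
    convert this using 2
    group
  · intro r _; group
  · intro r _; group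
  · intro r _
    rw [← hψ (a * r) x]
    congr 1
    group

/-- The Dade image against a class function. -/
theorem inner_rho [Fintype L] {α : L → ℂ} (hα : Cfsg.IsClassFunction L α)
    (hαA : ∀ x : L, (x : G) ∉ A → α x = 0) {ψ : G → ℂ} (hψ : Cfsg.IsClassFunction G ψ) :
    Cfsg.classInner (Cfsg.dadeIsometry A L R α) ψ = Cfsg.classInner α fun a : L => rho R ψ a := by
  classical
  exact Dade.inner_eq hD hα hαA hψ fun a _ => rfl

/-- On functions supported in a smaller stable set the Dade map does not depend on the set. -/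
theorem dade_restrict (hsub : A' ⊆ A) {α : L → ℂ} (hα : Cfsg.IsClassFunction L α)
    (hD' : Cfsg.DadeHypothesis A' L R) (hα' : ∀ x : L, (x : G) ∉ A' → α x = 0) :
    Cfsg.dadeIsometry A L R α = Cfsg.dadeIsometry A' L R α := by
  funext g
  by_cases h : ∃ a ∈ A, ∃ x : G, ∃ r ∈ R a, x * g * x⁻¹ = a * r
  · obtain ⟨a, ha, x, r, hr, e⟩ := h
    rw [Dade.apply_eq hD hα ha hr e]
    by_cases ha' : a ∈ A'
    · rw [Dade.apply_eq hD' hα ha' hr e]
    · rw [hα' _ ha', Dade.apply_eq_zero]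
      intro b hb y s hs e'
      have h1 : y * x⁻¹ * (a * r) * (y * x⁻¹)⁻¹ = b * s := by rw [← e, ← e']; group
      obtain ⟨l, hl, hle⟩ := Dade.exists_fusion hD ha (hsub hb)
        (Dade.conj_eq hD ha (hsub hb) hr hs h1).1
      refine ha' ?_
      have := hD'.conj_mem l⁻¹ (inv_mem hl) b hb
      rw [← hle] at this
      convert this using 1
      group
  · push Not at h
    rw [Dade.apply_eq_zero h, Dade.apply_eq_zero fun b hb => h b (hsub hb)]

open Classical in
/-- The part of the norm of `ψ` seen by the averages. -/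
theorem norm_part {ψ : G → ℂ} (hψ : Cfsg.IsClassFunction G ψ) :
    (Nat.card L : ℝ)⁻¹ * ∑ a ∈ Finset.univ.filter (fun a => a ∈ A), ‖rho R ψ a‖ ^ 2 ≤
      (Nat.card G : ℝ)⁻¹ * ∑ g ∈ Finset.univ.filter (fun g => g ∈ Dade.support A R), ‖ψ g‖ ^ 2 := by
  have key := Dade.sum_support hD (fun g => ((‖ψ g‖ ^ 2 : ℝ) : ℂ)) fun g z => by simp only [hψ g z]
  simp only [← Complex.ofReal_natCast, ← Complex.ofReal_inv, ← Complex.ofReal_sum,
    ← Complex.ofReal_mul, Complex.ofReal_inj] at key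
  rw [key]
  refine mul_le_mul_of_nonneg_left (Finset.sum_le_sum fun a _ => ?_) (by positivity)
  simp only [rho]
  set s := Finset.univ.filter fun r : G => r ∈ R a
  have hc : (s.card : ℝ) = Nat.card (R a) := by
    rw [Nat.card_eq_fintype_card, Fintype.card_subtype]
  have hpos : (0 : ℝ) < Nat.card (R a) := Nat.cast_pos.2 Nat.card_pos
  have h1 : ‖∑ r ∈ s, ψ (a * r)‖ ^ 2 ≤ (s.card : ℝ) * ∑ r ∈ s, ‖ψ (a * r)‖ ^ 2 :=
    (pow_le_pow_left₀ (norm_nonneg _) (norm_sum_le _ _) 2).trans sq_sum_le_card_mul_sum_sq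
  rw [hc] at h1
  rw [norm_mul, norm_inv, Complex.norm_natCast, mul_pow, inv_pow]
  calc ((Nat.card (R a) : ℝ) ^ 2)⁻¹ * ‖∑ r ∈ s, ψ (a * r)‖ ^ 2
      ≤ ((Nat.card (R a) : ℝ) ^ 2)⁻¹ * ((Nat.card (R a) : ℝ) * ∑ r ∈ s, ‖ψ (a * r)‖ ^ 2) :=
        mul_le_mul_of_nonneg_left h1 (by positivity)
    _ = (Nat.card (R a) : ℝ)⁻¹ * ∑ r ∈ s, ‖ψ (a * r)‖ ^ 2 := by field_simp

open Classical in
/-- Two set-ups with disjoint supports share the norm. -/
theorem norm_split {B : Set G} {M : Subgroup G} {R' : G → Subgroup G}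
    (hD' : Cfsg.DadeHypothesis B M R') (hdisj : ∀ g ∈ Dade.support A R, g ∉ Dade.support B R')
    {ψ : G → ℂ} (hψ : Cfsg.IsClassFunction G ψ) (h1 : Cfsg.classInner ψ ψ = 1) :
    (Nat.card L : ℝ)⁻¹ * ∑ a ∈ Finset.univ.filter (fun a => a ∈ A), ‖rho R ψ a‖ ^ 2 +
      (Nat.card M : ℝ)⁻¹ * ∑ a ∈ Finset.univ.filter (fun a => a ∈ B), ‖rho R' ψ a‖ ^ 2 ≤ 1 := by
  refine (add_le_add (norm_part hD hψ) (norm_part hD' hψ)).trans ?_
  rw [← mul_add, ← Finset.sum_union]
  · have h2 : (Nat.card G : ℝ)⁻¹ * ∑ g, ‖ψ g‖ ^ 2 = 1 := by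
      rw [Coherence.self_eq] at h1
      exact_mod_cast h1
    refine le_of_le_of_eq (mul_le_mul_of_nonneg_left (Finset.sum_le_sum_of_subset_of_nonneg
      (Finset.subset_univ _) fun g _ _ => by positivity) (by positivity)) h2
  · exact Finset.disjoint_filter.2 fun g _ hg => hdisj g hg

end Cfsg.Agent.OddChar.TypeOne.Gap
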