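import Cfsg.Agent.S1494
import Cfsg.Agent.S1495
import Cfsg.Agent.Lib.Characters.Induction
import Mathlib

/-!
# Congruences modulo `1 - ζ_p`, up to multipliers prime to `p`
-/

set_option autoImplicit false

namespace Cfsg.Agent.OddChar.TypeOne.Gap

/-- `ζ_p`. -/
noncomputable def root (p : ℕ) : ℂ := Complex.exp (2 * Real.pi * Complex.I / p)

/-- `x ≡ y` modulo `1 - ζ_p` in the algebraic integers localised away from `p`. -/
def Cong (p : ℕ) (x y : ℂ) : Prop :=
  ∃ m : ℕ, ¬ p ∣ m ∧ ∃ ω : ℂ, IsIntegral ℤ ω ∧ (m : ℂ) * (x - y) = (1 - root p) * ω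

theorem isIntegral_root {p : ℕ} (hp : p.Prime) : IsIntegral ℤ (root p) :=
  IsIntegral.of_pow hp.pos (by
    rw [root, ← Complex.exp_nat_mul,
      mul_div_cancel₀ _ (Nat.cast_ne_zero.2 hp.ne_zero), Complex.exp_two_pi_mul_I]
    exact isIntegral_one)

/-- `p` is a multiple of `1 - ζ_p`. -/
theorem prime_eq {p : ℕ} (hp : p.Prime) : ∃ ω : ℂ, IsIntegral ℤ ω ∧ (p : ℂ) = (1 - root p) * ω := by
  refine ⟨∑ i ∈ Finset.range p, ∑ j ∈ Finset.range i, root p ^ j,
    IsIntegral.sum _ fun i _ => IsIntegral.sum _ fun j _ => (isIntegral_root hp).pow j, ?_⟩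
  have h : ∑ i ∈ Finset.range p, root p ^ i = 0 :=
    (Complex.isPrimitiveRoot_exp p hp.ne_zero).geom_sum_eq_zero hp.one_lt
  rw [Finset.mul_sum, Finset.sum_congr rfl fun i _ => mul_neg_geom_sum (root p) i,
    Finset.sum_sub_distrib, h, sub_zero, Finset.sum_const, Finset.card_range, nsmul_one]

namespace Cong

variable {p : ℕ}

theorem refl (hp : p.Prime) (x : ℂ) : Cong p x x :=
  ⟨1, hp.not_dvd_one, 0, isIntegral_zero, by simp⟩

theorem of_eq (hp : p.Prime) {x y : ℂ} (h : x = y) : Cong p x y := h ▸ refl hp x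

theorem symm {x y : ℂ} (h : Cong p x y) : Cong p y x := by
  obtain ⟨m, hm, ω, hω, e⟩ := h
  exact ⟨m, hm, -ω, hω.neg, by linear_combination -e⟩

theorem add (hp : p.Prime) {x y z w : ℂ} (h : Cong p x y) (h' : Cong p z w) :
    Cong p (x + z) (y + w) := by
  obtain ⟨m, hm, ω, hω, e⟩ := h
  obtain ⟨n, hn, ν, hν, e'⟩ := h'
  refine ⟨m * n, fun hd => (hp.dvd_mul.1 hd).elim hm hn, (n : ℂ) * ω + (m : ℂ) * ν,
    (isIntegral_algebraMap.mul hω).add (isIntegral_algebraMap.mul hν) , ?_⟩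
  · push_cast
    linear_combination (n : ℂ) * e + (m : ℂ) * e'

theorem trans (hp : p.Prime) {x y z : ℂ} (h : Cong p x y) (h' : Cong p y z) : Cong p x z := by
  obtain ⟨m, hm, ω, hω, e⟩ := add hp h h'
  exact ⟨m, hm, ω, hω, by linear_combination e⟩

theorem neg {x y : ℂ} (h : Cong p x y) : Cong p (-x) (-y) := by
  obtain ⟨m, hm, ω, hω, e⟩ := h
  exact ⟨m, hm, -ω, hω.neg, by linear_combination -e⟩

theorem sum (hp : p.Prime) {ι : Type*} (s : Finset ι) {f g : ι → ℂ}
    (h : ∀ i ∈ s, Cong p (f i) (g i)) : Cong p (∑ i ∈ s, f i) (∑ i ∈ s, g i) := by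
  classical
  induction s using Finset.induction_on with
  | empty => simpa using refl hp 0
  | insert a s ha ih =>
    rw [Finset.sum_insert ha, Finset.sum_insert ha]
    exact add hp (h a (Finset.mem_insert_self a s)) (ih fun i hi => h i (Finset.mem_insert_of_mem hi))

theorem mul_left {x y c : ℂ} (hc : IsIntegral ℤ c) (h : Cong p x y) : Cong p (c * x) (c * y) := by
  obtain ⟨m, hm, ω, hω, e⟩ := h
  exact ⟨m, hm, c * ω, hc.mul hω, by linear_combination c * e⟩

theorem cancel (hp : p.Prime) {x y : ℂ} {n : ℕ} (hn : ¬ p ∣ n) (h : Cong p ((n : ℂ) * x) ((n : ℂ) * y)) :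
    Cong p x y := by
  obtain ⟨m, hm, ω, hω, e⟩ := h
  exact ⟨m * n, fun hd => (hp.dvd_mul.1 hd).elim hm hn, ω, hω, by push_cast; linear_combination e⟩

/-- A multiple of `p` is congruent to zero. -/
theorem of_dvd (hp : p.Prime) {z : ℤ} (h : (p : ℤ) ∣ z) : Cong p (z : ℂ) 0 := by
  obtain ⟨k, rfl⟩ := h
  obtain ⟨ω, hω, e⟩ := prime_eq hp
  exact ⟨1, hp.not_dvd_one, (k : ℂ) * ω, (isIntegral_algebraMap.mul hω), by
    push_cast; linear_combination (k : ℂ) * e⟩

theorem dvd (hp : p.Prime) {a b : ℤ} (h : Cong p (a : ℂ) (b : ℂ)) : (p : ℤ) ∣ a - b := by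
  obtain ⟨m, hm, ω, hω, e⟩ := h
  have h1 := S1495.result p hp ((m : ℤ) * (a - b)) ω hω (by push_cast; exact e)
  refine ((Nat.prime_iff_prime_int.1 hp).dvd_or_dvd h1).resolve_left fun hd => hm ?_
  exact_mod_cast hd

/-- A generalized character at an element of order `p` times a commuting one. -/
theorem char_mul {G : Type*} [Group G] [Finite G] {χ : G → ℂ} (hχ : Cfsg.IsGeneralizedCharacter G χ)
    (hp : p.Prime) {x y : G} (hx : orderOf x = p) (hxy : x * y = y * x) :
    Cong p (χ (x * y)) (χ y) := by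
  obtain ⟨ω, hω, e⟩ := S1494.result χ hχ p hp x y hx hxy
  exact ⟨1, hp.not_dvd_one, ω, hω, by rw [Nat.cast_one, one_mul, e]; rfl⟩

theorem char_one {G : Type*} [Group G] [Finite G] {χ : G → ℂ} (hχ : Cfsg.IsGeneralizedCharacter G χ)
    (hp : p.Prime) {x : G} (hx : orderOf x = p) : Cong p (χ x) (χ 1) := by
  simpa using char_mul hχ hp hx (y := 1) (by simp)

/-- A sum over the orbits of a permutation of order `p` only sees the fixed points. -/
theorem sum_fixed (hp : p.Prime) {X : Type*} [DecidableEq X] (σ : Equiv.Perm X) (hσ : σ ^ p = 1)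
    (s : Finset X) (hs : ∀ x ∈ s, σ x ∈ s) (f : X → ℂ) (hf : ∀ x ∈ s, f (σ x) = f x)
    {m : ℕ} (hm : ¬ p ∣ m) (hint : ∀ x ∈ s, IsIntegral ℤ ((m : ℂ) * f x)) :
    Cong p (∑ x ∈ s, f x) (∑ x ∈ s.filter (fun x => σ x = x), f x) := by
  induction hn : s.card using Nat.strong_induction_on generalizing s with
  | _ n ih => ?_
  by_cases hfix : ∀ x ∈ s, σ x = x
  · rw [Finset.filter_true_of_mem hfix]; exact refl hp _
  push Not at hfix
  obtain ⟨x, hx, hxne⟩ := hfix
  set O : Finset X := (Finset.range p).image fun i : ℕ => (σ ^ i) x with hO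
  have hpow : ∀ i : ℕ, (σ ^ i) x ∈ s := fun i => by
    induction i with
    | zero => simpa using hx
    | succ i ih' => rw [pow_succ', Equiv.Perm.mul_apply]; exact hs _ ih'
  have hfpow : ∀ i : ℕ, f ((σ ^ i) x) = f x := fun i => by
    induction i with
    | zero => simp
    | succ i ih' => rw [pow_succ', Equiv.Perm.mul_apply, hf _ (hpow i), ih']
  have hOs : O ⊆ s := fun y hy => by
    obtain ⟨i, -, rfl⟩ := Finset.mem_image.1 hy
    exact hpow i
  have hper : Function.minimalPeriod σ x = p := by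
    have := Fact.mk hp
    refine Function.minimalPeriod_eq_prime (f := (σ : X → X)) ?_ hxne
    show (σ : X → X)^[p] x = x
    rw [← Equiv.Perm.coe_pow, hσ]; rfl
  have hmem : ∀ i : ℕ, (σ ^ i) x ∈ O := fun i => Finset.mem_image.2 ⟨i % p,
    Finset.mem_range.2 (Nat.mod_lt i hp.pos), by
      simp only [Equiv.Perm.coe_pow]
      rw [← hper, Function.iterate_mod_minimalPeriod_eq]⟩
  have hinj : Set.InjOn (fun i : ℕ => (σ ^ i) x) ↑(Finset.range p) := fun i hi j hj e => by
    simp only [Equiv.Perm.coe_pow] at e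
    exact Function.iterate_injOn_Iio_minimalPeriod
      (hper.symm ▸ Set.mem_Iio.2 (Finset.mem_range.1 hi) : i ∈ Set.Iio (Function.minimalPeriod σ x))
      (hper.symm ▸ Set.mem_Iio.2 (Finset.mem_range.1 hj) : j ∈ Set.Iio (Function.minimalPeriod σ x)) e
  have hOcard : O.card = p := by rw [hO, Finset.card_image_of_injOn hinj, Finset.card_range]
  have hclosed : ∀ y ∈ s \ O, σ y ∈ s \ O := fun y hy => by
    obtain ⟨hys, hyO⟩ := Finset.mem_sdiff.1 hy
    refine Finset.mem_sdiff.2 ⟨hs y hys, fun h => hyO ?_⟩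
    obtain ⟨i, -, e⟩ := Finset.mem_image.1 h
    have e' : y = (σ ^ (i + (p - 1))) x := σ.injective (by
      rw [← e, ← Equiv.Perm.mul_apply σ, ← pow_succ', add_assoc, Nat.sub_add_cancel hp.one_le,
        pow_add, hσ, mul_one])
    exact e' ▸ hmem _
  have hlt : (s \ O).card < n := by
    rw [Finset.card_sdiff_of_subset hOs, hOcard, hn]
    have := Finset.card_le_card hOs
    have := hp.pos
    omega
  have h := ih _ hlt (s \ O) hclosed (fun y hy => hf y (Finset.sdiff_subset hy))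
    (fun y hy => hint y (Finset.sdiff_subset hy)) rfl
  have hfilter : (s \ O).filter (fun y => σ y = y) = s.filter fun y => σ y = y := by
    ext y
    simp only [Finset.mem_filter, Finset.mem_sdiff]
    refine ⟨fun h => ⟨h.1.1, h.2⟩, fun h => ⟨⟨h.1, fun hy => ?_⟩, h.2⟩⟩
    obtain ⟨i, -, rfl⟩ := Finset.mem_image.1 hy
    refine hxne ((σ ^ i).injective ?_)
    rw [← Equiv.Perm.mul_apply, ← pow_succ, pow_succ', Equiv.Perm.mul_apply]
    exact h.2
  rw [hfilter] at h
  rw [← Finset.sum_sdiff hOs, ← add_zero (∑ x ∈ s.filter (fun x => σ x = x), f x)]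
  refine add hp h ?_
  rw [Finset.sum_congr rfl fun y hy => show f y = f x by
    obtain ⟨i, -, rfl⟩ := Finset.mem_image.1 hy; exact hfpow i, Finset.sum_const, hOcard, nsmul_eq_mul]
  obtain ⟨ω, hω, e⟩ := prime_eq hp
  exact ⟨m, hm, ω * ((m : ℂ) * f x), hω.mul (hint x hx), by
    linear_combination ((m : ℂ) * f x) * e⟩

end Cong

end Cfsg.Agent.OddChar.TypeOne.Gap
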