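import Cfsg.Agent.OddChar.TypeOne.Gap.Local.Main
import Cfsg.Agent.OddLocal.PartnerFrobenius3
import Cfsg.Agent.OddLocal.TypeClass

/-!
# Maximal subgroups without `κ`-primes are Frobenius groups
-/

set_option autoImplicit false
set_option linter.unusedSectionVars false

namespace Cfsg.Agent.OddChar.TypeOne.Gap

open Cfsg Subgroup
open scoped commutatorElement
open Cfsg.Agent.OddLocal Cfsg.Agent.OddLocal.SigmaParts

variable {G : Type*} [Group G] [Finite G] {M N K U : Subgroup G} {x : G}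

/-- An element of `M` centralising a nonidentity element of `M_σ` lies in `M_σ`. -/
theorem frob (hG : IsMinSimpleOddOrder G) (hM : IsCoatom M) (hκ : kappa M = ∅) {c a : G} (hc : c ∈ M)
    (ha : a ∈ sigmaCore M) (ha1 : a ≠ 1) (hca : c * a = a * c) : c ∈ sigmaCore M := by
  by_contra hcσ
  have hτ := tau2_eq_empty hG hM hκ
  obtain ⟨K, U, hKU⟩ := Fcore.exists_decomp hG hM
  have hE := KappaDecomp.isCompl hKU
  obtain ⟨k, hk, h, hh, rfl⟩ := hE.2.2.2 c hc
  have hkh : k * h * k⁻¹ ∈ sigmaCore M :=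
    (mem_normalizer_iff.mp (Sigma.le_normalizer_sigmaCore M (hE.1 hk)) h).mp hh
  have hcop : Nat.Coprime (orderOf k) (Nat.card (sigmaCore M)) :=
    Nat.coprime_of_dvd fun r hr h1 h2 => Compl.not_sigma hG hM hE hr
      (h1.trans (orderOf_dvd_natCard _ hk)) (Transitivity.isPi_piCoreOf (sigma M) M r hr h2)
  obtain ⟨x, hx, c', hc', hck, hconj⟩ := S1496.result (sigmaCore M) k
    (Sigma.le_normalizer_sigmaCore M (hE.1 hk)) hcop _ hkh
  rw [show k * h * k⁻¹ * k = k * h by group] at hconj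
  have hk1 : k ≠ 1 := fun e => hcσ (by rw [e, one_mul]; exact hh)
  have h1 : Commute (c' * k) (x * a * x⁻¹) := by
    rw [← hconj]
    exact (Commute.conj_iff x).2 hca
  obtain ⟨n, hn0, hn1⟩ := Nat.chineseRemainder (m := orderOf k) (n := Nat.card (sigmaCore M))
    hcop.symm 0 1
  have hpow : (c' * k) ^ n = k := by
    rw [(show Commute c' k from hck).mul_pow, show c' ^ n = 1 from orderOf_dvd_iff_pow_eq_one.1
      ((orderOf_dvd_natCard _ hc').trans (Nat.modEq_zero_iff_dvd.1 hn0)), one_mul]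
    conv_rhs => rw [← pow_one k]
    exact pow_eq_pow_iff_modEq.2 hn1
  have h2 := h1.pow_left n
  rw [hpow] at h2
  rcases S1432.result hG M hM (x * a * x⁻¹) (mul_mem (mul_mem hx ha) (inv_mem hx))
    (fun e => ha1 (conj_eq_one_iff.mp e)) k
    (mem_inf.mpr ⟨hE.1 hk, mem_centralizer_singleton_iff.mpr h2.eq⟩) hk1
    (fun r hr hd => Compl.not_sigma hG hM hE hr (hd.trans (orderOf_dvd_natCard _ hk))) with
    ⟨h, -⟩ | ⟨h, -⟩
  all_goals obtain ⟨r, hr, hd⟩ := Nat.exists_prime_and_dvd (mt orderOf_eq_one_iff.mp hk1)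
  · exact Set.notMem_empty r (hκ ▸ h r hr hd)
  · exact Set.notMem_empty r (hτ ▸ h r hr hd)

theorem inf_centralizer_le (hG : IsMinSimpleOddOrder G) (hM : IsCoatom M) (hκ : kappa M = ∅)
    (hx : x ∈ sigmaCore M) (hx1 : x ≠ 1) : M ⊓ centralizer ({x} : Set G) ≤ sigmaCore M := fun _ hc =>
  frob hG hM hκ (mem_inf.mp hc).1 hx hx1 (mem_centralizer_singleton_iff.mp (mem_inf.mp hc).2)

theorem nilpotent_core (hG : IsMinSimpleOddOrder G) (hM : IsCoatom M) (hκ : kappa M = ∅) :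
    Group.IsNilpotent (sigmaCore M) := by
  by_contra hn
  obtain ⟨K, U, hKU⟩ := Fcore.exists_decomp hG hM
  refine NonNilpotent.K_ne_bot hG hM hKU hn (card_eq_one.mp (Nat.eq_one_iff_not_exists_prime_dvd.mpr
    fun r hr hd => Set.notMem_empty r (hκ ▸ hKU.hall.2.1 r hr hd)))

theorem core_eq_fittingHallOf (hG : IsMinSimpleOddOrder G) (hM : IsCoatom M) (hκ : kappa M = ∅) :
    sigmaCore M = fittingHallOf M :=
  sigmaCore_eq_fittingHallOf hG hM (nilpotent_core hG hM hκ)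

theorem fittingOf_eq_core (hG : IsMinSimpleOddOrder G) (hM : IsCoatom M) (hκ : kappa M = ∅) :
    fittingOf M = sigmaCore M := by
  rw [FittingStructure.fittingOf_eq hG hM, ← core_eq_fittingHallOf hG hM hκ]
  refine le_antisymm (sup_le ?_ le_rfl) le_sup_right
  obtain ⟨a, ha, ha1⟩ := (bot_or_exists_ne_one _).resolve_left (Sigma.sigmaCore_ne_bot hG hM)
  intro c hc
  exact frob hG hM hκ (mem_inf.mp hc).1 ha ha1 (mem_centralizer_iff.mp (mem_inf.mp hc).2 a ha).symm

/-- The maximal subgroup over a centraliser leaving `M` has `κ`-primes. -/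
theorem kappa_nonempty (hG : IsMinSimpleOddOrder G) (hM : IsCoatom M) (hx : x ∈ sigmaCore M) (hx1 : x ≠ 1)
    (hxM : ¬ centralizer ({x} : Set G) ≤ M) (hN : IsCoatom N) (hxN : centralizer ({x} : Set G) ≤ N) :
    (kappa N).Nonempty := by
  obtain ⟨N', h⟩ := Signalizer.exists_sig hG hM hx hx1 hxM
  obtain rfl := h.uniq N hN hxN
  obtain ⟨r, hr, hd⟩ := Nat.exists_prime_and_dvd (mt orderOf_eq_one_iff.mp hx1)
  by_contra hne
  exact Set.notMem_empty r (tau2_eq_empty hG hN (Set.not_nonempty_iff_eq_empty.mp hne) ▸ h.htau r hr hd)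

theorem exists_setting (hG : IsMinSimpleOddOrder G) (hM : IsCoatom M) (hx : x ∈ sigmaCore M) (hx1 : x ≠ 1)
    (hxM : ¬ centralizer ({x} : Set G) ≤ M) :
    ∃ (N K U S E : Subgroup G) (u : G), PartnerFrobenius.Setting M N K U S E x u := by
  obtain ⟨N, h⟩ := Signalizer.exists_sig hG hM hx hx1 hxM
  obtain ⟨K, U, S, E, u, c⟩ := PartnerFrobenius.exists_setting hG hM hx hx1 hxM h.hN h.hC
    (kappa_nonempty hG hM hx hx1 hxM h.hN h.hC)
  exact ⟨N, K, U, S, E, u, c⟩

theorem kappa_empty_of_not_le (hG : IsMinSimpleOddOrder G) (hM : IsCoatom M) (hx : x ∈ sigmaCore M)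
    (hx1 : x ≠ 1) (hxM : ¬ centralizer ({x} : Set G) ≤ M) : kappa M = ∅ := by
  obtain ⟨N, K, U, S, E, u, c⟩ := exists_setting hG hM hx hx1 hxM
  exact c.hκ

/-- With a centraliser leaving `M`, the quotient `M / M_σ` is cyclic and `M' = M_σ`. -/
theorem commutator_eq_core (hG : IsMinSimpleOddOrder G) (hM : IsCoatom M) (hx : x ∈ sigmaCore M)
    (hx1 : x ≠ 1) (hxM : ¬ centralizer ({x} : Set G) ≤ M) : ⁅M, M⁆ = sigmaCore M := by
  obtain ⟨N, K, U, S, E, u, c⟩ := exists_setting hG hM hx hx1 hxM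
  refine le_antisymm (commutator_le.mpr fun a ha b hb => ?_) (Sigma.sigmaCore_le_commutator hG hM)
  obtain ⟨e, he, s, hs, rfl⟩ := c.hE.2.2.2 a ha
  obtain ⟨f, hf, t, ht, rfl⟩ := c.hE.2.2.2 b hb
  have := c.isCyclic_compl
  have hef : e * f = f * e := by
    let := IsCyclic.commGroup (α := E)
    exact congrArg Subtype.val (mul_comm (⟨e, he⟩ : E) ⟨f, hf⟩)
  haveI : ((sigmaCore M).subgroupOf M).Normal :=
    (normal_subgroupOf_iff_le_normalizer (Sigma.sigmaCore_le M)).mpr (Sigma.le_normalizer_sigmaCore M)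
  have hq : ∀ (e s : G) (he : e ∈ E) (hs : s ∈ sigmaCore M),
      QuotientGroup.mk' ((sigmaCore M).subgroupOf M) ⟨e * s, mul_mem (c.hE.1 he) (Sigma.sigmaCore_le M hs)⟩ =
        QuotientGroup.mk' ((sigmaCore M).subgroupOf M) ⟨e, c.hE.1 he⟩ := fun e s he hs =>
    (QuotientGroup.mk'_eq_mk' _).mpr ⟨⟨s⁻¹, inv_mem (Sigma.sigmaCore_le M hs)⟩,
      mem_subgroupOf.mpr (inv_mem hs), Subtype.ext (mul_inv_cancel_right e s)⟩
  have h1 : (⁅(⟨e * s, mul_mem (c.hE.1 he) (Sigma.sigmaCore_le M hs)⟩ : M),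
      ⟨f * t, mul_mem (c.hE.1 hf) (Sigma.sigmaCore_le M ht)⟩⁆ : M) ∈ (sigmaCore M).subgroupOf M := by
    rw [← QuotientGroup.eq_one_iff, ← QuotientGroup.mk'_apply, map_commutatorElement, hq e s he hs,
      hq f t hf ht, ← map_commutatorElement,
      commutatorElement_eq_one_iff_mul_comm.mpr (Subtype.ext hef), map_one]
  exact mem_subgroupOf.mp h1

theorem normalizer_core (hG : IsMinSimpleOddOrder G) (hM : IsCoatom M) :
    normalizer (sigmaCore M : Set G) = M := by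
  refine ((hM.le_iff.mp (Sigma.le_normalizer_sigmaCore M)).resolve_left ?_)
  exact Transitivity.normalizer_ne_top hG (Sigma.sigmaCore_ne_bot hG hM)
    fun e => hM.1 (top_le_iff.mp (e ▸ Sigma.sigmaCore_le M))

/-- `g ∈ M` when an element of `M_σ` with centraliser in `M` moves into `M_σ` under `g`. -/
theorem mem_of_centralizer_le (hG : IsMinSimpleOddOrder G) (hM : IsCoatom M) {a g : G}
    (ha : a ∈ sigmaCore M) (hga : g * a * g⁻¹ ∈ sigmaCore M) (hC : centralizer ({a} : Set G) ≤ M) :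
    g ∈ M := by
  obtain ⟨m, hm, he⟩ := Signalizer.fusion_core hG hM ha (Sigma.sigmaCore_le M hga)
  have h1 : m⁻¹ * g ∈ centralizer ({a} : Set G) := mem_centralizer_singleton_iff.mpr (by
    calc m⁻¹ * g * a = m⁻¹ * (g * a * g⁻¹) * g := by group
      _ = m⁻¹ * (m * a * m⁻¹) * g := by rw [he]
      _ = a * (m⁻¹ * g) := by group)
  simpa using mul_mem hm (hC h1)

theorem isTI_core (hG : IsMinSimpleOddOrder G) (hM : IsCoatom M)
    (h : ∀ x ∈ sigmaCore M, x ≠ 1 → centralizer ({x} : Set G) ≤ M) :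
    IsTISubset (sigmaCore M : Set G) := fun g hg a ha hga => by_contra fun ha1 => hg <| by
  rw [normalizer_core hG hM]
  exact mem_of_centralizer_le hG hM ha hga (h a ha ha1)

end Cfsg.Agent.OddChar.TypeOne.Gap
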