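import Cfsg.Agent.OddChar.TypeOne.Gap.LSide

/-!
# The contradiction from the two shares of the norm
-/

set_option autoImplicit false
set_option linter.unusedSectionVars false
set_option linter.style.haveILetI false

namespace Cfsg.Agent.OddChar.TypeOne.Gap

open Cfsg.Agent.Characters Cfsg.Agent.OddChar
open scoped ComplexConjugate

universe u

variable {G : Type u} [Group G] [Fintype G] {L : Subgroup G} [Fintype L] {H : Subgroup L}

theorem deg_cast (θ : Cfsg.IrrCharacter H) :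
    (θ : H → ℂ) 1 = (Cfsg.charDegree (θ : H → ℂ) : ℂ) := by
  obtain ⟨n, -, hn⟩ := irr_one_pos θ.2
  rw [Cfsg.charDegree, hn, Complex.natCast_re, Nat.floor_natCast]

open Classical in
/-- `[H : 1] - D`, the weight of the principal character and the family. -/
noncomputable def weight (T : Finset (Cfsg.IrrCharacter H)) : ℕ :=
  1 + ∑ θ ∈ T, Cfsg.charDegree (θ : H → ℂ) ^ 2

open Classical in
/-- The nonprincipal characters outside the family. -/
noncomputable def out [Fintype (Cfsg.IrrCharacter H)] (T : Finset (Cfsg.IrrCharacter H)) :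
    Finset (Cfsg.IrrCharacter H) :=
  (Finset.univ \ T).erase (trivIrr H)

open Classical in
theorem mem_out [Fintype (Cfsg.IrrCharacter H)] {T : Finset (Cfsg.IrrCharacter H)}
    {θ : Cfsg.IrrCharacter H} : θ ∈ out T ↔ θ ≠ trivIrr H ∧ θ ∉ T := by simp [out]

open Classical in
theorem sum_split [Fintype (Cfsg.IrrCharacter H)] {T : Finset (Cfsg.IrrCharacter H)}
    (ht : trivIrr H ∉ T) {α : Type} [AddCommMonoid α] (F : Cfsg.IrrCharacter H → α) :
    ∑ θ, F θ = (∑ θ ∈ T, F θ) + (F (trivIrr H) + ∑ θ ∈ out T, F θ) := by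
  unfold out
  rw [Finset.add_sum_erase _ _ (Finset.mem_sdiff.2 ⟨Finset.mem_univ _, ht⟩), add_comm,
    Finset.sum_sdiff (Finset.subset_univ T)]

variable [hN : H.Normal] {T : Finset (Cfsg.IrrCharacter H)} (hT : Fam H T)
  {A : Set G} {R : G → Subgroup G} (hD : Cfsg.DadeHypothesis A L R)
  (hHA : ∀ h : H, h ≠ 1 → ((h : L) : G) ∈ A)
  {σ : (L → ℂ) → (G → ℂ)}
  (hσ : Cfsg.IsLinearIsometryOn (Cfsg.zspan (↑(img H T) : Set (L → ℂ))) σ)
  (hagree : ∀ α ∈ Cfsg.zspanOn (↑(img H T) : Set (L → ℂ)) {1}ᶜ, σ α = Cfsg.dadeIsometry A L R α)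
  {θ₀ : Cfsg.IrrCharacter H} (hθ₀ : θ₀ ∈ T) (h0 : (θ₀ : H → ℂ) 1 = 1)
  {B : Set G} {M : Subgroup G} {R' : G → Subgroup G} (hD' : Cfsg.DadeHypothesis B M R')
  (hdisj : ∀ g ∈ Dade.support (hashSet H) R, g ∉ Dade.support B R')
  {p v w' m : ℕ} (hp : p.Prime) {u : H} (huo : orderOf u = p) {a : ℤ}
  (hcong : Cong p (a : ℂ) (rho R (σ (Cfsg.indFun H (θ₀ : H → ℂ))) ((u : L) : G)))
  (hMle : (a : ℝ) ^ 2 * ((v * w' : ℕ) - (w' : ℝ)) / ((v * w' : ℕ) * m : ℝ) ≤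
    (Nat.card M : ℝ)⁻¹ * ∑ b ∈ @Finset.filter G (fun b => b ∈ B) (Classical.decPred _) Finset.univ,
      ‖rho R' (σ (Cfsg.indFun H (θ₀ : H → ℂ))) b‖ ^ 2)

include hT hD hHA hσ hagree hθ₀ h0 hD' hdisj hp huo hcong hMle

open Classical in
/-- What the norm inequality says about the coefficients. -/
theorem inequality [Fintype (Cfsg.IrrCharacter H)] :
    ∃ c : Cfsg.IrrCharacter H → ℤ,
      (∀ θ : Cfsg.IrrCharacter H, θ ∉ T → θ ≠ trivIrr H →
        Cfsg.classInner (Cfsg.dadeIsometry A L R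
          (Cfsg.indFun H (θ : H → ℂ) - (Cfsg.charDegree (θ : H → ℂ) : ℤ) • Cfsg.indFun H (θ₀ : H → ℂ)))
          (σ (Cfsg.indFun H (θ₀ : H → ℂ))) = ((c θ - Cfsg.charDegree (θ : H → ℂ) : ℤ) : ℂ)) ∧
      Cfsg.classInner (Cfsg.dadeIsometry A L R
          (Cfsg.indFun H (fun _ => 1) - Cfsg.indFun H (θ₀ : H → ℂ)))
          (σ (Cfsg.indFun H (θ₀ : H → ℂ))) = ((c (trivIrr H) - 1 : ℤ) : ℂ) ∧
      Cong p (a : ℂ) ((H.index : ℂ) + ((c (trivIrr H) : ℂ) +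
        ∑ θ ∈ out T, (c θ : ℂ) * (θ : H → ℂ) u)) ∧
      (((Nat.card H : ℝ) * ((H.index : ℝ) + (c (trivIrr H) : ℝ) ^ 2 +
            ∑ θ ∈ out T, (c θ : ℝ) ^ 2) -
          ((H.index : ℝ) + (c (trivIrr H) : ℝ) + ∑ θ ∈ out T,
            (c θ : ℝ) * (Cfsg.charDegree (θ : H → ℂ) : ℝ)) ^ 2) / ((H.index : ℝ) * Nat.card H) +
        (a : ℝ) ^ 2 * ((v * w' : ℕ) - (w' : ℝ)) / ((v * w' : ℕ) * m : ℝ) ≤ 1) ∧
      ((∑ θ ∈ out T, Cfsg.charDegree (θ : H → ℂ) ^ 2) + weight T =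
        Nat.card H) := by
  haveI := Fintype.ofFinite H
  obtain ⟨c, hc1, hc2, hc3⟩ := exists_coeff hT hD hHA hσ hagree hθ₀ h0
  set χ₀ := Cfsg.indFun H (θ₀ : H → ℂ) with hχ₀
  have htriv : trivIrr H ∉ T := fun h => hT.ne_one _ h rfl
  have hsplit : ∀ {α : Type} [AddCommMonoid α] (F : Cfsg.IrrCharacter H → α),
      ∑ θ, F θ = (∑ θ ∈ T, F θ) + (F (trivIrr H) + ∑ θ ∈ out T, F θ) := by
    intro α _ F
    exact sum_split htriv F
  obtain ⟨hcard, hfdeg⟩ := card_fibre hT hθ₀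
  have hTsum : ∀ {α : Type} [AddCommMonoid α] (F : Cfsg.IrrCharacter H → α) (F' : ℤ → Cfsg.IrrCharacter H → α),
      (∀ θ ∈ T, F θ = F' (c θ) θ) → (∀ θ ∈ T, F' 0 θ = 0) →
      ∑ θ ∈ T, F θ = ∑ θ ∈ T.filter (fun θ : Cfsg.IrrCharacter H =>
        Cfsg.indFun H (θ : H → ℂ) = χ₀), F' 1 θ := by
    intro α _ F F' hF hF0
    rw [Finset.sum_filter]
    refine Finset.sum_congr rfl fun θ hθ => ?_
    rw [hF θ hθ, hc1 θ hθ]
    split_ifs
    exacts [rfl, hF0 θ hθ]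
  have hdeg1 : ∀ θ ∈ T.filter (fun θ : Cfsg.IrrCharacter H => Cfsg.indFun H (θ : H → ℂ) = χ₀),
      (θ : H → ℂ) 1 = 1 := fun θ hθ =>
    (hfdeg θ (Finset.mem_filter.1 hθ).1 (Finset.mem_filter.1 hθ).2).trans h0
  refine ⟨c, fun θ _ _ => hc3 θ _ (deg_cast θ), ?_, ?_, ?_, ?_⟩
  · have h := hc3 (trivIrr H) 1 (by simp)
    simpa using h
  · refine Cong.trans hp hcong ?_
    have hu1 : u ≠ 1 := fun e => hp.ne_one (by rw [← huo, e, orderOf_one])
    rw [hc2 u hu1, hsplit]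
    refine Cong.add hp ?_ (Cong.of_eq hp (by simp))
    rw [hTsum (fun θ => (c θ : ℂ) * (θ : H → ℂ) u) (fun z θ => (z : ℂ) * (θ : H → ℂ) u)
      (fun _ _ => rfl) (fun θ _ => by simp)]
    rw [show ((H.index : ℂ)) = ∑ θ ∈ T.filter (fun θ : Cfsg.IrrCharacter H =>
      Cfsg.indFun H (θ : H → ℂ) = χ₀), (1 : ℂ) by rw [Finset.sum_const, hcard, nsmul_one]]
    refine Cong.sum hp _ fun θ hθ => ?_
    have h1 := Cong.char_one (isGen_of_isCharacter (irr_isCharacter θ)) hp huo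
    rw [hdeg1 θ hθ] at h1
    simpa using h1
  · refine le_trans (add_le_add (le_of_eq ?_) hMle) (norm_split (dade_mono hD ?_ ?_) hD' hdisj ?_ ?_)
    · rw [part_eq hT hD hHA hσ hagree hc2 (fun θ => Cfsg.charDegree (θ : H → ℂ)) deg_cast, hsplit,
        hTsum (fun θ => (c θ : ℝ) ^ 2) (fun z _ => (z : ℝ) ^ 2) (fun _ _ => rfl) (fun _ _ => by simp),
        hsplit,
        hTsum (fun θ => (c θ : ℝ) * (Cfsg.charDegree (θ : H → ℂ) : ℝ))
          (fun z θ => (z : ℝ) * (Cfsg.charDegree (θ : H → ℂ) : ℝ)) (fun _ _ => rfl) (fun _ _ => by simp)]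
      have e1 : Cfsg.charDegree ((trivIrr H : Cfsg.IrrCharacter H) : H → ℂ) = 1 := by
        simp [Cfsg.charDegree]
      rw [e1, Finset.sum_congr rfl fun θ (hθ : θ ∈ T.filter (fun θ : Cfsg.IrrCharacter H =>
        Cfsg.indFun H (θ : H → ℂ) = χ₀)) => show ((1 : ℤ) : ℝ) * (Cfsg.charDegree (θ : H → ℂ) : ℝ) = 1 by
          rw [show Cfsg.charDegree (θ : H → ℂ) = 1 by simp [Cfsg.charDegree, hdeg1 θ hθ]]; simp]
      have hcard' : (T.filter fun θ : Cfsg.IrrCharacter H => Cfsg.indFun H (θ : H → ℂ) = χ₀).card =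
          H.index := by convert hcard
      simp [hcard', add_assoc]
    · rintro _ ⟨h, hh, rfl⟩; exact hHA h hh
    · rintro x hx _ ⟨h, hh, rfl⟩
      refine ⟨⟨(⟨x, hx⟩ : L) * h * (⟨x, hx⟩ : L)⁻¹, hN.conj_mem _ h.2 _⟩, fun e => hh ?_, rfl⟩
      have := congrArg Subtype.val e
      simp only [OneMemClass.coe_one] at this
      exact Subtype.ext (conj_eq_one_iff.1 this)
    · exact isGen_isClassFunction (hσ.2.2.2 _ (Submodule.subset_span (mem_img hθ₀)))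
    · rw [hσ.2.2.1 _ (Submodule.subset_span (mem_img hθ₀)) _ (Submodule.subset_span (mem_img hθ₀)),
        classInner_isIrr_self (hT.irr θ₀ hθ₀)]
  · have h := sum_degree_sq (G := H)
    simp only [deg_cast, ← Nat.cast_pow, ← Nat.cast_sum, Nat.cast_inj] at h
    rw [← h, hsplit, weight]
    have e1 : Cfsg.charDegree ((trivIrr H : Cfsg.IrrCharacter H) : H → ℂ) = 1 := by
      simp [Cfsg.charDegree]
    rw [e1]
    simp only [one_pow]
    abel

open Classical in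
/-- The contradiction. -/
theorem contradiction [Fintype (Cfsg.IrrCharacter H)]
    (hout : ∀ θ : Cfsg.IrrCharacter H, θ ∉ T → θ ≠ trivIrr H → Cong p ((θ : H → ℂ) u) 0)
    (he : 2 ≤ H.index) (hep : H.index + 1 < p) (hdvd : H.index ∣ p ^ 2 - 1) (hv : H.index + 1 < v)
    (hw' : 0 < w') (hm : 0 < m) (hmW : m ≤ weight T) (hp2 : p ^ 2 ≤ weight T) : False := by
  obtain ⟨c, -, -, hc, hle, hsum⟩ := inequality hT hD hHA hσ hagree hθ₀ h0 hD' hdisj hp huo hcong hMle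
  set T' := out T with hT'
  have hcs : (∑ θ ∈ T', (c θ : ℝ) * (Cfsg.charDegree (θ : H → ℂ) : ℝ)) ^ 2 ≤
      ((∑ θ ∈ T', Cfsg.charDegree (θ : H → ℂ) ^ 2 : ℕ) : ℝ) * ∑ θ ∈ T', (c θ : ℝ) ^ 2 := by
    push_cast
    rw [mul_comm]
    exact Finset.sum_mul_sq_le_sq_mul_sq T' _ _
  have hW0 : 0 < weight T := by unfold weight; omega
  have h2 := reduce (K := (a : ℝ) ^ 2 * ((v * w' : ℕ) - (w' : ℝ)) / ((v * w' : ℕ) * m : ℝ))
    (Nat.cast_nonneg _) (Nat.cast_pos.2 hW0) (by rw [← Nat.cast_add, hsum]) (Nat.cast_pos.2 (by omega))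
    hcs (Finset.sum_nonneg fun θ _ => sq_nonneg _) hle
  refine contra (γ := c (trivIrr H)) (a := a) he hep hdvd hv hw' hm (fun _ => hmW) hp2 ?_ h2
  refine Cong.dvd hp (Cong.trans hp hc ?_)
  push_cast
  refine Cong.add hp (Cong.refl hp _) ?_
  conv_rhs => rw [← add_zero (c (trivIrr H) : ℂ)]
  refine Cong.add hp (Cong.refl hp _) ?_
  have : Cong p (∑ θ ∈ T', (c θ : ℂ) * (θ : H → ℂ) u) (∑ _θ ∈ T', (0 : ℂ)) :=
    Cong.sum hp _ fun θ hθ => by
      have h3 := Cong.mul_left (c := (c θ : ℂ)) isIntegral_algebraMap (hout θ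
        (mem_out.1 hθ).2 (mem_out.1 hθ).1)
      rwa [mul_zero] at h3
  simpa using this

open Classical in
/-- The contradiction when the coefficients outside the family are all equal. -/
theorem contradiction_fixed [Fintype (Cfsg.IrrCharacter H)] {m₀ : ℕ}
    (hfix : ∀ θ : Cfsg.IrrCharacter H, θ ∉ T → θ ≠ trivIrr H →
      Cfsg.classInner (Cfsg.dadeIsometry A L R
          (Cfsg.indFun H (θ : H → ℂ) - (Cfsg.charDegree (θ : H → ℂ) : ℤ) • Cfsg.indFun H (θ₀ : H → ℂ)))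
          (σ (Cfsg.indFun H (θ₀ : H → ℂ))) -
        Cfsg.classInner (Cfsg.dadeIsometry A L R
          (Cfsg.indFun H (fun _ => 1) - Cfsg.indFun H (θ₀ : H → ℂ)))
          (σ (Cfsg.indFun H (θ₀ : H → ℂ))) = ((1 - Cfsg.charDegree (θ : H → ℂ) : ℤ) : ℂ))
    (hout : ∀ θ : Cfsg.IrrCharacter H, θ ∉ T → θ ≠ trivIrr H → Cong p ((θ : H → ℂ) u) 0)
    (he : 2 ≤ H.index) (hep : 2 * H.index < p) (hdvd : H.index ∣ p ^ 2 - 1) (hv : H.index + 1 < v)
    (hw' : 0 < w') (hm : 0 < m) (hmm : m ≤ H.index * m₀) (hH : p * m₀ ≤ Nat.card H)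
    (hp2 : p ^ 2 ≤ weight T) : False := by
  obtain ⟨c, hc1, hc0, hc, hle, hsum⟩ := inequality hT hD hHA hσ hagree hθ₀ h0 hD' hdisj hp huo hcong hMle
  set T' := out T with hT'
  have hconst : ∀ θ ∈ T', c θ = c (trivIrr H) := fun θ hθ => by
    have h := hfix θ (mem_out.1 hθ).2 (mem_out.1 hθ).1
    rw [hc1 θ (mem_out.1 hθ).2 (mem_out.1 hθ).1, hc0] at h
    have h' : (c θ - Cfsg.charDegree (θ : H → ℂ)) - (c (trivIrr H) - 1) =
        (1 - Cfsg.charDegree (θ : H → ℂ) : ℤ) := by exact_mod_cast h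
    linarith
  have hsum0 : Cong p (∑ θ ∈ T', (c θ : ℂ) * (θ : H → ℂ) u) 0 := by
    have : Cong p (∑ θ ∈ T', (c θ : ℂ) * (θ : H → ℂ) u) (∑ _θ ∈ T', (0 : ℂ)) :=
      Cong.sum hp _ fun θ hθ => by
        have h3 := Cong.mul_left (c := (c θ : ℂ)) isIntegral_algebraMap (hout θ
          (mem_out.1 hθ).2 (mem_out.1 hθ).1)
        rwa [mul_zero] at h3
    simpa using this
  have ha : (p : ℤ) ∣ a - ((H.index : ℤ) + c (trivIrr H)) := by
    refine Cong.dvd hp (Cong.trans hp hc ?_)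
    push_cast
    refine Cong.add hp (Cong.refl hp _) ?_
    conv_rhs => rw [← add_zero (c (trivIrr H) : ℂ)]
    exact Cong.add hp (Cong.refl hp _) hsum0
  by_cases hγ : c (trivIrr H) = 0
  · rw [hγ, add_zero] at ha
    refine contra_fixed (H := Nat.card H) (v := v) (w' := w') he hep (by omega) hw' hm hmm hH ha (le_of_eq_of_le ?_ hle)
    rw [hγ, Finset.sum_eq_zero fun θ hθ => by rw [hconst θ hθ, hγ]; simp,
      Finset.sum_eq_zero fun θ hθ => by rw [hconst θ hθ, hγ]; simp]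
    simp only [Int.cast_zero, zero_pow two_ne_zero, add_zero]
    rw [mul_comm (H.index : ℝ) (Nat.card H : ℝ)]
  · have hcs : (∑ θ ∈ T', (c θ : ℝ) * (Cfsg.charDegree (θ : H → ℂ) : ℝ)) ^ 2 ≤
        ((∑ θ ∈ T', Cfsg.charDegree (θ : H → ℂ) ^ 2 : ℕ) : ℝ) * ∑ θ ∈ T', (c θ : ℝ) ^ 2 := by
      push_cast
      rw [mul_comm]
      exact Finset.sum_mul_sq_le_sq_mul_sq T' _ _
    have hW0 : 0 < weight T := by unfold weight; omega
    have h2 := reduce (K := (a : ℝ) ^ 2 * ((v * w' : ℕ) - (w' : ℝ)) / ((v * w' : ℕ) * m : ℝ))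
      (Nat.cast_nonneg _) (Nat.cast_pos.2 hW0) (by rw [← Nat.cast_add, hsum]) (Nat.cast_pos.2 (by omega))
      hcs (Finset.sum_nonneg fun θ _ => sq_nonneg _) hle
    exact contra (γ := c (trivIrr H)) (a := a) he (by omega) hdvd hv hw' hm (fun h => absurd h hγ) hp2
      ha h2

end Cfsg.Agent.OddChar.TypeOne.Gap
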