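import Mathlib

/-!
# Arithmetic of the norm inequality
-/

set_option autoImplicit false

namespace Cfsg.Agent.OddChar.TypeOne.Gap

/-- The quadratic bound: with `D + G = H`. -/
theorem quad_bound {H D G X S₁ S₂ : ℝ} (hD : 0 ≤ D) (hG : 0 < G) (hH : D + G = H) (hS : S₁ ^ 2 ≤ D * S₂)
    (hS2 : 0 ≤ S₂) : G * (X + S₁) ^ 2 ≤ H * X ^ 2 + G * H * S₂ := by
  rcases hD.eq_or_lt with rfl | hD'
  · have h1 : S₁ = 0 := by
      have := sq_nonneg S₁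
      exact pow_eq_zero_iff two_ne_zero |>.1 (by linarith)
    subst h1
    rw [zero_add] at hH
    subst hH
    nlinarith [mul_nonneg (mul_nonneg hG.le hG.le) hS2]
  · have h2 : 0 ≤ D * (H * X ^ 2 + G * H * S₂ - G * (X + S₁) ^ 2) := by
      have e : D * (H * X ^ 2 + G * H * S₂ - G * (X + S₁) ^ 2) =
          (D * X - G * S₁) ^ 2 + G * H * (D * S₂ - S₁ ^ 2) := by
        subst hH; ring
      rw [e]
      have : 0 ≤ G * H * (D * S₂ - S₁ ^ 2) :=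
        mul_nonneg (mul_nonneg hG.le (by linarith)) (by linarith)
      positivity
    nlinarith [nonneg_of_mul_nonneg_right h2 hD']

/-- The inequality left after eliminating the coefficients outside the coherent family. -/
theorem reduce {H D G e γ S₁ S₂ K : ℝ} (hD : 0 ≤ D) (hG : 0 < G) (hH : D + G = H) (he : 0 < e)
    (hS : S₁ ^ 2 ≤ D * S₂) (hS2 : 0 ≤ S₂)
    (hle : (H * (e + γ ^ 2 + S₂) - (e + γ + S₁) ^ 2) / (e * H) + K ≤ 1) :
    γ ^ 2 * G + K * e * G ≤ (e + γ) ^ 2 := by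
  have hHpos : 0 < H := by linarith
  have h1 : (H * (e + γ ^ 2 + S₂) - (e + γ + S₁) ^ 2) + K * (e * H) ≤ e * H := by
    have := mul_le_mul_of_nonneg_right hle (mul_pos he hHpos).le
    rwa [add_mul, div_mul_cancel₀ _ (mul_pos he hHpos).ne', one_mul] at this
  have h2 := quad_bound (X := e + γ) hD hG hH hS hS2
  have h3 : H * (γ ^ 2 * G + K * e * G - (e + γ) ^ 2) ≤ 0 := by nlinarith
  nlinarith [nonpos_of_mul_nonpos_right h3 hHpos]

theorem sq_ge_succ {p e : ℕ} {a : ℤ} (he : 2 ≤ e) (hep : e + 1 < p) (hdvd : e ∣ p ^ 2 - 1)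
    (ha : (p : ℤ) ∣ a - e) : (e : ℤ) + 1 ≤ a ^ 2 := by
  obtain ⟨k, hk⟩ := ha
  have hk' : a = e + p * k := by linarith
  subst hk'
  rcases le_or_gt 0 k with hk0 | hk0
  · have h1 : (e : ℤ) ≤ e + p * k := by
      have : (0 : ℤ) ≤ p * k := by positivity
      linarith
    nlinarith
  · set δ : ℤ := (p : ℤ) - e with hδ
    have h1 : δ ≤ -((e : ℤ) + p * k) := by nlinarith
    have h2 : (2 : ℤ) ≤ δ := by omega
    suffices h3 : (e : ℤ) + 1 ≤ δ ^ 2 by nlinarith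
    by_contra h3
    have h4 : (e : ℤ) ∣ δ ^ 2 - 1 := by
      have h5 : (e : ℤ) ∣ (p : ℤ) ^ 2 - 1 := by
        have h6 : 1 ≤ p ^ 2 := Nat.one_le_pow _ _ (by omega)
        have := Int.natCast_dvd_natCast.2 hdvd
        push_cast [Nat.cast_sub h6] at this
        exact this
      have e' : δ ^ 2 - 1 = ((p : ℤ) ^ 2 - 1) + (e : ℤ) * ((e : ℤ) - 2 * p) := by rw [hδ]; ring
      rw [e']
      exact dvd_add h5 (dvd_mul_right _ _)
    have := Int.le_of_dvd (by nlinarith) h4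
    linarith

/-- The numerical contradiction. -/
theorem contra {p e v w' m G : ℕ} {a γ : ℤ} (he : 2 ≤ e) (hep : e + 1 < p) (hdvd : e ∣ p ^ 2 - 1)
    (hv : e + 1 < v) (hw' : 0 < w') (hm : 0 < m) (hmG : γ = 0 → m ≤ G) (hp2 : p ^ 2 ≤ G)
    (ha : (p : ℤ) ∣ a - (e + γ))
    (hle : (γ : ℝ) ^ 2 * G +
      ((a : ℝ) ^ 2 * ((v * w' : ℕ) - (w' : ℝ)) / ((v * w' : ℕ) * m : ℝ)) * e * G ≤ ((e : ℝ) + γ) ^ 2) :
    False := by
  have hG0 : 0 < G := lt_of_lt_of_le (Nat.pow_pos (n := 2) (show 0 < p by omega)) hp2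
  have hfrac : (a : ℝ) ^ 2 * ((v * w' : ℕ) - (w' : ℝ)) / ((v * w' : ℕ) * m : ℝ) =
      (a : ℝ) ^ 2 * ((v : ℝ) - 1) / ((v : ℝ) * m) := by
    push_cast
    have : (w' : ℝ) ≠ 0 := Nat.cast_ne_zero.2 hw'.ne'
    field_simp
  rw [hfrac] at hle
  have hv1 : (0 : ℝ) ≤ (v : ℝ) - 1 := sub_nonneg.2 (Nat.one_le_cast.2 (by omega))
  have hK : 0 ≤ (a : ℝ) ^ 2 * ((v : ℝ) - 1) / ((v : ℝ) * m) := by positivity
  by_cases hγ : γ = 0
  · subst hγ
    rw [add_zero] at ha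
    have h1 := sq_ge_succ he hep hdvd ha
    simp only [Int.cast_zero, zero_pow two_ne_zero, zero_mul, zero_add, add_zero] at hle
    have hvm : (0 : ℝ) < (v : ℝ) * m := mul_pos (Nat.cast_pos.2 (by omega)) (Nat.cast_pos.2 hm)
    rw [div_mul_eq_mul_div, div_mul_eq_mul_div, div_le_iff₀ hvm] at hle
    have h2 : (a : ℝ) ^ 2 * ((v : ℝ) - 1) * G ≤ (e : ℝ) * v * G := by
      have he0 : (0 : ℝ) < e := Nat.cast_pos.2 (by omega)
      have hmG' : (m : ℝ) ≤ G := Nat.cast_le.2 (hmG rfl)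
      refine le_of_mul_le_mul_left ?_ he0
      calc (e : ℝ) * ((a : ℝ) ^ 2 * ((v : ℝ) - 1) * G)
          = (a : ℝ) ^ 2 * ((v : ℝ) - 1) * e * G := by ring
        _ ≤ (e : ℝ) ^ 2 * ((v : ℝ) * m) := hle
        _ ≤ (e : ℝ) ^ 2 * ((v : ℝ) * G) := by gcongr
        _ = _ := by ring
    have h3 := le_of_mul_le_mul_right h2 (Nat.cast_pos.2 hG0)
    have h4 : ((e : ℝ) + 1) ≤ (a : ℝ) ^ 2 := by exact_mod_cast h1
    have h5 : (e : ℝ) + 2 ≤ v := by exact_mod_cast hv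
    nlinarith
  · have h1 : (1 : ℝ) ≤ |(γ : ℝ)| := by
      rw [← Int.cast_abs]; exact_mod_cast Int.one_le_abs hγ
    have h2 : |(e : ℝ) + γ| ≤ ((e : ℝ) + 1) * |(γ : ℝ)| := by
      refine (abs_add_le _ _).trans ?_
      rw [Nat.abs_cast, add_mul, one_mul]
      nlinarith [Nat.cast_nonneg (α := ℝ) e]
    have h3 : ((e : ℝ) + γ) ^ 2 ≤ ((e : ℝ) + 1) ^ 2 * (γ : ℝ) ^ 2 := by
      rw [← sq_abs, ← sq_abs (γ : ℝ), ← mul_pow]
      exact pow_le_pow_left₀ (abs_nonneg _) h2 2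
    have h4 : (γ : ℝ) ^ 2 * G ≤ ((e : ℝ) + γ) ^ 2 := le_trans (le_add_of_nonneg_right (by positivity)) hle
    have h5a : ((e : ℝ) + 1) ^ 2 < (p : ℝ) ^ 2 :=
      pow_lt_pow_left₀ (by exact_mod_cast hep) (by positivity) two_ne_zero
    have h5b : (p : ℝ) ^ 2 ≤ (G : ℝ) := by exact_mod_cast hp2
    have h5 : ((e : ℝ) + 1) ^ 2 < (G : ℝ) := lt_of_lt_of_le h5a h5b
    have h6 : 0 < (γ : ℝ) ^ 2 := by
      have : (γ : ℝ) ≠ 0 := Int.cast_ne_zero.2 hγ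
      positivity
    nlinarith

/-- The contradiction when every coefficient outside the family vanishes. -/
theorem contra_fixed {p e v w' m H m₀ : ℕ} {a : ℤ} (he : 2 ≤ e) (hep : 2 * e < p) (hv : 2 < v)
    (hw' : 0 < w') (hm : 0 < m) (hmm : m ≤ e * m₀) (hH : p * m₀ ≤ H) (ha : (p : ℤ) ∣ a - e)
    (hle : ((e : ℝ) * H - (e : ℝ) ^ 2) / (e * H) +
      ((a : ℝ) ^ 2 * ((v * w' : ℕ) - (w' : ℝ)) / ((v * w' : ℕ) * m : ℝ)) ≤ 1) : False := by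
  have hm0 : 0 < m₀ := Nat.pos_of_mul_pos_left (lt_of_lt_of_le hm hmm)
  have hH0 : 0 < H := lt_of_lt_of_le (Nat.mul_pos (by omega) hm0) hH
  have hfrac : (a : ℝ) ^ 2 * ((v * w' : ℕ) - (w' : ℝ)) / ((v * w' : ℕ) * m : ℝ) =
      (a : ℝ) ^ 2 * ((v : ℝ) - 1) / ((v : ℝ) * m) := by
    push_cast
    have : (w' : ℝ) ≠ 0 := Nat.cast_ne_zero.2 hw'.ne'
    field_simp
  have he0 : (0 : ℝ) < e := Nat.cast_pos.2 (by omega)
  have hHr : (0 : ℝ) < H := Nat.cast_pos.2 hH0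
  have hsplit : ((e : ℝ) * H - (e : ℝ) ^ 2) / (e * H) = 1 - (e : ℝ) / H := by field_simp
  rw [hfrac, hsplit] at hle
  have hvm : (0 : ℝ) < (v : ℝ) * m := mul_pos (Nat.cast_pos.2 (by omega)) (Nat.cast_pos.2 hm)
  have h1 : (a : ℝ) ^ 2 * ((v : ℝ) - 1) / ((v : ℝ) * m) ≤ (e : ℝ) / H := by linarith
  rw [div_le_div_iff₀ hvm hHr] at h1
  have h2 : (e : ℤ) ^ 2 ≤ a ^ 2 := by
    obtain ⟨k, hk⟩ := ha
    have hk' : a = e + p * k := by linarith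
    subst hk'
    rcases le_or_gt 0 k with hk0 | hk0
    · have : (0 : ℤ) ≤ p * k := by positivity
      nlinarith
    · have h3 : (e : ℤ) ≤ -((e : ℤ) + p * k) := by
        have : (2 * e : ℤ) < p := by exact_mod_cast hep
        nlinarith
      nlinarith
  have h2' : (e : ℝ) ^ 2 ≤ (a : ℝ) ^ 2 := by exact_mod_cast h2
  have h3 : (e : ℝ) ^ 2 * ((v : ℝ) - 1) * ((p : ℝ) * m₀) ≤ (e : ℝ) * ((v : ℝ) * ((e : ℝ) * m₀)) := by
    have hv1 : (0 : ℝ) ≤ (v : ℝ) - 1 := sub_nonneg.2 (Nat.one_le_cast.2 (by omega))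
    have hHm : ((p : ℝ) * m₀) ≤ H := by exact_mod_cast hH
    have hmm' : (m : ℝ) ≤ (e : ℝ) * m₀ := by exact_mod_cast hmm
    calc _ ≤ (a : ℝ) ^ 2 * ((v : ℝ) - 1) * H := by gcongr
      _ ≤ (e : ℝ) * ((v : ℝ) * m) := h1
      _ ≤ _ := by gcongr
  have h4 : ((v : ℝ) - 1) * p ≤ v := by
    have : (0 : ℝ) < (e : ℝ) ^ 2 * m₀ := mul_pos (by positivity) (Nat.cast_pos.2 hm0)
    refine le_of_mul_le_mul_left ?_ this
    linarith
  have h5 : (5 : ℝ) ≤ p := by exact_mod_cast (show 5 ≤ p by omega)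
  have h6 : (3 : ℝ) ≤ v := by exact_mod_cast hv
  nlinarith

end Cfsg.Agent.OddChar.TypeOne.Gap
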