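import Cfsg.Agent.OddChar.TypeOne.Gap.Basic
import Cfsg.Agent.OddChar.TypeOne.Gap.Cong
import Cfsg.Agent.OddChar.TypeOne.Gap.Sums
import Cfsg.Agent.OddChar.TypeOne.Coherent
import Cfsg.Agent.S1486

/-!
# The averages of a member of a coherent family over the cosets attached to the kernel
-/

set_option autoImplicit false
set_option linter.unusedSectionVars false
set_option linter.style.haveILetI false

namespace Cfsg.Agent.OddChar.TypeOne.Gap

open Cfsg.Agent.Characters Cfsg.Agent.OddChar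
open scoped ComplexConjugate

universe u

variable {G : Type u} [Group G] {L : Subgroup G} [Fintype L] (H : Subgroup L)

/-- A family of irreducible characters of `H` inducing to irreducible characters, closed under conjugation. -/
structure Fam (T : Finset (Cfsg.IrrCharacter H)) : Prop where
  irr : ∀ θ ∈ T, Cfsg.IsIrrCharacter L (Cfsg.indFun H (θ : H → ℂ))
  ne_one : ∀ θ ∈ T, (θ : H → ℂ) ≠ fun _ => 1
  closed : ∀ θ ∈ T, ∀ η : Cfsg.IrrCharacter H,
    Cfsg.indFun H (η : H → ℂ) = Cfsg.indFun H (θ : H → ℂ) → η ∈ T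

open Classical in
/-- The induced characters of a family. -/
noncomputable def img (T : Finset (Cfsg.IrrCharacter H)) : Finset (L → ℂ) :=
  T.image fun θ : Cfsg.IrrCharacter H => Cfsg.indFun H (θ : H → ℂ)

/-- The nonidentity elements of `H`, in `G`. -/
def hashSet : Set G := {a | ∃ h : H, h ≠ 1 ∧ a = ((h : L) : G)}

variable [hN : H.Normal] {H} {T : Finset (Cfsg.IrrCharacter H)} (hT : Fam H T)

theorem mem_img {θ : Cfsg.IrrCharacter H} (h : θ ∈ T) :
    Cfsg.indFun H (θ : H → ℂ) ∈ (↑(img H T) : Set (L → ℂ)) := by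
  classical
  exact Finset.mem_coe.2 (Finset.mem_image.2 ⟨θ, h, rfl⟩)

theorem zspan_img_vanish {α : L → ℂ} (hα : α ∈ Cfsg.zspan (↑(img H T) : Set (L → ℂ))) {x : L}
    (hx : x ∉ H) : α x = 0 := by
  classical
  refine Submodule.span_induction (p := fun f _ => f x = 0) (fun χ hχ => ?_) rfl ?_ ?_ hα
  · obtain ⟨θ, -, rfl⟩ := Finset.mem_image.1 (Finset.mem_coe.1 hχ)
    exact Induce.indFun_apply_normal_notMem H _ hx
  · intro a b _ _ ha hb; simp [ha, hb]
  · intro k a _ ha; simp [ha]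

theorem zspan_img_gen {α : L → ℂ} (hα : α ∈ Cfsg.zspan (↑(img H T) : Set (L → ℂ))) :
    Cfsg.IsGeneralizedCharacter L α := by
  classical
  refine Submodule.span_induction (fun χ hχ => ?_) isGen_zero (fun _ _ _ _ => isGen_add)
    (fun k a _ ha => ?_) hα
  · obtain ⟨θ, -, rfl⟩ := Finset.mem_image.1 (Finset.mem_coe.1 hχ)
    exact isGen_of_isCharacter (isCharacter_indFun H (irr_isCharacter θ))
  · rw [← Int.cast_smul_eq_zsmul ℂ k a]; exact isGen_intSmul ha k

include hT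

open Classical in
/-- Each member of the image comes from `[L : H]` members of the family. -/
theorem card_fibre [Fintype (Cfsg.IrrCharacter H)] {θ : Cfsg.IrrCharacter H} (hθ : θ ∈ T) :
    (T.filter fun η : Cfsg.IrrCharacter H =>
      Cfsg.indFun H (η : H → ℂ) = Cfsg.indFun H (θ : H → ℂ)).card = H.index ∧
    ∀ η ∈ T, Cfsg.indFun H (η : H → ℂ) = Cfsg.indFun H (θ : H → ℂ) → (η : H → ℂ) 1 = (θ : H → ℂ) 1 := by
  haveI := Fintype.ofFinite H
  set F := T.filter fun η : Cfsg.IrrCharacter H =>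
    Cfsg.indFun H (η : H → ℂ) = Cfsg.indFun H (θ : H → ℂ) with hF
  have hI := hT.irr θ hθ
  have hdeg : ∀ η ∈ T, Cfsg.indFun H (η : H → ℂ) = Cfsg.indFun H (θ : H → ℂ) →
      (η : H → ℂ) 1 = (θ : H → ℂ) 1 := fun η _ h => by
    have h' := congrFun h 1
    rw [indFun_one, indFun_one] at h'
    exact mul_left_cancel₀ (Nat.cast_ne_zero.2 Subgroup.index_ne_zero_of_finite) h'
  refine ⟨?_, hdeg⟩
  have hres : Cfsg.IsCharacter H (fun y : H => Cfsg.indFun H (θ : H → ℂ) y) :=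
    isCharacter_restrict H (isCharacter_of_isIrr hI)
  have hcoef : ∀ η : Cfsg.IrrCharacter H,
      Cfsg.classInner (fun y : H => Cfsg.indFun H (θ : H → ℂ) y) (η : H → ℂ) =
        if η ∈ F then (1 : ℂ) else 0 := by
    intro η
    rw [← frobenius_reciprocity' H (η : H → ℂ) (char_isClassFunction (isCharacter_of_isIrr hI))]
    by_cases h : Cfsg.indFun H (η : H → ℂ) = Cfsg.indFun H (θ : H → ℂ)
    · rw [if_pos (Finset.mem_filter.2 ⟨hT.closed θ hθ η h, h⟩), h, classInner_isIrr_self hI]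
    · rw [if_neg fun hm : η ∈ F => h (Finset.mem_filter.1 hm).2, classInner_conj_symm]
      refine (congrArg conj ?_).trans (map_zero _)
      exact (S1486.result H (θ : H → ℂ) (η : H → ℂ) θ.2 η.2).2 fun ⟨g, hg⟩ =>
        h ((S1486.result H (θ : H → ℂ) (η : H → ℂ) θ.2 η.2).1 ⟨g, hg⟩)
  obtain ⟨f, hf0, hf⟩ := irr_one_pos θ.2
  have h1 := congrFun (classFun_eq_sum (char_isClassFunction hres)) 1
  simp only [Finset.sum_apply, Pi.smul_apply, smul_eq_mul, hcoef, ite_mul, zero_mul, one_mul,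
    Finset.sum_ite_mem, Finset.univ_inter, OneMemClass.coe_one, indFun_one] at h1
  rw [Finset.sum_congr rfl fun η hη => hdeg η (Finset.mem_filter.1 hη).1 (Finset.mem_filter.1 hη).2,
    Finset.sum_const, nsmul_eq_mul] at h1
  exact_mod_cast (mul_right_cancel₀ (irr_one_ne_zero θ.2) h1).symm

variable [Fintype G] {A : Set G} {R : G → Subgroup G} (hD : Cfsg.DadeHypothesis A L R)
  (hHA : ∀ h : H, h ≠ 1 → ((h : L) : G) ∈ A)

include hD hHA

theorem zspan_img_supp {α : L → ℂ} (hα : α ∈ Cfsg.zspanOn (↑(img H T) : Set (L → ℂ)) {1}ᶜ) {x : L}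
    (hx : (x : G) ∉ A) : α x = 0 := by
  by_cases hxH : x ∈ H
  · by_cases h1 : x = 1
    · subst h1; exact hα.2 1 (by simp)
    · exact absurd (hHA ⟨x, hxH⟩ fun e => h1 (congrArg Subtype.val e)) hx
  · exact zspan_img_vanish hα.1 hxH

/-- The Dade map is an isometry on the combinations vanishing at `1`. -/
theorem dade_isometry :
    Cfsg.IsLinearIsometryOn (Cfsg.zspanOn (↑(img H T) : Set (L → ℂ)) {1}ᶜ) (Cfsg.dadeIsometry A L R) ∧
      ∀ α ∈ Cfsg.zspanOn (↑(img H T) : Set (L → ℂ)) {1}ᶜ, Cfsg.dadeIsometry A L R α 1 = 0 := by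
  refine ⟨⟨fun α _ β _ => dade_add _ _ _ α β, fun α _ n => dade_zsmul _ _ _ n α,
    fun α hα β hβ => (S1500.result A L R hD α (isGen_isClassFunction (zspan_img_gen hα.1))
      fun x hx => zspan_img_supp hT hD hHA hα hx).1 β (isGen_isClassFunction (zspan_img_gen hβ.1))
      fun x hx => zspan_img_supp hT hD hHA hβ hx,
    fun α hα => S1501.result A L R hD α (zspan_img_gen hα.1) fun x hx =>
      zspan_img_supp hT hD hHA hα hx⟩, fun α _ => ?_⟩
  refine Dade.apply_eq_zero fun a ha x r hr e => hD.one_not_mem ?_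
  rw [mul_one, mul_inv_cancel] at e
  have h1 : r ∈ L ⊓ Subgroup.centralizer ({a} : Set G) := by
    rw [eq_inv_of_mul_eq_one_right e.symm]
    exact inv_mem (Subgroup.mem_inf.2 ⟨hD.subset ha, Subgroup.mem_centralizer_singleton_iff.2 rfl⟩)
  rw [Subgroup.mem_bot.1 ((hD.inf_eq_bot a ha).le (Subgroup.mem_inf.2 ⟨hr, h1⟩)), mul_one] at e
  rwa [← e] at ha

variable {σ : (L → ℂ) → (G → ℂ)}
  (hσ : Cfsg.IsLinearIsometryOn (Cfsg.zspan (↑(img H T) : Set (L → ℂ))) σ)
  (hagree : ∀ α ∈ Cfsg.zspanOn (↑(img H T) : Set (L → ℂ)) {1}ᶜ, σ α = Cfsg.dadeIsometry A L R α)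

include hσ hagree

theorem sigma_diff {θ θ₀ : Cfsg.IrrCharacter H} (hθ : θ ∈ T) (hθ₀ : θ₀ ∈ T)
    (h0 : (θ₀ : H → ℂ) 1 = 1) {d : ℕ} (hd : (θ : H → ℂ) 1 = (d : ℂ)) :
    Cfsg.dadeIsometry A L R
        (Cfsg.indFun H (θ : H → ℂ) - (d : ℤ) • Cfsg.indFun H (θ₀ : H → ℂ)) =
      σ (Cfsg.indFun H (θ : H → ℂ)) - (d : ℤ) • σ (Cfsg.indFun H (θ₀ : H → ℂ)) := by
  have h1 : Cfsg.indFun H (θ : H → ℂ) ∈ Cfsg.zspan (↑(img H T) : Set (L → ℂ)) :=
    Submodule.subset_span (mem_img hθ)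
  have h2 : Cfsg.indFun H (θ₀ : H → ℂ) ∈ Cfsg.zspan (↑(img H T) : Set (L → ℂ)) :=
    Submodule.subset_span (mem_img hθ₀)
  have h3 : (-(d : ℤ)) • Cfsg.indFun H (θ₀ : H → ℂ) ∈ Cfsg.zspan (↑(img H T) : Set (L → ℂ)) :=
    Submodule.smul_mem _ _ h2
  rw [← hagree, sub_eq_add_neg, ← neg_smul, hσ.1 _ h1 _ h3, hσ.2.1 _ h2, neg_smul, ← sub_eq_add_neg]
  refine ⟨sub_eq_add_neg (Cfsg.indFun H (θ : H → ℂ)) _ ▸ neg_smul (d : ℤ) (Cfsg.indFun H (θ₀ : H → ℂ)) ▸
    Submodule.add_mem _ h1 h3, fun x hx => ?_⟩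
  rw [show x = 1 by simpa using hx]
  simp [indFun_one, h0, hd, mul_comm]

open Classical in
/-- The coefficients of the averages. -/
theorem exists_coeff [Fintype (Cfsg.IrrCharacter H)] {θ₀ : Cfsg.IrrCharacter H} (hθ₀ : θ₀ ∈ T)
    (h0 : (θ₀ : H → ℂ) 1 = 1) :
    ∃ c : Cfsg.IrrCharacter H → ℤ,
      (∀ θ ∈ T, c θ = if Cfsg.indFun H (θ : H → ℂ) = Cfsg.indFun H (θ₀ : H → ℂ) then 1 else 0) ∧
      (∀ h : H, h ≠ 1 → rho R (σ (Cfsg.indFun H (θ₀ : H → ℂ))) ((h : L) : G) =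
        ∑ θ : Cfsg.IrrCharacter H, (c θ : ℂ) * (θ : H → ℂ) h) ∧
      (∀ (θ : Cfsg.IrrCharacter H) (d : ℕ), (θ : H → ℂ) 1 = (d : ℂ) →
        Cfsg.classInner (Cfsg.dadeIsometry A L R
          (Cfsg.indFun H (θ : H → ℂ) - (d : ℤ) • Cfsg.indFun H (θ₀ : H → ℂ)))
          (σ (Cfsg.indFun H (θ₀ : H → ℂ))) = ((c θ - d : ℤ) : ℂ)) := by
  haveI := Fintype.ofFinite H
  set χ₀ := Cfsg.indFun H (θ₀ : H → ℂ) with hχ₀
  set ψ := σ χ₀ with hψdef
  have hχ₀m : χ₀ ∈ Cfsg.zspan (↑(img H T) : Set (L → ℂ)) := Submodule.subset_span (mem_img hθ₀)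
  have hψg : Cfsg.IsGeneralizedCharacter G ψ := hσ.2.2.2 _ hχ₀m
  have hψc := isGen_isClassFunction hψg
  set S : ℂ := ∑ h ∈ Finset.univ.erase (1 : H), (θ₀ : H → ℂ) h * conj (rho R ψ ((h : L) : G)) with hS
  set f : H → ℂ := fun h =>
    if h = 1 then conj ((Nat.card H : ℂ) - S) else rho R ψ ((h : L) : G) with hf
  have hf0 : Cfsg.classInner (θ₀ : H → ℂ) f = 1 := by
    rw [classInner_def, ← Finset.add_sum_erase _ _ (Finset.mem_univ (1 : H))]
    have e : ∑ h ∈ Finset.univ.erase (1 : H), (θ₀ : H → ℂ) h * conj (f h) = S :=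
      Finset.sum_congr rfl fun h hh => by rw [hf]; simp [(Finset.mem_erase.1 hh).1]
    rw [e, hf]
    simp only [h0, if_true, Complex.conj_conj, one_mul, sub_add_cancel]
    exact inv_mul_cancel₀ natCard_ne_zero
  have hinv : ∀ (x : L) (h : H), f ⟨x * h * x⁻¹, hN.conj_mem h h.2 x⟩ = f h := by
    intro x h
    by_cases h1 : h = 1
    · subst h1; congr 1; ext; simp
    · simp only [hf]
      rw [if_neg, if_neg h1]
      · exact rho_conj hD hψc (hHA h h1) x.2
      · intro e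
        refine h1 (Subtype.ext ?_)
        have := congrArg Subtype.val e
        simp only [OneMemClass.coe_one] at this
        exact conj_eq_one_iff.1 this
  have hfc : Cfsg.IsClassFunction H f := fun g x => by
    have := hinv (x : L) g
    convert this using 2
    exact Subtype.ext rfl
  have hconj : ∀ (θ : H → ℂ) (x : L), Cfsg.classInner (Characters.conjFun H θ x) f =
      Cfsg.classInner θ f := fun θ x => by
    rw [classInner_def, classInner_def]
    congr 1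
    refine Fintype.sum_equiv (conjAut H x).toEquiv _ _ fun h => ?_
    show θ ⟨x * h * x⁻¹, _⟩ * conj (f h) = θ (conjAut H x h) * conj (f (conjAut H x h))
    rw [show f (conjAut H x h) = f h from hinv x h]
    rfl
  have hind : ∀ θ : H → ℂ, Cfsg.classInner (fun h : H => Cfsg.indFun H θ h) f =
      (H.index : ℂ) * Cfsg.classInner θ f := fun θ => by
    rw [indFun_restrict_normal, classInner_smul_left, classInner_sum_left,
      Finset.sum_congr rfl fun x _ => hconj θ x⁻¹, Finset.sum_const, Finset.card_univ, nsmul_eq_mul,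
      ← Nat.card_eq_fintype_card, ← Subgroup.card_mul_index H, Nat.cast_mul, mul_assoc,
      inv_mul_cancel_left₀ natCard_ne_zero]
  have key : ∀ (θ : Cfsg.IrrCharacter H) (d : ℕ), (θ : H → ℂ) 1 = (d : ℂ) →
      Cfsg.classInner (Cfsg.dadeIsometry A L R
        (Cfsg.indFun H (θ : H → ℂ) - (d : ℤ) • χ₀)) ψ = Cfsg.classInner (θ : H → ℂ) f - (d : ℂ) := by
    intro θ d hd
    set α := Cfsg.indFun H (θ : H → ℂ) - (d : ℤ) • χ₀ with hα
    have hαH : ∀ x : L, x ∉ H → α x = 0 := fun x hx => by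
      simp [hα, hχ₀, Induce.indFun_apply_normal_notMem H _ hx]
    have hα1 : α 1 = 0 := by simp [hα, hχ₀, indFun_one, h0, hd, mul_comm]
    have hαA : ∀ x : L, (x : G) ∉ A → α x = 0 := fun x hx => by
      by_cases hxH : x ∈ H
      · by_cases h1 : x = 1
        · rw [h1, hα1]
        · exact absurd (hHA ⟨x, hxH⟩ fun e => h1 (congrArg Subtype.val e)) hx
      · exact hαH x hxH
    have hαc : Cfsg.IsClassFunction L α := isGen_isClassFunction (by
      rw [hα, ← Int.cast_smul_eq_zsmul ℂ]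
      exact isGen_sub (isGen_of_isCharacter (isCharacter_indFun H (irr_isCharacter θ)))
        (isGen_intSmul (isGen_of_isCharacter (isCharacter_indFun H (irr_isCharacter θ₀))) _))
    have h1 : Cfsg.classInner α (fun a : L => rho R ψ a) =
        (H.index : ℂ)⁻¹ * Cfsg.classInner (fun h : H => α h) f := by
      rw [classInner_def, classInner_def, ← mul_assoc, ← mul_inv, ← Nat.cast_mul, mul_comm H.index,
        Subgroup.card_mul_index]
      congr 1
      rw [← Finset.sum_subset (Finset.subset_univ (Finset.univ.filter fun x : L => x ∈ H))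
        fun x _ hx => by rw [hαH x (by simpa using hx), zero_mul]]
      rw [Finset.sum_subtype (p := fun x : L => x ∈ H) _ fun x => by simp]
      refine Finset.sum_congr rfl fun h _ => ?_
      by_cases he : h = 1
      · subst he; simp [hα1]
      · simp only [hf, if_neg he]
    rw [inner_rho hD hαc hαA hψc, h1]
    have h2 : (fun h : H => α h) = (fun h : H => Cfsg.indFun H (θ : H → ℂ) h) -
        (d : ℂ) • fun h : H => χ₀ h := by
      funext h
      simp [hα]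
    rw [h2, classInner_sub_left, classInner_smul_left, hχ₀, hind, hind, hf0, mul_one, mul_comm (d : ℂ),
      ← mul_sub, inv_mul_cancel_left₀ (Nat.cast_ne_zero.2 Subgroup.index_ne_zero_of_finite)]
  have hint : ∀ θ : Cfsg.IrrCharacter H, ∃ z : ℤ, Cfsg.classInner f (θ : H → ℂ) = (z : ℂ) := by
    intro θ
    obtain ⟨d, -, hd⟩ := irr_one_pos θ.2
    have hg : Cfsg.IsGeneralizedCharacter L
        (Cfsg.indFun H (θ : H → ℂ) - (d : ℤ) • χ₀) := by
      rw [← Int.cast_smul_eq_zsmul ℂ]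
      exact isGen_sub (isGen_of_isCharacter (isCharacter_indFun H (irr_isCharacter θ)))
        (isGen_intSmul (isGen_of_isCharacter (isCharacter_indFun H (irr_isCharacter θ₀))) _)
    have hg' := S1501.result A L R hD _ hg (fun x hx => by
      by_cases hxH : x ∈ H
      · by_cases h1 : x = 1
        · simp [h1, hχ₀, indFun_one, h0, hd, mul_comm]
        · exact absurd (hHA ⟨x, hxH⟩ fun e => h1 (congrArg Subtype.val e)) hx
      · simp [hχ₀, Induce.indFun_apply_normal_notMem H _ hxH])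
    obtain ⟨z, hz⟩ := classInner_gen_int hg' hψg
    refine ⟨z + d, ?_⟩
    rw [key θ d hd, sub_eq_iff_eq_add] at hz
    rw [classInner_conj_symm (θ : H → ℂ) f, hz]
    simp
  choose c hc using hint
  have hc' : ∀ θ : Cfsg.IrrCharacter H, Cfsg.classInner (θ : H → ℂ) f = (c θ : ℂ) := fun θ => by
    rw [classInner_conj_symm f, hc θ, map_intCast]
  refine ⟨c, fun θ hθ => ?_, fun h hh => ?_, fun θ d hd => ?_⟩
  · obtain ⟨d, -, hd⟩ := irr_one_pos θ.2
    have h1 := key θ d hd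
    rw [sigma_diff hT hD hHA hσ hagree hθ hθ₀ h0 hd, classInner_sub_left,
      Coherence.inner_smul_int_left, hσ.2.2.1 _ (Submodule.subset_span (mem_img hθ)) _ hχ₀m,
      hψdef, hσ.2.2.1 _ hχ₀m _ hχ₀m, classInner_isIrr_self (hT.irr θ₀ hθ₀), hc' θ] at h1
    push_cast at h1
    rw [mul_one, sub_left_inj] at h1
    by_cases he : Cfsg.indFun H (θ : H → ℂ) = χ₀
    · rw [if_pos he]
      rw [he, classInner_isIrr_self (hT.irr θ₀ hθ₀)] at h1
      exact_mod_cast h1.symm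
    · rw [if_neg he]
      rw [classInner_isIrr_ne (hT.irr θ hθ) (hT.irr θ₀ hθ₀) he] at h1
      exact_mod_cast h1.symm
  · have := congrFun (classFun_eq_sum hfc) h
    simp only [hf, if_neg hh, Finset.sum_apply, Pi.smul_apply, smul_eq_mul] at this
    rw [this]
    refine Finset.sum_congr rfl fun θ _ => ?_
    rw [← hc θ, hf]
  · rw [key θ d hd, hc' θ]
    push_cast
    rfl

open Classical in
/-- The share of the norm seen on the nonidentity elements of the kernel. -/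
theorem part_eq [Fintype (Cfsg.IrrCharacter H)] {ψ : G → ℂ} {c : Cfsg.IrrCharacter H → ℤ}
    (hc : ∀ h : H, h ≠ 1 → rho R ψ ((h : L) : G) = ∑ θ : Cfsg.IrrCharacter H, (c θ : ℂ) * (θ : H → ℂ) h)
    (d : Cfsg.IrrCharacter H → ℕ) (hd : ∀ θ : Cfsg.IrrCharacter H, (θ : H → ℂ) 1 = (d θ : ℂ)) :
    (Nat.card L : ℝ)⁻¹ * ∑ a ∈ Finset.univ.filter (fun a => a ∈ hashSet H), ‖rho R ψ a‖ ^ 2 =
      ((Nat.card H : ℝ) * ∑ θ, (c θ : ℝ) ^ 2 - (∑ θ, (c θ : ℝ) * (d θ : ℝ)) ^ 2) /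
        ((H.index : ℝ) * Nat.card H) := by
  haveI := Fintype.ofFinite H
  set F : H → ℂ := ∑ θ : Cfsg.IrrCharacter H, (c θ : ℂ) • (θ : H → ℂ) with hF
  have hFa : ∀ h : H, F h = ∑ θ : Cfsg.IrrCharacter H, (c θ : ℂ) * (θ : H → ℂ) h := fun h => by
    simp [hF, Finset.sum_apply]
  have hnorm : Cfsg.classInner F F = ∑ θ, ((c θ : ℂ)) ^ 2 := by
    conv_lhs => arg 2; rw [hF]
    rw [classInner_sum_right]
    refine Finset.sum_congr rfl fun θ _ => ?_
    rw [classInner_smul_right, hF, classInner_sum_smul_irr, if_pos (Finset.mem_univ θ), map_intCast, sq]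
  rw [Coherence.self_eq] at hnorm
  have h2 : (Nat.card H : ℝ)⁻¹ * ∑ h : H, ‖F h‖ ^ 2 = ∑ θ, (c θ : ℝ) ^ 2 := by
    have : (((Nat.card H : ℝ)⁻¹ * ∑ h : H, ‖F h‖ ^ 2 : ℝ) : ℂ) = ((∑ θ, (c θ : ℝ) ^ 2 : ℝ) : ℂ) := by
      rw [hnorm]; push_cast; rfl
    exact_mod_cast this
  have h1 : ‖F 1‖ ^ 2 = (∑ θ, (c θ : ℝ) * (d θ : ℝ)) ^ 2 := by
    rw [hFa, show (∑ θ : Cfsg.IrrCharacter H, (c θ : ℂ) * (θ : H → ℂ) 1) =
      ((∑ θ, (c θ : ℝ) * (d θ : ℝ) : ℝ) : ℂ) by push_cast; simp [hd], Complex.norm_real, Real.norm_eq_abs,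
      sq_abs]
  have hHne : (Nat.card H : ℝ) ≠ 0 := Nat.cast_ne_zero.2 Nat.card_pos.ne'
  have h3 : ∑ h ∈ Finset.univ.erase (1 : H), ‖F h‖ ^ 2 =
      (Nat.card H : ℝ) * ∑ θ, (c θ : ℝ) ^ 2 - (∑ θ, (c θ : ℝ) * (d θ : ℝ)) ^ 2 := by
    rw [← h2, ← h1, ← mul_assoc, mul_inv_cancel₀ hHne, one_mul, eq_sub_iff_add_eq,
      Finset.sum_erase_add _ _ (Finset.mem_univ _)]
  rw [← h3, ← Subgroup.card_mul_index H, Nat.cast_mul, div_eq_inv_mul,
    mul_comm (Nat.card H : ℝ) (H.index : ℝ)]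
  congr 1
  refine (Finset.sum_bij (fun (h : H) _ => ((h : L) : G)) (fun h hh => ?_) (fun a _ b _ e => ?_)
    (fun a ha => ?_) fun h hh => ?_).symm
  · exact Finset.mem_filter.2 ⟨Finset.mem_univ _, h, (Finset.mem_erase.1 hh).1, rfl⟩
  · exact Subtype.ext (Subtype.ext e)
  · obtain ⟨h, hh, rfl⟩ := (Finset.mem_filter.1 ha).2
    exact ⟨h, Finset.mem_erase.2 ⟨hh, Finset.mem_univ _⟩, rfl⟩
  · rw [hFa, hc h (Finset.mem_erase.1 hh).1]

end Cfsg.Agent.OddChar.TypeOne.Gap
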