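import Cfsg.Agent.OddChar.TypeOne.Gap.LMain

/-!
# The contradiction when the characters outside the family have small degrees
-/

set_option autoImplicit false
set_option linter.unusedSectionVars false
set_option linter.style.haveILetI false

namespace Cfsg.Agent.OddChar.TypeOne.Gap

open Cfsg.Agent.Characters Cfsg.Agent.OddChar
open scoped ComplexConjugate

universe u

/-- The arithmetic when the outside degrees are small against the weight. -/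
theorem contra_small {p e v w' m H D G : ℕ} {a : ℤ} {S₁ S₂ : ℝ} (he : 2 ≤ e) (hep : e + 1 < p)
    (hdvd : e ∣ p ^ 2 - 1) (hv : e + 1 < v) (hw' : 0 < w') (hm : 0 < m) (hmH : m ≤ H)
    (hH : D + G = H) (ha : (p : ℤ) ∣ a - e)
    (hS : S₁ ^ 2 ≤ (D : ℝ) * S₂) (hS1 : 2 * (e : ℝ) * |S₁| ≤ (G : ℝ) * S₂)
    (hle : ((H : ℝ) * ((e : ℝ) + S₂) - ((e : ℝ) + S₁) ^ 2) / (e * H) +
      ((a : ℝ) ^ 2 * ((v * w' : ℕ) - (w' : ℝ)) / ((v * w' : ℕ) * m : ℝ)) ≤ 1) : False := by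
  have hH0 : 0 < H := lt_of_lt_of_le hm hmH
  have hfrac : (a : ℝ) ^ 2 * ((v * w' : ℕ) - (w' : ℝ)) / ((v * w' : ℕ) * m : ℝ) =
      (a : ℝ) ^ 2 * ((v : ℝ) - 1) / ((v : ℝ) * m) := by
    push_cast
    have : (w' : ℝ) ≠ 0 := Nat.cast_ne_zero.2 hw'.ne'
    field_simp
  rw [hfrac] at hle
  set K := (a : ℝ) ^ 2 * ((v : ℝ) - 1) / ((v : ℝ) * m) with hK
  have he0 : (0 : ℝ) < e := Nat.cast_pos.2 (by omega)
  have hHr : (0 : ℝ) < H := Nat.cast_pos.2 hH0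
  have hHeq : (D : ℝ) + G = H := by exact_mod_cast hH
  have h1 : ((H : ℝ) * ((e : ℝ) + S₂) - ((e : ℝ) + S₁) ^ 2) + K * (e * H) ≤ e * H := by
    have := mul_le_mul_of_nonneg_right hle (mul_pos he0 hHr).le
    rwa [add_mul, div_mul_cancel₀ _ (mul_pos he0 hHr).ne', one_mul] at this
  have habs : S₁ ≤ |S₁| := le_abs_self _
  have h1' : S₁ ^ 2 + 2 * (e : ℝ) * S₁ ≤ (H : ℝ) * S₂ := by
    rw [← hHeq, add_mul]
    exact add_le_add hS ((mul_le_mul_of_nonneg_left habs (by positivity)).trans hS1)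
  have h2 : K * (e * H) ≤ (e : ℝ) ^ 2 := by nlinarith
  have h3 : K * H ≤ (e : ℝ) := le_of_mul_le_mul_left (by linarith) he0
  have hvm : (0 : ℝ) < (v : ℝ) * m := mul_pos (Nat.cast_pos.2 (by omega)) (Nat.cast_pos.2 hm)
  rw [hK, div_mul_eq_mul_div, div_le_iff₀ hvm] at h3
  have hmH' : (m : ℝ) ≤ H := by exact_mod_cast hmH
  have h4 : (a : ℝ) ^ 2 * ((v : ℝ) - 1) ≤ (e : ℝ) * v := by
    refine le_of_mul_le_mul_right (h3.trans ?_) hHr
    calc (e : ℝ) * ((v : ℝ) * m) ≤ (e : ℝ) * ((v : ℝ) * H) := by gcongr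
      _ = _ := by ring
  have h5 : ((e : ℝ) + 1) ≤ (a : ℝ) ^ 2 := by exact_mod_cast sq_ge_succ he hep hdvd ha
  have h6 : (e : ℝ) + 2 ≤ v := by exact_mod_cast hv
  nlinarith

variable {G : Type u} [Group G] [Fintype G] {L : Subgroup G} [Fintype L] {H : Subgroup L}
  [hN : H.Normal] {T : Finset (Cfsg.IrrCharacter H)} (hT : Fam H T)
  {A : Set G} {R : G → Subgroup G} (hD : Cfsg.DadeHypothesis A L R)
  (hHA : ∀ h : H, h ≠ 1 → ((h : L) : G) ∈ A)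
  {σ : (L → ℂ) → (G → ℂ)}
  (hσ : Cfsg.IsLinearIsometryOn (Cfsg.zspan (↑(img H T) : Set (L → ℂ))) σ)
  (hagree : ∀ α ∈ Cfsg.zspanOn (↑(img H T) : Set (L → ℂ)) {1}ᶜ, σ α = Cfsg.dadeIsometry A L R α)
  {θ₀ : Cfsg.IrrCharacter H} (hθ₀ : θ₀ ∈ T) (h0 : (θ₀ : H → ℂ) 1 = 1)
  {B : Set G} {M : Subgroup G} {R' : G → Subgroup G} (hD' : Cfsg.DadeHypothesis B M R')
  (hdisj : ∀ g ∈ Dade.support (hashSet H) R, g ∉ Dade.support B R')
  {p v w' m : ℕ} (hp : p.Prime) {u : H} (huo : orderOf u = p) {a : ℤ}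
  (hcong : Cong p (a : ℂ) (rho R (σ (Cfsg.indFun H (θ₀ : H → ℂ))) ((u : L) : G)))
  (hMle : (a : ℝ) ^ 2 * ((v * w' : ℕ) - (w' : ℝ)) / ((v * w' : ℕ) * m : ℝ) ≤
    (Nat.card M : ℝ)⁻¹ * ∑ b ∈ @Finset.filter G (fun b => b ∈ B) (Classical.decPred _) Finset.univ,
      ‖rho R' (σ (Cfsg.indFun H (θ₀ : H → ℂ))) b‖ ^ 2)

include hT hD hHA hσ hagree hθ₀ h0 hD' hdisj hp huo hcong hMle

open Classical in
/-- The contradiction when either the weight or the degrees are favourable. -/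
theorem contradiction_small [Fintype (Cfsg.IrrCharacter H)]
    (hout : ∀ θ : Cfsg.IrrCharacter H, θ ∉ T → θ ≠ trivIrr H → Cong p ((θ : H → ℂ) u) 0)
    (he : 2 ≤ H.index) (hep : H.index + 1 < p) (hdvd : H.index ∣ p ^ 2 - 1) (hv : H.index + 1 < v)
    (hw' : 0 < w') (hm : 0 < m) (hp2 : p ^ 2 ≤ weight T)
    (hcase : m ≤ weight T ∨ (m ≤ Nat.card H ∧ ∀ θ : Cfsg.IrrCharacter H, θ ∉ T → θ ≠ trivIrr H →
      2 * H.index * Cfsg.charDegree (θ : H → ℂ) ≤ weight T)) : False := by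
  rcases hcase with hmW | ⟨hmH, hdeg⟩
  · exact contradiction hT hD hHA hσ hagree hθ₀ h0 hD' hdisj hp huo hcong hMle hout he hep hdvd hv
      hw' hm hmW hp2
  obtain ⟨c, -, -, hc, hle, hsum⟩ := inequality hT hD hHA hσ hagree hθ₀ h0 hD' hdisj hp huo hcong hMle
  set T' := out T with hT'
  have hcs : (∑ θ ∈ T', (c θ : ℝ) * (Cfsg.charDegree (θ : H → ℂ) : ℝ)) ^ 2 ≤
      ((∑ θ ∈ T', Cfsg.charDegree (θ : H → ℂ) ^ 2 : ℕ) : ℝ) * ∑ θ ∈ T', (c θ : ℝ) ^ 2 := by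
    push_cast
    rw [mul_comm]
    exact Finset.sum_mul_sq_le_sq_mul_sq T' _ _
  have hsum0 : Cong p (∑ θ ∈ T', (c θ : ℂ) * (θ : H → ℂ) u) 0 := by
    have : Cong p (∑ θ ∈ T', (c θ : ℂ) * (θ : H → ℂ) u) (∑ _θ ∈ T', (0 : ℂ)) :=
      Cong.sum hp _ fun θ hθ => by
        have h3 := Cong.mul_left (c := (c θ : ℂ)) isIntegral_algebraMap (hout θ
          (mem_out.1 hθ).2 (mem_out.1 hθ).1)
        rwa [mul_zero] at h3
    simpa using this
  have ha : (p : ℤ) ∣ a - ((H.index : ℤ) + c (trivIrr H)) := by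
    refine Cong.dvd hp (Cong.trans hp hc ?_)
    push_cast
    refine Cong.add hp (Cong.refl hp _) ?_
    conv_rhs => rw [← add_zero (c (trivIrr H) : ℂ)]
    exact Cong.add hp (Cong.refl hp _) hsum0
  by_cases hγ : c (trivIrr H) = 0
  · rw [hγ, add_zero] at ha
    refine contra_small he hep hdvd hv hw' hm hmH hsum ha hcs ?_
      (le_of_eq_of_le (by rw [hγ]; simp only [Int.cast_zero, zero_pow two_ne_zero, add_zero]) hle)
    rw [Finset.mul_sum]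
    refine (mul_le_mul_of_nonneg_left (Finset.abs_sum_le_sum_abs _ _) (by positivity)).trans ?_
    rw [Finset.mul_sum]
    refine Finset.sum_le_sum fun θ hθ => ?_
    have h1 : 2 * (H.index : ℝ) * (Cfsg.charDegree (θ : H → ℂ) : ℝ) ≤ (weight T : ℝ) := by
      exact_mod_cast hdeg θ (mem_out.1 hθ).2 (mem_out.1 hθ).1
    have h2 : |(c θ : ℝ)| ≤ (c θ : ℝ) ^ 2 := by
      have : |c θ| ≤ c θ ^ 2 := by
        rw [← sq_abs]; exact Int.le_self_sq _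
      rw [← Int.cast_abs, ← Int.cast_pow]
      exact_mod_cast this
    rw [abs_mul, Nat.abs_cast]
    calc 2 * (H.index : ℝ) * (|(c θ : ℝ)| * (Cfsg.charDegree (θ : H → ℂ) : ℝ))
        = |(c θ : ℝ)| * (2 * (H.index : ℝ) * (Cfsg.charDegree (θ : H → ℂ) : ℝ)) := by ring
      _ ≤ (c θ : ℝ) ^ 2 * (weight T : ℝ) := mul_le_mul h2 h1 (by positivity) (sq_nonneg _)
      _ = _ := by ring
  · have hW0 : 0 < weight T := by unfold weight; omega
    have h2 := reduce (K := (a : ℝ) ^ 2 * ((v * w' : ℕ) - (w' : ℝ)) / ((v * w' : ℕ) * m : ℝ))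
      (Nat.cast_nonneg _) (Nat.cast_pos.2 hW0) (by rw [← Nat.cast_add, hsum]) (Nat.cast_pos.2 (by omega))
      hcs (Finset.sum_nonneg fun θ _ => sq_nonneg _) hle
    exact contra (γ := c (trivIrr H)) (a := a) he hep hdvd hv hw' hm (fun h => absurd h hγ) hp2
      ha h2

end Cfsg.Agent.OddChar.TypeOne.Gap
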