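import Cfsg.Agent.OddChar.TypeOne.Gap.MSpan

/-!
# Differences of characters induced from linear characters of the core
-/

set_option autoImplicit false
set_option linter.unusedSectionVars false
set_option linter.style.haveILetI false

namespace Cfsg.Agent.OddChar.TypeOne.Gap

open Cfsg.Agent.Characters Cfsg.Agent.OddChar
open scoped ComplexConjugate

universe u

variable {G : Type u} [Group G]

/-- A linear character as a complex function. -/
def linFun {A : Type*} [Group A] (θ : A →* ℂˣ) : A → ℂ := fun w => (θ w : ℂ)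

theorem linFun_irr {A : Type u} [Group A] (θ : A →* ℂˣ) : Cfsg.IsIrrCharacter A (linFun θ) :=
  isIrrCharacter_linear θ

theorem linFun_one {A : Type*} [Group A] (θ : A →* ℂˣ) : linFun θ 1 = 1 := by simp [linFun]

theorem linFun_ne {A : Type*} [Group A] {θ : A →* ℂˣ} (h : θ ≠ 1) : linFun θ ≠ fun _ => 1 := fun e =>
  h (MonoidHom.ext fun w => Units.ext (by simpa [linFun] using congrFun e w))

/-- The inertia group of a linear character of a normal subgroup. -/
def inert {M : Type*} [Group M] (W : Subgroup M) [hW : W.Normal] (θ : W →* ℂˣ) : Subgroup M where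
  carrier := {g | ∀ w : W, θ ⟨g * w * g⁻¹, hW.conj_mem w w.2 g⟩ = θ w}
  one_mem' := fun w => congrArg θ (Subtype.ext (by simp))
  mul_mem' := fun {a b} ha hb w => by
    rw [← hb w, ← ha ⟨b * w * b⁻¹, hW.conj_mem w w.2 b⟩]
    exact congrArg θ (Subtype.ext (by simp [mul_assoc]))
  inv_mem' := fun {a} ha w => by
    rw [← ha ⟨a⁻¹ * w * a⁻¹⁻¹, hW.conj_mem w w.2 a⁻¹⟩]
    exact congrArg θ (Subtype.ext (by simp [mul_assoc]))

theorem mem_inert {M : Type*} [Group M] {W : Subgroup M} [hW : W.Normal] {θ : W →* ℂˣ} {g : M} :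
    g ∈ inert W θ ↔ ∀ h : W, linFun θ ⟨g * h * g⁻¹, hW.conj_mem h h.2 g⟩ = linFun θ h :=
  forall_congr' fun _ => Units.ext_iff

theorem le_inert {M : Type*} [Group M] (W : Subgroup M) [W.Normal] (θ : W →* ℂˣ) : W ≤ inert W θ :=
  fun g hg w => by
    rw [show (⟨g * w * g⁻¹, _⟩ : W) = ⟨g, hg⟩ * w * (⟨g, hg⟩ : W)⁻¹ from Subtype.ext rfl, map_mul,
      map_mul, map_inv, mul_right_comm, mul_inv_cancel, one_mul]

variable [Fintype G] {M : Subgroup G} [Fintype M] {W : Subgroup M} {R : G → Subgroup G}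
  {ψ : Fin 3 → G → ℂ} (h : MHyp M W R ψ) [hWn : W.Normal]
include h

/-- The constituents of a nonprincipal linear character of `W`. -/
theorem MHyp.parts [Fintype W] (θ : W →* ℂˣ) (hθ : θ ≠ 1) :
    ∃ (C : Finset (M → ℂ)) (d : ℂ), d ≠ 0 ∧
      (∀ χ ∈ C, χ ∈ ntSet W ∧ χ 1 = d ∧ Cfsg.classInner (fun w : W => χ w) (linFun θ) ≠ 0) ∧
      Cfsg.indFun W (linFun θ) = ∑ χ ∈ C, χ := by
  classical
  have hfix : ∀ x ∈ inert W θ, ∃ w ∈ W, w ≠ 1 ∧ x * w = w * x := fun x hx =>
    (S1536.result W h.cop x).1 ⟨linFun θ, linFun_irr θ, linFun_ne hθ, funext fun w => mem_inert.1 hx w⟩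
  obtain ⟨C, hC, -, hind, hdeg⟩ := S1491.result W (inert W θ) (linFun θ) (linFun_irr θ)
    (fun g => mem_inert) (fun x hx y hy => h.comm x y (hfix x hx) (hfix y hy))
    (h.cop.coprime_dvd_right (Dvd.intro _ (Subgroup.relIndex_mul_index (le_inert W θ))))
  refine ⟨C, ((inert W θ).index : ℂ), Nat.cast_ne_zero.2 Subgroup.index_ne_zero_of_finite,
    fun χ hχ => ?_, hind⟩
  have hin : Cfsg.classInner (fun w : W => χ w) (linFun θ) ≠ 0 := by
    rw [← frobenius_reciprocity' W (linFun θ) (char_isClassFunction (isCharacter_of_isIrr (hC χ hχ))),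
      hind, classInner_sum_right, Finset.sum_eq_single χ
        (fun ξ hξ hne => classInner_isIrr_ne (hC χ hχ) (hC ξ hξ) (Ne.symm hne))
        (fun hh => absurd hχ hh), classInner_isIrr_self (hC χ hχ)]
    exact one_ne_zero
  refine ⟨⟨hC χ hχ, ?_⟩, by simpa [linFun_one] using hdeg χ hχ, hin⟩
  by_contra hker
  push Not at hker
  refine hin ?_
  rw [show (fun w : W => χ w) = (χ 1) • fun _ : W => (1 : ℂ) from funext fun w => by
    simp [hker w w.2], classInner_smul_left,
    classInner_isIrr_ne isIrrCharacter_one (linFun_irr θ) (Ne.symm (linFun_ne hθ)), mul_zero]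

open Classical in
/-- The pairing does not distinguish the nonprincipal linear characters of `W`. -/
theorem MHyp.pair_linear [Fintype W] (θ θ' : W →* ℂˣ) (hθ : θ ≠ 1) (hθ' : θ' ≠ 1) :
    h.pair (Cfsg.indFun W (linFun θ) - Cfsg.indFun W (linFun θ')) = 0 := by
  obtain ⟨C, d, hd0, hC, hind⟩ := h.parts θ hθ
  obtain ⟨C', d', hd0', hC', hind'⟩ := h.parts θ' hθ'
  have hcard : (C.card : ℂ) * d = C'.card * d' := by
    have e : ∀ (η : W →* ℂˣ) (D : Finset (M → ℂ)) (δ : ℂ),
        (∀ χ ∈ D, χ 1 = δ) → Cfsg.indFun W (linFun η) = ∑ χ ∈ D, χ → (D.card : ℂ) * δ = W.index := by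
      intro η D δ hD hη
      have := congrFun hη 1
      rw [indFun_one, linFun_one, mul_one, Finset.sum_apply, Finset.sum_congr rfl hD,
        Finset.sum_const, nsmul_eq_mul] at this
      exact this.symm
    rw [e θ C d (fun χ hχ => (hC χ hχ).2.1) hind, e θ' C' d' (fun χ hχ => (hC' χ hχ).2.1) hind']
  by_cases hdd : d = d'
  · subst hdd
    have hcc : C.card = C'.card := by exact_mod_cast mul_right_cancel₀ hd0 hcard
    rw [hind, hind']
    rcases C.eq_empty_or_nonempty with rfl | ⟨χ₀, hχ₀⟩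
    · rw [Finset.card_empty] at hcc
      rw [Finset.card_eq_zero.1 hcc.symm, sub_self, h.pair_zero]
    have e : (∑ χ ∈ C, χ) - ∑ χ ∈ C', χ = (∑ χ ∈ C, (χ - χ₀)) - ∑ χ ∈ C', (χ - χ₀) := by
      simp only [Finset.sum_sub_distrib, Finset.sum_const, hcc]
      abel
    rw [e, h.pair_sub, h.pair_sum, h.pair_sum, Finset.sum_eq_zero, Finset.sum_eq_zero, sub_zero]
    · exact fun χ hχ => h.pair_diff (hC' χ hχ).1 (hC χ₀ hχ₀).1 ((hC' χ hχ).2.1.trans (hC χ₀ hχ₀).2.1.symm)
    · exact fun χ hχ => h.pair_diff (hC χ hχ).1 (hC χ₀ hχ₀).1 ((hC χ hχ).2.1.trans (hC χ₀ hχ₀).2.1.symm)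
  set E := C ∪ C' with hE
  have hEnt : ∀ χ ∈ E, χ ∈ ntSet W := fun χ hχ =>
    (Finset.mem_union.1 hχ).elim (fun hh => (hC χ hh).1) fun hh => (hC' χ hh).1
  have hdisj : Disjoint C C' := Finset.disjoint_left.2 fun χ h1 h2 =>
    hdd ((hC χ h1).2.1.symm.trans (hC' χ h2).2.1)
  -- no member of `E` has its conjugate in `E`
  have hnoconj : ∀ χ ∈ E, Cfsg.conjFun χ ∉ E := by
    intro χ hχ hχ'
    have hone : ∀ ξ ∈ E, Cfsg.conjFun ξ 1 = ξ 1 := fun ξ hξ => by
      obtain ⟨n, -, hn⟩ := irr_one_pos (hEnt ξ hξ).1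
      simp [Cfsg.conjFun, hn]
    have aux : ∀ (η : W →* ℂˣ) (D : Finset (M → ℂ)), η ≠ 1 →
        (∀ ξ ∈ D, ξ ∈ ntSet W ∧ Cfsg.classInner (fun w : W => ξ w) (linFun η) ≠ 0) →
        χ ∈ D → Cfsg.conjFun χ ∈ D → False := by
      intro η D hη hD h1 h2
      have h3 : Cfsg.classInner (fun w : W => Cfsg.conjFun χ w) (fun w : W => conj (linFun η w)) ≠ 0 := by
        rw [show (fun w : W => Cfsg.conjFun χ w) = fun w : W => conj ((fun w : W => χ w) w) from rfl,
          classInner_conj_conj]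
        exact fun e => (hD χ h1).2 (by simpa using e)
      obtain ⟨g, hg⟩ := exists_conjugate_of_constituents (N := W) (hD _ h2).1.1 (linFun_irr η)
        (isIrrCharacter_conj (linFun_irr η)) (hD _ h2).2 h3
      have hg' : ∀ w : W, linFun η ⟨g * w * g⁻¹, hWn.conj_mem w w.2 g⟩ = conj (linFun η w) := fun w =>
        (congrFun hg w).symm
      have h4 : g * g ∈ inert W η := mem_inert.2 fun w => by
        have e1 := hg' ⟨g * w * g⁻¹, hWn.conj_mem w w.2 g⟩
        rw [hg' w, Complex.conj_conj] at e1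
        rw [← e1]
        exact congrArg (linFun η) (Subtype.ext (by simp [mul_assoc]))
      have h5 : g ∈ inert W η := by
        obtain ⟨k, hk⟩ := h.odd
        have e : g = (g * g) ^ (k + 1) := by
          rw [← pow_two, ← pow_mul, show 2 * (k + 1) = (2 * k + 1) + 1 by ring, ← hk, pow_succ,
            pow_card_eq_one', one_mul]
        rw [e]; exact pow_mem h4 _
      refine linFun_ne hη (S0161.result (h.odd.of_dvd_nat (Subgroup.card_subgroup_dvd_card W))
        ⟨linFun η, linFun_irr η⟩ fun w => Complex.conj_eq_iff_im.1 ?_)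
      rw [← hg' w]
      exact mem_inert.1 h5 w
    rcases Finset.mem_union.1 hχ with h1 | h1 <;> rcases Finset.mem_union.1 hχ' with h2 | h2
    · exact aux θ C hθ (fun ξ hξ => ⟨(hC ξ hξ).1, (hC ξ hξ).2.2⟩) h1 h2
    · exact hdd (((hC χ h1).2.1).symm.trans ((hone χ hχ).symm.trans (hC' _ h2).2.1))
    · exact hdd (((hC _ h2).2.1).symm.trans ((hone χ hχ).trans (hC' χ h1).2.1))
    · exact aux θ' C' hθ' (fun ξ hξ => ⟨(hC' ξ hξ).1, (hC' ξ hξ).2.2⟩) h1 h2
  set α := Cfsg.indFun W (linFun θ) - Cfsg.indFun W (linFun θ') with hαdef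
  have hαm : α ∈ Cfsg.zspan (ntSet W) := by
    rw [hαdef, hind, hind']
    exact Submodule.sub_mem _ (Submodule.sum_mem _ fun χ hχ => Submodule.subset_span (hC χ hχ).1)
      (Submodule.sum_mem _ fun χ hχ => Submodule.subset_span (hC' χ hχ).1)
  have hα1 : α 1 = 0 := by simp [hαdef, indFun_one, linFun_one]
  obtain ⟨z, hz⟩ := h.pair_int hαm hα1
  have hμex : ∀ χ ∈ E, ∃ μ : G → ℂ, Cfsg.IsIrrCharacter G μ ∧
      Cfsg.dadeIsometry (fixSet W) M R (χ - Cfsg.conjFun χ) = μ - Cfsg.conjFun μ := fun χ hχ =>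
    S1518.result _ M R h.dade χ (hEnt χ hχ).1 fun x hx1 hx => vanish W (hEnt χ hχ) fun y hy e =>
      by_contra fun hy1 => hx (mem_fixSet.2 ⟨hx1, y, hy, hy1, e⟩)
  choose! μ hμ hτμ using hμex
  set τ := Cfsg.dadeIsometry (fixSet W) M R with hτdef
  have hdiff : ∀ χ ∈ E, χ - Cfsg.conjFun χ ∈ Cfsg.zspan (ntSet W) ∧ (χ - Cfsg.conjFun χ) 1 = 0 :=
    fun χ hχ => ⟨Submodule.sub_mem _ (Submodule.subset_span (hEnt χ hχ))
      (Submodule.subset_span (ntSet_conj W (hEnt χ hχ))), by
      obtain ⟨n, -, hn⟩ := irr_one_pos (hEnt χ hχ).1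
      simp [Cfsg.conjFun, hn]⟩
  have hinner : ∀ χ ∈ E, ∀ χ' ∈ E, Cfsg.classInner (χ - Cfsg.conjFun χ) (χ' - Cfsg.conjFun χ') =
      if χ = χ' then 2 else 0 := by
    intro χ hχ χ' hχ'
    have i1 := (hEnt χ hχ).1
    have i2 := (hEnt χ' hχ').1
    have j1 : Cfsg.IsIrrCharacter M (Cfsg.conjFun χ) := isIrrCharacter_conj i1
    have j2 : Cfsg.IsIrrCharacter M (Cfsg.conjFun χ') := isIrrCharacter_conj i2
    have n1 : χ ≠ Cfsg.conjFun χ' := fun e => hnoconj χ' hχ' (e ▸ hχ)
    have n2 : Cfsg.conjFun χ ≠ χ' := fun e => hnoconj χ hχ (e ▸ hχ')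
    simp only [classInner_sub_left, classInner_sub_right, classInner_isIrr_ne i1 j2 n1,
      classInner_isIrr_ne j1 i2 n2]
    split_ifs with e
    · subst e
      simp only [classInner_isIrr_self i1, classInner_isIrr_self j1]
      norm_num
    · rw [classInner_isIrr_ne i1 i2 e, classInner_isIrr_ne j1 j2 fun e' => e (funext fun x =>
        (starRingEnd ℂ).injective (congrFun e' x))]
      ring
  have hτinner : ∀ χ ∈ E, ∀ χ' ∈ E, Cfsg.classInner (μ χ - Cfsg.conjFun (μ χ)) (μ χ' - Cfsg.conjFun (μ χ')) =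
      if χ = χ' then 2 else 0 := fun χ hχ χ' hχ' => by
    rw [← hτμ χ hχ, ← hτμ χ' hχ', h.isometry (hdiff χ hχ).1 (hdiff χ hχ).2 (hdiff χ' hχ').1
      (hdiff χ' hχ').2, hinner χ hχ χ' hχ']
  have hμc : ∀ χ ∈ E, Cfsg.IsIrrCharacter G (Cfsg.conjFun (μ χ)) := fun χ hχ =>
    isIrrCharacter_conj (hμ χ hχ)
  have hμne : ∀ χ ∈ E, μ χ ≠ Cfsg.conjFun (μ χ) := fun χ hχ e => by
    have := hτinner χ hχ χ hχ
    rw [← e, sub_self, if_pos rfl] at this
    simp at this
  set f : Option ((M → ℂ) × Bool) → G → ℂ := fun i => match i with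
    | none => ψ 0
    | some (χ, true) => μ χ
    | some (χ, false) => Cfsg.conjFun (μ χ) with hf
  set s : Finset (Option ((M → ℂ) × Bool)) :=
    insert none ((E ×ˢ (Finset.univ : Finset Bool)).image some) with hs
  -- the characters `μ χ`, `conj (μ χ)` avoid `ψ 0`
  have hψμ : ∀ χ ∈ E, Cfsg.classInner (ψ 0) (μ χ) = 0 ∧ Cfsg.classInner (ψ 0) (Cfsg.conjFun (μ χ)) = 0 := by
    intro χ hχ
    obtain ⟨x, hx⟩ := classInner_gen_int (h.gen 0) (isGen_of_isCharacter (isCharacter_of_isIrr (hμ χ hχ)))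
    obtain ⟨y, hy⟩ := classInner_gen_int (h.gen 0) (isGen_of_isCharacter (isCharacter_of_isIrr (hμc χ hχ)))
    have hp : h.pair (χ - Cfsg.conjFun χ) = 0 := h.pair_diff (hEnt χ hχ) (ntSet_conj W (hEnt χ hχ))
      (sub_eq_zero.1 (hdiff χ hχ).2)
    rw [MHyp.pair, ← hτdef, hτμ χ hχ, classInner_sub_left, Coherence.inner_comm_int hx,
      Coherence.inner_comm_int hy, sub_eq_zero, Int.cast_inj] at hp
    subst hp
    have hb := Coherence.bessel (s := (Finset.univ : Finset Bool))
      (f := fun b => if b then μ χ else Cfsg.conjFun (μ χ)) (n := fun _ => 1) (fun _ _ => one_pos)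
      (fun i _ j _ => by
        cases i <;> cases j <;> simp [classInner_isIrr_self (hμ χ hχ), classInner_isIrr_self (hμc χ hχ),
          classInner_isIrr_ne (hμ χ hχ) (hμc χ hχ) (hμne χ hχ),
          classInner_isIrr_ne (hμc χ hχ) (hμ χ hχ) (Ne.symm (hμne χ hχ))])
      (v := ψ 0) (u := fun _ => x) (fun i _ => by cases i <;> simp [hx, hy])
    rw [h.orth 0 0] at hb
    simp only [Nat.cast_one, div_one, Finset.sum_const, Finset.card_univ, Fintype.card_bool,
      nsmul_eq_mul, if_true, Complex.one_re] at hb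
    norm_num at hb
    have hx0 : x = 0 := by
      have : ((x ^ 2 : ℤ) : ℝ) < ((1 : ℤ) : ℝ) := by push_cast; linarith
      have : x ^ 2 < 1 := by exact_mod_cast this
      nlinarith
    subst hx0
    exact ⟨by simpa using hx, by simpa using hy⟩
  have hirr : ∀ χ ∈ E, ∀ b : Bool, Cfsg.IsIrrCharacter G (f (some (χ, b))) := fun χ hχ b => by
    cases b
    exacts [hμc χ hχ, hμ χ hχ]
  have hdistinct : ∀ χ ∈ E, ∀ χ' ∈ E, χ ≠ χ' →
      μ χ ≠ μ χ' ∧ μ χ ≠ Cfsg.conjFun (μ χ') ∧ Cfsg.conjFun (μ χ) ≠ Cfsg.conjFun (μ χ') := by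
    intro χ hχ χ' hχ' hne
    have h0 := hτinner χ hχ χ' hχ'
    rw [if_neg hne] at h0
    have i1 := hμ χ hχ
    have i2 := hμ χ' hχ'
    have j1 := hμc χ hχ
    have j2 := hμc χ' hχ'
    have hcancel : Cfsg.conjFun (μ χ) = Cfsg.conjFun (μ χ') → μ χ = μ χ' := fun e =>
      funext fun x => (starRingEnd ℂ).injective (congrFun e x)
    have hne1 : μ χ ≠ μ χ' := fun e => by
      rw [e, classInner_sub_left, classInner_sub_right, classInner_sub_right, classInner_isIrr_self i2,
        classInner_isIrr_self j2, classInner_isIrr_ne i2 j2 (hμne χ' hχ'),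
        classInner_isIrr_ne j2 i2 (Ne.symm (hμne χ' hχ'))] at h0
      norm_num at h0
    refine ⟨hne1, fun e => ?_, fun e => hne1 (hcancel e)⟩
    rw [e, Coherence.conjFun_conjFun, classInner_sub_left, classInner_sub_right, classInner_sub_right,
      classInner_isIrr_self i2, classInner_isIrr_self j2, classInner_isIrr_ne i2 j2 (hμne χ' hχ'),
      classInner_isIrr_ne j2 i2 (Ne.symm (hμne χ' hχ'))] at h0
    norm_num at h0
  have hfirr : ∀ i j : (M → ℂ) × Bool, i.1 ∈ E → j.1 ∈ E → f (some i) = f (some j) → i = j := by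
    rintro ⟨χ, b⟩ ⟨χ', b'⟩ hi hj e
    by_cases hcc : χ = χ'
    · subst hcc
      cases b <;> cases b' <;> simp only [hf] at e
      exacts [rfl, absurd e.symm (hμne χ hi), absurd e (hμne χ hi), rfl]
    · obtain ⟨d1, d2, d3⟩ := hdistinct χ hi χ' hj hcc
      obtain ⟨-, d4, -⟩ := hdistinct χ' hj χ hi (Ne.symm hcc)
      cases b <;> cases b' <;> simp only [hf] at e
      exacts [absurd e d3, absurd e.symm d4, absurd e d2, absurd e d1]
  set u : Option ((M → ℂ) × Bool) → ℤ := fun i =>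
    if he : ∃ k : ℤ, Cfsg.classInner (τ α) (f i) = (k : ℂ) then he.choose else 0 with hu
  have hτgen : Cfsg.IsGeneralizedCharacter G (τ α) :=
    S1501.result _ M R h.dade α (ntSet_gen W hαm) fun x hx => h.supp hαm hα1 hx
  have hui : ∀ i ∈ s, Cfsg.classInner (τ α) (f i) = (u i : ℂ) := by
    intro i hi
    have he : ∃ k : ℤ, Cfsg.classInner (τ α) (f i) = (k : ℂ) := by
      refine classInner_gen_int hτgen ?_
      rcases Finset.mem_insert.1 hi with rfl | hi'
      · exact h.gen 0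
      · obtain ⟨⟨χ, b⟩, hχb, rfl⟩ := Finset.mem_image.1 hi'
        exact isGen_of_isCharacter (isCharacter_of_isIrr (hirr χ (Finset.mem_product.1 hχb).1 b))
    simp only [hu]
    rw [dif_pos he]
    exact he.choose_spec
  have hb := Coherence.bessel (s := s) (f := f) (n := fun _ => 1) (fun _ _ => one_pos)
    (fun i hi j hj => by
      rcases Finset.mem_insert.1 hi with rfl | hi' <;> rcases Finset.mem_insert.1 hj with rfl | hj'
      · simp [hf, h.orth 0 0]
      · obtain ⟨⟨χ, b⟩, hχb, rfl⟩ := Finset.mem_image.1 hj'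
        have := hψμ χ (Finset.mem_product.1 hχb).1
        cases b <;> simp [hf, this.1, this.2]
      · obtain ⟨⟨χ, b⟩, hχb, rfl⟩ := Finset.mem_image.1 hi'
        have := hψμ χ (Finset.mem_product.1 hχb).1
        cases b <;> simp [hf, Coherence.inner_comm_zero this.1, Coherence.inner_comm_zero this.2]
      · obtain ⟨⟨χ, b⟩, hχb, rfl⟩ := Finset.mem_image.1 hi'
        obtain ⟨⟨χ', b'⟩, hχb', rfl⟩ := Finset.mem_image.1 hj'
        split_ifs with e
        · rw [e, classInner_isIrr_self (hirr _ (Finset.mem_product.1 hχb').1 _), Nat.cast_one]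
        · exact classInner_isIrr_ne (hirr _ (Finset.mem_product.1 hχb).1 _)
            (hirr _ (Finset.mem_product.1 hχb').1 _) fun e' => e (congrArg some
              (hfirr _ _ (Finset.mem_product.1 hχb).1 (Finset.mem_product.1 hχb').1 e')))
    (v := τ α) (u := u) hui
  rw [h.isometry hαm hα1 hαm hα1] at hb
  have hnorm : Cfsg.classInner α α = ((C.card + C'.card : ℕ) : ℂ) := by
    rw [hαdef, hind, hind']
    have hon : ∀ (D D' : Finset (M → ℂ)), (∀ χ ∈ D, χ ∈ ntSet W) → (∀ χ ∈ D', χ ∈ ntSet W) →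
        Cfsg.classInner (∑ χ ∈ D, χ) (∑ χ ∈ D', χ) = ((D ∩ D').card : ℂ) := by
      intro D D' hD hD'
      rw [classInner_sum_left, Finset.sum_congr rfl fun χ hχ => show Cfsg.classInner χ (∑ ξ ∈ D', ξ) =
          if χ ∈ D' then (1 : ℂ) else 0 by
        rw [classInner_sum_right, Finset.sum_congr rfl fun ξ hξ => show Cfsg.classInner χ ξ =
            if χ = ξ then (1 : ℂ) else 0 by
          split_ifs with e
          · rw [← e]; exact classInner_isIrr_self (hD χ hχ).1
          · exact classInner_isIrr_ne (hD χ hχ).1 (hD' ξ hξ).1 e, Finset.sum_ite_eq]]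
      rw [Finset.sum_boole, Finset.filter_mem_eq_inter]
    rw [classInner_sub_left, classInner_sub_right, classInner_sub_right,
      hon C C (fun χ h' => (hC χ h').1) (fun χ h' => (hC χ h').1),
      hon C' C' (fun χ h' => (hC' χ h').1) (fun χ h' => (hC' χ h').1),
      hon C C' (fun χ h' => (hC χ h').1) (fun χ h' => (hC' χ h').1),
      hon C' C (fun χ h' => (hC' χ h').1) (fun χ h' => (hC χ h').1),
      Finset.disjoint_iff_inter_eq_empty.1 hdisj, Finset.disjoint_iff_inter_eq_empty.1 hdisj.symm]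
    simp
  rw [hnorm, Complex.natCast_re] at hb
  have hpairsum : ∀ χ ∈ E, (1 : ℤ) ≤ u (some (χ, true)) ^ 2 + u (some (χ, false)) ^ 2 := by
    intro χ hχ
    have ht := hui (some (χ, true)) (Finset.mem_insert_of_mem (Finset.mem_image_of_mem _ (by simp [hχ])))
    have hf' := hui (some (χ, false)) (Finset.mem_insert_of_mem (Finset.mem_image_of_mem _ (by simp [hχ])))
    simp only [hf] at ht hf'
    have hval : ((u (some (χ, true)) - u (some (χ, false)) : ℤ) : ℂ) =
        Cfsg.classInner α (χ - Cfsg.conjFun χ) := by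
      rw [← h.isometry hαm hα1 (hdiff χ hχ).1 (hdiff χ hχ).2, ← hτdef, hτμ χ hχ, classInner_sub_right,
        ht, hf']
      push_cast; rfl
    have hval' : Cfsg.classInner α (χ - Cfsg.conjFun χ) = if χ ∈ C then 1 else -1 := by
      have hs' : ∀ (D : Finset (M → ℂ)) (ξ : M → ℂ), (∀ x ∈ D, x ∈ ntSet W) → ξ ∈ ntSet W →
          Cfsg.classInner (∑ x ∈ D, x) ξ = if ξ ∈ D then 1 else 0 := by
        intro D ξ hD hξ
        rw [classInner_sum_left, Finset.sum_congr rfl fun x hx => show Cfsg.classInner x ξ =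
            if x = ξ then (1 : ℂ) else 0 by
          split_ifs with e
          · rw [e]; exact classInner_isIrr_self hξ.1
          · exact classInner_isIrr_ne (hD x hx).1 hξ.1 e, Finset.sum_ite_eq']
      rw [hαdef, hind, hind', classInner_sub_left, classInner_sub_right, classInner_sub_right,
        hs' C χ (fun x hx => (hC x hx).1) (hEnt χ hχ),
        hs' C _ (fun x hx => (hC x hx).1) (ntSet_conj W (hEnt χ hχ)),
        hs' C' χ (fun x hx => (hC' x hx).1) (hEnt χ hχ),
        hs' C' _ (fun x hx => (hC' x hx).1) (ntSet_conj W (hEnt χ hχ))]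
      have n1 : Cfsg.conjFun χ ∉ C := fun e => hnoconj χ hχ (Finset.mem_union_left _ e)
      have n2 : Cfsg.conjFun χ ∉ C' := fun e => hnoconj χ hχ (Finset.mem_union_right _ e)
      rcases Finset.mem_union.1 hχ with e | e
      · simp [e, n1, n2, Finset.disjoint_left.1 hdisj e]
      · simp [e, n1, n2, Finset.disjoint_right.1 hdisj e]
    rw [hval'] at hval
    have : u (some (χ, true)) - u (some (χ, false)) = 1 ∨ u (some (χ, true)) - u (some (χ, false)) = -1 := by
      split_ifs at hval with e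
      · left; exact_mod_cast hval
      · right; exact_mod_cast hval
    rcases this with e | e <;>
      nlinarith [sq_nonneg (u (some (χ, true)) + u (some (χ, false)))]
  have hu0 : u none = z := by
    have := hui none (Finset.mem_insert_self _ _)
    simp only [hf] at this
    rw [show Cfsg.classInner (τ α) (ψ 0) = h.pair α from rfl, hz] at this
    exact_mod_cast this.symm
  rw [Finset.sum_insert (by simp), Finset.sum_image (fun a _ b _ e => Option.some.inj e),
    Finset.sum_product, hu0] at hb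
  simp only [Nat.cast_one, div_one, Fintype.sum_bool] at hb
  have hlow : ((C.card + C'.card : ℕ) : ℝ) ≤
      ∑ χ ∈ E, ((u (some (χ, true)) : ℝ) ^ 2 + (u (some (χ, false)) : ℝ) ^ 2) := by
    rw [← Finset.card_union_of_disjoint hdisj, show ((C ∪ C').card : ℝ) = ∑ _χ ∈ E, (1 : ℝ) by simp [hE]]
    exact Finset.sum_le_sum fun χ hχ => by exact_mod_cast hpairsum χ hχ
  have hz0 : (z : ℝ) ^ 2 ≤ 0 := by linarith
  have hz1 : z = 0 := by
    have := le_antisymm hz0 (sq_nonneg _)
    simpa using this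
  simpa [hz1] using hz

end Cfsg.Agent.OddChar.TypeOne.Gap
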