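import Cfsg.Agent.OddChar.TypeOne.Gap.MTwist
import Cfsg.Agent.OddChar.TypeOne.Gap.Cong
import Cfsg.Agent.Lib.Characters.Integrality

/-!
# The congruence on the side of `M`
-/

set_option autoImplicit false
set_option linter.unusedSectionVars false
set_option linter.style.haveILetI false

namespace Cfsg.Agent.OddChar.TypeOne.Gap

open Cfsg.Agent.Characters Cfsg.Agent.OddChar
open scoped ComplexConjugate

universe u

variable {G : Type u} [Group G]

theorem gen_value_int [Finite G] {χ : G → ℂ} (hχ : Cfsg.IsGeneralizedCharacter G χ) (g : G) :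
    IsIntegral ℤ (χ g) := by
  obtain ⟨a, b, ha, hb, rfl⟩ := hχ
  exact (char_value_isIntegral ha g).sub (char_value_isIntegral hb g)

variable [Fintype G] {M : Subgroup G} [Fintype M] {W : Subgroup M} {R : G → Subgroup G}
  {ψ : Fin 3 → G → ℂ} (h : MHyp M W R ψ) [hWn : W.Normal] [Fintype W]
  {p : ℕ} (hp : p.Prime) (hpW : ¬ p ∣ Nat.card W) {u : M} (huo : orderOf u = p)
include h hp hpW huo

/-- The sum over the fixed points of an invariant nonprincipal linear character vanishes. -/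
theorem MHyp.cent_zero (hy : ∃ y ∈ W, y ≠ 1 ∧ u * y = y * u) {θ : W →* ℂˣ} (hθ : θ ≠ 1)
    (hinv : u ∈ inert W θ) :
    ∑ y ∈ centIn W u, linFun θ y * conj (ψ 0 (((y : M) * u : M) : G)) = 0 := by
  classical
  set Φ : W × W → W := fun x => x.1 * x.2 * ⟨u * (x.1⁻¹ : W) * u⁻¹, hWn.conj_mem _ (x.1⁻¹).2 u⟩ with hΦ
  have hΦ' : ∀ x, ((Φ x : W) : M) = (x.1 : M) * x.2 * (u * (x.1 : M)⁻¹ * u⁻¹) := fun x => by simp [hΦ]
  set s : Finset (W × W) := Finset.univ ×ˢ centIn W u with hs
  set F : W → ℂ := fun w => linFun θ w * conj (ψ 0 (((w : M) * u : M) : G)) with hF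
  have h1 : ∀ x ∈ s, F (Φ x) = F x.2 := by
    intro x hx
    have e1 : θ ⟨u * (x.1⁻¹ : W) * u⁻¹, hWn.conj_mem _ (x.1⁻¹).2 u⟩ = θ x.1⁻¹ := hinv x.1⁻¹
    have e2 : linFun θ (Φ x) = linFun θ x.2 := by
      simp only [linFun, hΦ, map_mul, e1, map_inv]
      rw [mul_right_comm, mul_inv_cancel, one_mul]
    simp only [hF, e2]
    congr 2
    have e3 : (((Φ x : W) : M) * u : M) = (x.1 : M) * ((x.2 : M) * u) * (x.1 : M)⁻¹ := by
      rw [hΦ']; group
    rw [e3]
    push_cast
    exact isGen_isClassFunction (h.gen 0) _ _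
  have hfib : ∀ w : W, (s.filter fun x => Φ x = w).card = (centIn W u).card := by
    intro w
    obtain ⟨v, hv, c, hc, hcu, e⟩ := S1496.result W u
      (by rw [Subgroup.normalizer_eq_top]; exact Subgroup.mem_top _)
      (huo ▸ hp.coprime_iff_not_dvd.2 hpW) w w.2
    set x₀ : W := ⟨v⁻¹, W.inv_mem hv⟩ with hx₀
    set y₀ : W := ⟨c, hc⟩ with hy₀
    have hw : Φ (x₀, y₀) = w := by
      apply Subtype.ext
      rw [hΦ']
      show v⁻¹ * c * (u * v⁻¹⁻¹ * u⁻¹) = (w : M)
      have e' : (w : M) = v⁻¹ * (c * u) * v * u⁻¹ := by rw [← e]; group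
      rw [e']; group
    symm
    refine Finset.card_bij (fun d _ => (x₀ * d, d⁻¹ * y₀ * d)) ?_ ?_ ?_
    · intro d hd
      have hd' : Commute u (d : M) := mem_centIn.1 hd
      refine Finset.mem_filter.2 ⟨Finset.mem_product.2 ⟨Finset.mem_univ _, mem_centIn.2 ?_⟩, ?_⟩
      · push_cast
        exact ((hd'.inv_right.mul_right (show Commute u (y₀ : M) from hcu.symm)).mul_right hd').eq
      · rw [← hw]
        apply Subtype.ext
        rw [hΦ', hΦ']
        push_cast
        calc (x₀ : M) * d * ((d : M)⁻¹ * y₀ * d) * (u * ((x₀ : M) * d)⁻¹ * u⁻¹)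
            = (x₀ : M) * y₀ * ((d : M) * u * (d : M)⁻¹ * (x₀ : M)⁻¹ * u⁻¹) := by group
          _ = (x₀ : M) * y₀ * (u * (d : M) * (d : M)⁻¹ * (x₀ : M)⁻¹ * u⁻¹) := by rw [hd'.eq]
          _ = _ := by group
    · intro d _ d' _ e1
      exact mul_left_cancel (congrArg Prod.fst e1)
    · rintro ⟨x, y⟩ hx
      obtain ⟨hxy, hxw⟩ := Finset.mem_filter.1 hx
      have hy : Commute u (y : M) := mem_centIn.1 (Finset.mem_product.1 hxy).2
      set d : W := x₀⁻¹ * x with hd
      have key : (d : M) * ((y : M) * u) * (d : M)⁻¹ = (y₀ : M) * u := by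
        have e1 := congrArg (fun z : W => (z : M)) (hxw.trans hw.symm)
        simp only [hΦ'] at e1
        calc (d : M) * ((y : M) * u) * (d : M)⁻¹
            = (x₀ : M)⁻¹ * ((x : M) * y * (u * (x : M)⁻¹ * u⁻¹)) * (u * x₀) := by
              rw [hd]; push_cast; group
          _ = _ := by rw [e1]; group
      obtain ⟨k, hk0, hk1⟩ := Nat.chineseRemainder (m := p) (n := Nat.card W)
        ((hp.coprime_iff_not_dvd.2 hpW).symm) 0 1
      have hpowu : ∀ z : W, Commute u (z : M) → ((z : M) * u) ^ k = u := by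
        intro z hz
        rw [hz.symm.mul_pow, show (z : M) ^ k = 1 by
          refine orderOf_dvd_iff_pow_eq_one.1 ?_
          exact (Subgroup.orderOf_dvd_natCard W z.2).trans (Nat.modEq_zero_iff_dvd.1 hk0), one_mul,
          ← pow_mod_orderOf, huo, hk1, Nat.mod_eq_of_lt hp.one_lt, pow_one]
      have hdu : Commute u (d : M) := by
        have e1 := congrArg (· ^ k) key
        simp only [conj_pow, hpowu y hy, hpowu y₀ hcu.symm] at e1
        exact (mul_inv_eq_iff_eq_mul.1 e1).symm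
      refine ⟨d, mem_centIn.2 hdu.eq, ?_⟩
      refine Prod.ext (mul_inv_cancel_left x₀ x) ?_
      apply Subtype.ext
      push_cast
      have e2 : (d : M) * y * (d : M)⁻¹ = y₀ := by
        refine mul_right_cancel (b := u) ?_
        rw [← key, mul_assoc ((d : M) * y), ← (hdu.inv_right).eq]
        group
      rw [← e2]; group
  have h2 : ∑ x ∈ s, F (Φ x) = ((centIn W u).card : ℂ) * ∑ w, F w := by
    rw [← Finset.sum_fiberwise s Φ, Finset.mul_sum]
    refine Finset.sum_congr rfl fun w _ => ?_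
    rw [Finset.sum_congr rfl fun x hx => by rw [(Finset.mem_filter.1 hx).2], Finset.sum_const, hfib,
      nsmul_eq_mul]
  rw [Finset.sum_congr rfl h1, hs, Finset.sum_product] at h2
  dsimp only at h2
  rw [Finset.sum_const, nsmul_eq_mul, hF,
    h.twist_zero hp hpW huo hy hθ hinv, mul_zero, Finset.card_univ, ← Nat.card_eq_fintype_card] at h2
  exact (mul_eq_zero.1 h2).resolve_left natCard_ne_zero

/-- The sum over the fixed points of a linear character nontrivial on them vanishes. -/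
theorem MHyp.cent_zero' {θ : W →* ℂˣ} (hy : ∃ y ∈ centIn W u, θ y ≠ 1) :
    ∑ y ∈ centIn W u, linFun θ y * conj (ψ 0 (((y : M) * u : M) : G)) = 0 := by
  classical
  obtain ⟨y₀, hy₀, hθy₀⟩ := hy
  obtain ⟨k, hk⟩ : ∃ k : ℕ, p * k ≡ 1 [MOD Nat.card W] := by
    rcases eq_or_ne (Nat.card W) 1 with h1 | h1
    · exact ⟨1, by rw [h1]; exact Nat.modEq_one⟩
    obtain ⟨k, -, hk⟩ := Nat.exists_mul_mod_eq_one_of_coprime (hp.coprime_iff_not_dvd.2 hpW)
      (lt_of_le_of_ne Nat.card_pos (Ne.symm h1))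
    exact ⟨k, hk.trans (Nat.mod_eq_of_lt (lt_of_le_of_ne Nat.card_pos (Ne.symm h1))).symm⟩
  set σ : ℕ → W →* W := fun i => (MulAut.conjNormal (u ^ i) : W ≃* W).toMonoidHom with hσ
  have hσapp : ∀ i (w : W), ((σ i w : W) : M) = u ^ i * w * (u ^ i)⁻¹ := fun i w =>
    MulAut.conjNormal_apply (u ^ i) w
  set θ' : W →* ℂˣ := (∏ i ∈ Finset.range p, θ.comp (σ i)) ^ k with hθ'
  have hcent : ∀ y ∈ centIn W u, θ' y = θ y := by
    intro y hy
    have hfix : ∀ i, σ i y = y := fun i => Subtype.ext (by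
      rw [hσapp, (Commute.pow_left (mem_centIn.1 hy) i).eq, mul_inv_cancel_right])
    rw [hθ', MonoidHom.pow_apply, MonoidHom.finsetProd_apply, Finset.prod_congr rfl fun i _ => show
      (θ.comp (σ i)) y = θ y by rw [MonoidHom.comp_apply, hfix], Finset.prod_const, Finset.card_range,
      ← pow_mul, pow_eq_pow_mod (m := p * k) (n := Nat.card W) (by rw [← map_pow, pow_card_eq_one', map_one]),
      hk, ← pow_eq_pow_mod (m := 1) (n := Nat.card W) (by rw [← map_pow, pow_card_eq_one', map_one]), pow_one]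
  have hinv : u ∈ inert W θ' := by
    intro w
    have hstep : ∀ i, σ i ⟨u * w * u⁻¹, hWn.conj_mem w w.2 u⟩ = σ (i + 1) w := fun i => Subtype.ext (by
      rw [hσapp, hσapp, pow_succ]; group)
    have hwrap : σ p w = σ 0 w := Subtype.ext (by
      rw [hσapp, hσapp, ← huo, pow_orderOf_eq_one, pow_zero])
    rw [hθ', MonoidHom.pow_apply, MonoidHom.pow_apply, MonoidHom.finsetProd_apply,
      MonoidHom.finsetProd_apply]
    simp only [MonoidHom.comp_apply, hstep]
    congr 1
    have e1 := Finset.prod_range_succ (fun i => θ (σ i w)) p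
    rw [Finset.prod_range_succ', hwrap] at e1
    exact mul_right_cancel e1
  have hθ'1 : θ' ≠ 1 := fun e => hθy₀ (by rw [← hcent y₀ hy₀, e, MonoidHom.one_apply])
  rw [← h.cent_zero hp hpW huo ⟨y₀, y₀.2, fun e => hθy₀ (by
    rw [show y₀ = 1 from Subtype.ext e, map_one]), mem_centIn.1 hy₀⟩ hθ'1 hinv]
  exact Finset.sum_congr rfl fun y hy => by rw [linFun, linFun, hcent y hy]

open Classical in
/-- All coset sums over the fixed points agree. -/
theorem MHyp.cent_coset {y₀ : W} (hy₀ : y₀ ∈ centIn W u) :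
    ∑ c ∈ (centIn W u).filter (fun c : W => y₀⁻¹ * c ∈ commutator W), ψ 0 (((c : M) * u : M) : G) =
      ∑ c ∈ (centIn W u).filter (fun c : W => c ∈ commutator W), ψ 0 (((c : M) * u : M) : G) := by
  haveI : Finite (W →* ℂˣ) := Nat.finite_of_card_ne_zero (by
    rw [card_linear_hom]; exact Subgroup.index_ne_zero_of_finite)
  haveI := Fintype.ofFinite (W →* ℂˣ)
  set Φ : W → ℂ := fun c => conj (ψ 0 (((c : M) * u : M) : G)) with hΦ
  have key : ∀ z ∈ centIn W u, ∑ θ : W →* ℂˣ, linFun θ z⁻¹ * ∑ y ∈ centIn W u, linFun θ y * Φ y =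
      ((commutator W).index : ℂ) * ∑ c ∈ (centIn W u).filter (fun c : W => z⁻¹ * c ∈ commutator W), Φ c := by
    intro z _
    simp only [Finset.mul_sum]
    rw [Finset.sum_comm, Finset.sum_filter]
    refine Finset.sum_congr rfl fun y _ => ?_
    rw [Finset.sum_congr rfl fun θ _ => show linFun θ z⁻¹ * (linFun θ y * Φ y) =
      linFun θ (z⁻¹ * y) * Φ y by simp [linFun, mul_assoc], ← Finset.sum_mul, sum_hom]
    split_ifs <;> simp
  have hz : ∀ z ∈ centIn W u, ∑ θ : W →* ℂˣ, linFun θ z⁻¹ * ∑ y ∈ centIn W u, linFun θ y * Φ y =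
      ∑ θ : W →* ℂˣ, ∑ y ∈ centIn W u, linFun θ y * Φ y := by
    intro z hz
    refine Finset.sum_congr rfl fun θ _ => ?_
    by_cases hθ : ∃ y ∈ centIn W u, θ y ≠ 1
    · rw [hΦ, h.cent_zero' hp hpW huo hθ, mul_zero]
    · push Not at hθ
      rw [linFun, map_inv, hθ z hz, inv_one, Units.val_one, one_mul]
  have h1 : (1 : W) ∈ centIn W u := mem_centIn.2 (by simp)
  have e := (key y₀ hy₀).symm.trans ((hz y₀ hy₀).trans ((hz 1 h1).symm.trans (key 1 h1)))
  have e' := congrArg conj (mul_left_cancel₀ (Nat.cast_ne_zero.2 Subgroup.index_ne_zero_of_finite) e)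
  simpa [hΦ, map_sum] using e'

open Classical in
/-- The congruence between the level and the average at `u`. -/
theorem MHyp.cong_level {a : ℤ} (ha : ∀ θ : W →* ℂˣ, θ ≠ 1 →
    ∑ w : W, (1 - linFun θ w) * conj (fixVal W R (ψ 0) w) = (Nat.card W : ℂ) * a)
    (hy : ∃ y : W, y ∉ commutator W ∧ u * y = y * u) :
    Cong p (a : ℂ) (((centIn W u).card : ℂ)⁻¹ *
      ∑ c ∈ centIn W u, ψ 0 (((c : M) * u : M) : G)) := by
  obtain ⟨y₀, hy₀W, hy₀u⟩ := hy
  have hy₀ : y₀ ∈ centIn W u := mem_centIn.2 hy₀u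
  set C := centIn W u with hC
  set D := commutator W with hD
  set T := ∑ c ∈ C, ψ 0 (((c : M) * u : M) : G) with hT
  set C' := C.filter fun c : W => c ∈ D with hC'
  set K := ∑ c ∈ C', ψ 0 (((c : M) * u : M) : G) with hK
  have hTK : (C.card : ℂ) * K = (C'.card : ℂ) * T := by
    rw [← nsmul_eq_mul, ← Finset.sum_const, Finset.sum_congr rfl fun z (hz : z ∈ C) =>
      (h.cent_coset hp hpW huo hz).symm, Finset.sum_comm' (t' := C)
        (s' := fun c => C.filter fun z : W => z⁻¹ * c ∈ D), hT, Finset.mul_sum]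
    · refine Finset.sum_congr rfl fun c hc => ?_
      rw [Finset.sum_const, nsmul_eq_mul]
      congr 2
      refine Finset.card_bij' (fun z _ => z⁻¹ * c) (fun d _ => c * d⁻¹) ?_ ?_ ?_ ?_
      · intro z hz
        obtain ⟨hz1, hz2⟩ := Finset.mem_filter.1 hz
        refine Finset.mem_filter.2 ⟨mem_centIn.2 ?_, hz2⟩
        push_cast
        exact ((Commute.inv_right (mem_centIn.1 hz1)).mul_right (mem_centIn.1 hc)).eq
      · intro d hd
        obtain ⟨hd1, hd2⟩ := Finset.mem_filter.1 hd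
        refine Finset.mem_filter.2 ⟨mem_centIn.2 ?_, by simpa using hd2⟩
        push_cast
        exact (Commute.mul_right (mem_centIn.1 hc) (Commute.inv_right (mem_centIn.1 hd1))).eq
      · intro z _; group
      · intro d _; group
    · intro z c
      simp only [Finset.mem_filter]
      tauto
  set σ : Equiv.Perm W := (MulAut.conjNormal u : W ≃* W).toEquiv with hσdef
  have hσapp : ∀ w : W, ((σ w : W) : M) = u * w * u⁻¹ := fun w => MulAut.conjNormal_apply _ _
  have hσpow : σ ^ p = 1 := by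
    have hi : ∀ (i : ℕ) (w : W), (((σ ^ i) w : W) : M) = u ^ i * w * (u ^ i)⁻¹ := fun i => by
      induction i with
      | zero => intro w; simp
      | succ i ih => intro w; rw [pow_succ', Equiv.Perm.mul_apply, hσapp, ih, pow_succ']; group
    exact Equiv.ext fun w => Subtype.ext (by rw [hi, ← huo, pow_orderOf_eq_one]; simp)
  have hσD : ∀ w ∈ D, σ w ∈ D := fun w hw => by
    have hch : D.map (MulAut.conjNormal u : W ≃* W).toMonoidHom = D :=
      Subgroup.characteristic_iff_map_eq.1 inferInstance _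
    rw [← hch]; exact Subgroup.mem_map_of_mem _ hw
  have hfixed : ∀ w : W, σ w = w ↔ w ∈ C := fun w => by
    rw [hC, mem_centIn, Subtype.ext_iff, hσapp, mul_inv_eq_iff_eq_mul]
  set Y := Finset.univ.filter (fun c : W => y₀⁻¹ * c ∈ D) with hY
  have hY1 : ∀ c ∈ Y, (c : M) ≠ 1 := fun c hc e => hy₀W (by
    have hc' := (Finset.mem_filter.1 hc).2
    rw [show c = 1 from Subtype.ext e, mul_one] at hc'
    exact D.inv_mem_iff.1 hc')
  have huG : ((u : M) : G) ∈ fixSet W := mem_fixSet.2 ⟨fun e => hp.ne_one (by rw [← huo, e, orderOf_one]),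
    y₀, y₀.2, fun e => hy₀W (by rw [show y₀ = 1 from Subtype.ext e]; exact one_mem _), hy₀u⟩
  set m : W → ℕ := fun c => Nat.card (R ((c : M) : G)) with hm
  have hmp : ∀ c ∈ Y, ¬ p ∣ m c := by
    intro c hc hdvd
    have hcu := h.dade.coprime _ (mem_fixSet_self c.2 (hY1 c hc)) _ huG
    refine Nat.Prime.not_coprime_iff_dvd.2 ⟨p, hp, hdvd, ?_⟩ hcu
    rw [← huo, ← Subgroup.orderOf_coe]
    exact Subgroup.orderOf_dvd_natCard _
      (Subgroup.mem_inf.2 ⟨u.2, Subgroup.mem_centralizer_singleton_iff.2 rfl⟩)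
  have hmprod : ¬ p ∣ ∏ c ∈ Y, m c := fun hdvd => by
    obtain ⟨c, hc, hd⟩ := ((Nat.prime_iff.1 hp).dvd_finsetProd_iff _).1 hdvd
    exact hmp c hc hd
  have hFint : ∀ c ∈ Y, IsIntegral ℤ ((m c : ℂ) * fixVal W R (ψ 0) (c : M)) := fun c hc => by
    rw [fixVal_of_mem (mem_fixSet_self c.2 (hY1 c hc))]
    unfold rho
    rw [hm, ← mul_assoc, mul_inv_cancel₀ (Nat.cast_ne_zero.2 Nat.card_pos.ne'), one_mul]
    exact IsIntegral.sum _ fun r _ => gen_value_int (h.gen 0) _
  have hint : ∀ c ∈ Y, IsIntegral ℤ (((∏ d ∈ Y, m d : ℕ) : ℂ) * fixVal W R (ψ 0) (c : M)) := by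
    intro c hc
    rw [← Finset.mul_prod_erase Y m hc, Nat.cast_mul, mul_comm (m c : ℂ), mul_assoc]
    exact isIntegral_algebraMap.mul (hFint c hc)
  have c1 : Cong p ((Nat.card D : ℂ) * a) (∑ c ∈ Y.filter (fun c => σ c = c), fixVal W R (ψ 0) (c : M)) := by
    rw [← h.coset_sum ha hy₀W]
    refine Cong.sum_fixed hp σ hσpow Y (fun c hc => ?_) _ (fun c _ => ?_) hmprod hint
    · refine Finset.mem_filter.2 ⟨Finset.mem_univ _, ?_⟩
      have hmul : σ (y₀⁻¹ * c) = (σ y₀)⁻¹ * σ c := by simp [hσdef]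
      rw [← (hfixed y₀).2 hy₀, ← hmul]
      exact hσD _ (Finset.mem_filter.1 hc).2
    · rw [hσapp]
      exact h.fixVal_class _ _
  have c2 : Cong p (∑ c ∈ Y.filter (fun c => σ c = c), fixVal W R (ψ 0) (c : M)) K := by
    rw [hK, ← h.cent_coset hp hpW huo hy₀]
    refine Cong.trans hp (Cong.sum hp _ fun c hc => ?_) (Cong.of_eq hp (Finset.sum_congr ?_ fun _ _ => rfl))
    swap
    · ext c
      simp only [Finset.mem_filter, hY, Finset.mem_univ, true_and, hfixed, ← hC, ← hD]
      tauto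
    obtain ⟨hcY, hcfix⟩ := Finset.mem_filter.1 hc
    have hcu : (u : G) * ((c : M) : G) = ((c : M) : G) * u :=
      congrArg Subtype.val (mem_centIn.1 ((hfixed c).1 hcfix))
    have hcA := mem_fixSet_self c.2 (hY1 c hcY)
    have huc : (u : G) ∈ Subgroup.centralizer ({((c : M) : G)} : Set G) :=
      Subgroup.mem_centralizer_singleton_iff.2 hcu
    set S := Finset.univ.filter (fun r : G => r ∈ R ((c : M) : G)) with hS
    have hScard : (S.card : ℂ) = (m c : ℂ) := by
      simp only [hm]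
      rw [Nat.card_eq_fintype_card, Fintype.card_subtype]
    set τ : Equiv.Perm G := (MulAut.conj (u : G)).toEquiv with hτdef
    have hτapp : ∀ g : G, τ g = (u : G) * g * (u : G)⁻¹ := fun g => MulAut.conj_apply _ _
    have hτpow : τ ^ p = 1 := by
      have hi : ∀ (i : ℕ) (g : G), (τ ^ i) g = (u : G) ^ i * g * ((u : G) ^ i)⁻¹ := fun i => by
        induction i with
        | zero => intro g; simp
        | succ i ih => intro g; rw [pow_succ', Equiv.Perm.mul_apply, hτapp, ih, pow_succ']; group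
      refine Equiv.ext fun g => ?_
      rw [hi, show (u : G) ^ p = 1 by rw [← huo, ← Subgroup.orderOf_coe, pow_orderOf_eq_one]]
      simp
    have hτS : ∀ r ∈ S, τ r ∈ S := fun r hr => Finset.mem_filter.2 ⟨Finset.mem_univ _, by
      rw [hτapp]; exact h.dade.conj_mem_H _ hcA _ huc r (Finset.mem_filter.1 hr).2⟩
    have hSfix : S.filter (fun r => τ r = r) = {1} := by
      refine Finset.eq_singleton_iff_unique_mem.2 ⟨by simp [hS, hτapp], fun r hr => ?_⟩
      obtain ⟨hr1, hr2⟩ := Finset.mem_filter.1 hr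
      have hr1' := (Finset.mem_filter.1 hr1).2
      rw [hτapp, mul_inv_eq_iff_eq_mul] at hr2
      have hru : r ∈ M := by
        have hmem : r ∈ Subgroup.centralizer ({(u : G)} : Set G) :=
          Subgroup.mem_centralizer_singleton_iff.2 hr2.symm
        have hnot : u ∉ W := h.u_notMem hp hpW huo
        rw [← h.dade.sup_eq _ huG, h.off u hnot huG, bot_sup_eq] at hmem
        exact (Subgroup.mem_inf.1 hmem).1
      have hbot : r ∈ (⊥ : Subgroup G) := by
        rw [← h.dade.inf_eq_bot _ hcA]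
        exact Subgroup.mem_inf.2 ⟨hr1', Subgroup.mem_inf.2 ⟨hru, h.dade.le_centralizer _ hcA hr1'⟩⟩
      exact Subgroup.mem_bot.1 hbot
    have d1 : Cong p (∑ r ∈ S, ψ 0 (((c : M) : G) * r)) (ψ 0 ((c : M) : G)) := by
      have := Cong.sum_fixed hp τ hτpow S hτS (fun r => ψ 0 (((c : M) : G) * r)) (fun r _ => by
        rw [hτapp, show ((c : M) : G) * ((u : G) * r * (u : G)⁻¹) =
            (u : G) * (((c : M) : G) * r) * (u : G)⁻¹ by
          rw [← mul_assoc, ← mul_assoc, ← hcu]; group]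
        exact isGen_isClassFunction (h.gen 0) _ _) hp.not_dvd_one
        (fun r _ => by rw [Nat.cast_one, one_mul]; exact gen_value_int (h.gen 0) _)
      rw [hSfix, Finset.sum_singleton, mul_one] at this
      exact this
    have d2 : Cong p (m c : ℂ) 1 := by
      have := Cong.sum_fixed hp τ hτpow S hτS (fun _ => 1) (fun _ _ => rfl) hp.not_dvd_one
        (fun _ _ => by rw [Nat.cast_one, one_mul]; exact isIntegral_one)
      rw [hSfix, Finset.sum_singleton, Finset.sum_const, nsmul_one, hScard] at this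
      exact this
    have d3 : Cong p ((m c : ℂ) * fixVal W R (ψ 0) (c : M)) (ψ 0 ((c : M) : G)) := by
      rw [fixVal_of_mem hcA]
      unfold rho
      rw [hm, ← mul_assoc, mul_inv_cancel₀ (Nat.cast_ne_zero.2 Nat.card_pos.ne'), one_mul]
      exact d1
    have d4 : Cong p ((m c : ℂ) * ψ 0 ((c : M) : G)) (ψ 0 ((c : M) : G)) := by
      have := Cong.mul_left (gen_value_int (h.gen 0) ((c : M) : G)) d2
      rwa [mul_one, mul_comm] at this
    refine Cong.trans hp (Cong.cancel hp (hmp c hcY) (Cong.trans hp d3 d4.symm)) ?_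
    have d5 := Cong.char_mul (h.gen 0) hp (x := (u : G)) (y := ((c : M) : G))
      (by rw [Subgroup.orderOf_coe]; exact huo) hcu
    rw [hcu] at d5
    simpa using d5.symm
  have c3 : Cong p (Nat.card D : ℂ) (C'.card : ℂ) := by
    have := Cong.sum_fixed hp σ hσpow (Finset.univ.filter fun w : W => w ∈ D)
      (fun w hw => Finset.mem_filter.2 ⟨Finset.mem_univ _, hσD w (Finset.mem_filter.1 hw).2⟩)
      (fun _ => (1 : ℂ)) (fun _ _ => rfl) hp.not_dvd_one (fun _ _ => by rw [Nat.cast_one, one_mul]; exact isIntegral_one)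
    rw [Finset.sum_const, Finset.sum_const, nsmul_one, nsmul_one, ← Fintype.card_subtype,
      ← Nat.card_eq_fintype_card, show ((Finset.univ.filter fun w : W => w ∈ D).filter fun w => σ w = w) = C' by
        ext w
        simp only [Finset.mem_filter, Finset.mem_univ, true_and, hfixed, hC']
        tauto] at this
    exact this
  have hTint : IsIntegral ℤ T := IsIntegral.sum _ fun _ _ => gen_value_int (h.gen 0) _
  have c4 : Cong p ((C.card : ℂ) * ((Nat.card D : ℂ) * a)) ((Nat.card D : ℂ) * T) := by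
    refine Cong.trans hp (Cong.mul_left isIntegral_algebraMap (Cong.trans hp c1 c2)) ?_
    rw [hTK, mul_comm, mul_comm (Nat.card D : ℂ)]
    exact Cong.mul_left hTint c3.symm
  have hDp : ¬ p ∣ Nat.card D := fun hd => hpW (hd.trans D.card_subgroup_dvd_card)
  have hCp : ¬ p ∣ C.card := by
    have hc : Cong p (Nat.card W : ℂ) (C.card : ℂ) := by
      have := Cong.sum_fixed hp σ hσpow (Finset.univ : Finset W) (fun _ _ => Finset.mem_univ _)
        (fun _ => (1 : ℂ)) (fun _ _ => rfl) hp.not_dvd_one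
        (fun _ _ => by rw [Nat.cast_one, one_mul]; exact isIntegral_one)
      rw [Finset.sum_const, Finset.sum_const, nsmul_one, nsmul_one, Finset.card_univ,
        ← Nat.card_eq_fintype_card, show ((Finset.univ : Finset W).filter fun w => σ w = w) = C by
          ext w; simp [hfixed]] at this
      exact this
    intro hd
    have h1 := Cong.dvd hp (a := (Nat.card W : ℤ)) (b := (C.card : ℤ)) (by exact_mod_cast hc)
    exact hpW (by exact_mod_cast (dvd_sub_left (Int.natCast_dvd_natCast.2 hd)).1 h1)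
  refine Cong.cancel hp hCp ?_
  rw [mul_inv_cancel_left₀ (Nat.cast_ne_zero.2 (Finset.card_ne_zero_of_mem hy₀))]
  refine Cong.cancel hp hDp ?_
  rwa [mul_left_comm]

end Cfsg.Agent.OddChar.TypeOne.Gap
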