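import Cfsg.Agent.OddChar.TypeOne.Gap.MLinear
import Cfsg.Agent.Lib.Characters.Kernel

/-!
# Coset sums on the core, and the share of the norm seen by `M`
-/

set_option autoImplicit false
set_option linter.unusedSectionVars false
set_option linter.style.haveILetI false

namespace Cfsg.Agent.OddChar.TypeOne.Gap

open Cfsg.Agent.Characters Cfsg.Agent.OddChar
open scoped ComplexConjugate

universe u

variable {G : Type u} [Group G]

open Classical in
/-- The sum over all linear characters. -/
theorem sum_hom {A : Type*} [Group A] [Finite A] [Fintype (A →* ℂˣ)] (x : A) :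
    ∑ θ : A →* ℂˣ, linFun θ x = if x ∈ commutator A then ((commutator A).index : ℂ) else 0 := by
  split_ifs with hx
  · rw [Finset.sum_congr rfl fun θ _ => show linFun θ x = 1 by
      have h : x ∈ θ.ker := Abelianization.commutator_subset_ker θ hx
      simp [linFun, MonoidHom.mem_ker.1 h], Finset.sum_const, Finset.card_univ, nsmul_one,
      ← card_linear_hom, Nat.card_eq_fintype_card]
  · have hx' : Abelianization.of x ≠ 1 := fun e => hx ((QuotientGroup.eq_one_iff x).1 e)
    obtain ⟨ν, hν⟩ := CommGroup.exists_apply_ne_one_of_hasEnoughRootsOfUnity (Abelianization A) ℂ hx'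
    have h : linFun (ν.comp Abelianization.of) x * ∑ θ : A →* ℂˣ, linFun θ x =
        ∑ θ : A →* ℂˣ, linFun θ x := by
      rw [Finset.mul_sum]
      exact Fintype.sum_equiv (Equiv.mulLeft (ν.comp Abelianization.of)) _ _ fun θ => by simp [linFun]
    by_contra hne
    exact hν (Units.ext ((mul_eq_right₀ hne).1 h))

variable [Fintype G]

open Classical in
/-- The average as a function on `M`, extended by zero from the elements with fixed points on `W`. -/
noncomputable def fixVal {M : Subgroup G} (W : Subgroup M) (R : G → Subgroup G) (ψ : G → ℂ) : M → ℂ :=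
  fun m => if (m : G) ∈ fixSet W then rho R ψ m else 0

theorem fixVal_of_mem {M : Subgroup G} {W : Subgroup M} {R : G → Subgroup G} {ψ : G → ℂ} {m : M}
    (hm : (m : G) ∈ fixSet W) : fixVal W R ψ m = rho R ψ m := by
  classical
  exact if_pos hm

theorem mem_fixSet_self {M : Subgroup G} {W : Subgroup M} {w : M} (hw : w ∈ W) (hw1 : w ≠ 1) :
    (w : G) ∈ fixSet W := mem_fixSet.2 ⟨hw1, w, hw, hw1, rfl⟩

variable {M : Subgroup G} [Fintype M] {W : Subgroup M} {R : G → Subgroup G}
  {ψ : Fin 3 → G → ℂ} (h : MHyp M W R ψ) [hWn : W.Normal] [Fintype W]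
include h

theorem MHyp.fixVal_class : Cfsg.IsClassFunction M (fixVal W R (ψ 0)) := by
  classical
  intro g x
  have hiff : (((x * g * x⁻¹ : M)) : G) ∈ fixSet W ↔ (g : G) ∈ fixSet W := by
    refine ⟨fun hh => ?_, fun hh => by simpa using h.dade.conj_mem x x.2 g hh⟩
    have := h.dade.conj_mem x⁻¹ (inv_mem x.2) _ hh
    simpa [mul_assoc] using this
  unfold fixVal
  by_cases hg : (g : G) ∈ fixSet W
  · rw [if_pos hg, if_pos (hiff.2 hg)]
    simpa using rho_conj h.dade (isGen_isClassFunction (h.gen 0)) hg x.2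
  · rw [if_neg hg, if_neg (mt hiff.1 hg)]

theorem MHyp.ind_supp {f : W → ℂ} (hf : f 1 = 0) {x : M} (hx : (x : G) ∉ fixSet W) :
    Cfsg.indFun W f x = 0 := by
  by_cases hxW : x ∈ W
  · have : x = 1 := by_contra fun h1 => hx (mem_fixSet_self hxW h1)
    rw [this, indFun_one, hf, mul_zero]
  · exact Induce.indFun_apply_normal_notMem W f hxW

/-- The pairing with an induced function. -/
theorem MHyp.pair_ind {f : W → ℂ} (hf : f 1 = 0) :
    h.pair (Cfsg.indFun W f) = Cfsg.classInner f fun w : W => fixVal W R (ψ 0) w := by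
  rw [MHyp.pair, inner_rho h.dade (indFun_isClassFunction W f) (fun x hx => h.ind_supp hf hx)
    (isGen_isClassFunction (h.gen 0)), ← frobenius_reciprocity W f h.fixVal_class, classInner_def,
    classInner_def]
  congr 1
  refine Finset.sum_congr rfl fun m _ => ?_
  by_cases hm : (m : G) ∈ fixSet W
  · rw [fixVal_of_mem hm]
  · rw [h.ind_supp hf hm, zero_mul, zero_mul]

set_option maxHeartbeats 400000 in
/-- One integer governs the pairing against all nonprincipal linear characters. -/
theorem MHyp.exists_level (hW : commutator W ≠ ⊤) :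
    ∃ a : ℤ, ∀ θ : W →* ℂˣ, θ ≠ 1 →
      ∑ w : W, (1 - linFun θ w) * conj (fixVal W R (ψ 0) w) = (Nat.card W : ℂ) * a := by
  classical
  obtain ⟨x, hx⟩ : ∃ x : W, x ∉ commutator W :=
    not_forall.1 fun hall => hW ((Subgroup.eq_top_iff' _).2 hall)
  obtain ⟨ν, hν⟩ := CommGroup.exists_apply_ne_one_of_hasEnoughRootsOfUnity (Abelianization W) ℂ
    (a := Abelianization.of x) fun e => hx ((QuotientGroup.eq_one_iff x).1 e)
  set θ₀ : W →* ℂˣ := ν.comp Abelianization.of with hθ₀
  have hθ₀1 : θ₀ ≠ 1 := fun e => hν (by simpa [hθ₀] using DFunLike.congr_fun e x)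
  have hgen : ∀ θ : W →* ℂˣ, Cfsg.IsGeneralizedCharacter M
      (Cfsg.indFun W ((fun _ => 1) - linFun θ)) := fun θ => isGen_indFun W
    (isGen_sub (isGen_of_isCharacter (isCharacter_of_isIrr isIrrCharacter_one))
      (isGen_of_isCharacter (isCharacter_of_isIrr (linFun_irr θ))))
  have hf : ∀ θ : W →* ℂˣ, ((fun _ => 1) - linFun θ : W → ℂ) 1 = 0 := fun θ => by simp [linFun_one]
  set β : M → ℂ := Cfsg.indFun W ((fun _ => 1) - linFun θ₀) with hβ
  have hβgen : Cfsg.IsGeneralizedCharacter G (Cfsg.dadeIsometry (fixSet W) M R β) :=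
    S1501.result (fixSet W) M R h.dade β (hgen θ₀) fun x hx => h.ind_supp (hf θ₀) hx
  obtain ⟨a, ha⟩ := classInner_gen_int hβgen (h.gen 0)
  replace ha : h.pair β = (a : ℂ) := ha
  refine ⟨a, fun θ hθ => ?_⟩
  have key : h.pair (Cfsg.indFun W ((fun _ => 1) - linFun θ)) = (a : ℂ) := by
    rw [← ha, ← sub_eq_zero, ← h.pair_sub, hβ, indFun_sub, indFun_sub, sub_sub_sub_cancel_left]
    exact h.pair_linear θ₀ θ hθ₀1 hθ
  rw [h.pair_ind (hf θ), classInner_def] at key
  rw [← key, mul_inv_cancel_left₀ natCard_ne_zero]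
  exact Finset.sum_congr rfl fun w _ => by rw [Pi.sub_apply]

open Classical in
/-- The sum of the averages over a coset of the commutator subgroup. -/
theorem MHyp.coset_sum {a : ℤ} (ha : ∀ θ : W →* ℂˣ, θ ≠ 1 →
    ∑ w : W, (1 - linFun θ w) * conj (fixVal W R (ψ 0) w) = (Nat.card W : ℂ) * a)
    {x : W} (hx : x ∉ commutator W) :
    ∑ c ∈ Finset.univ.filter (fun c : W => x⁻¹ * c ∈ commutator W), fixVal W R (ψ 0) (c : M) =
      (Nat.card (commutator W) : ℂ) * a := by
  haveI : Finite (W →* ℂˣ) := Nat.finite_of_card_ne_zero (by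
    rw [card_linear_hom]; exact Subgroup.index_ne_zero_of_finite)
  haveI := Fintype.ofFinite (W →* ℂˣ)
  set Φ : W → ℂ := fun w => conj (fixVal W R (ψ 0) w) with hΦ
  set n : ℂ := ((commutator W).index : ℂ)
  have hx' : x⁻¹ ∉ commutator W := fun e => hx ((commutator W).inv_mem_iff.1 e)
  have h1 : ∀ θ : W →* ℂˣ, linFun θ x⁻¹ * ∑ w, linFun θ w * Φ w = linFun θ x⁻¹ *
      (∑ w, Φ w - (Nat.card W : ℂ) * a) + if θ = 1 then (Nat.card W : ℂ) * a else 0 := by
    intro θ
    split_ifs with e
    · subst e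
      simp [linFun]
    · rw [add_zero, ← ha θ e, ← Finset.sum_sub_distrib]
      congr 1
      exact Finset.sum_congr rfl fun w _ => by rw [hΦ]; ring
  have h2 : ∑ θ : W →* ℂˣ, linFun θ x⁻¹ * ∑ w, linFun θ w * Φ w = (Nat.card W : ℂ) * a := by
    rw [Finset.sum_congr rfl fun θ _ => h1 θ, Finset.sum_add_distrib, ← Finset.sum_mul, sum_hom,
      if_neg hx', zero_mul, zero_add, Finset.sum_ite_eq' Finset.univ (1 : W →* ℂˣ), if_pos (Finset.mem_univ _)]
  simp only [Finset.mul_sum] at h2
  rw [Finset.sum_comm, Finset.sum_congr rfl fun w _ => show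
      ∑ θ : W →* ℂˣ, linFun θ x⁻¹ * (linFun θ w * Φ w) =
        if x⁻¹ * w ∈ commutator W then n * Φ w else 0 by
    rw [Finset.sum_congr rfl fun θ _ => show linFun θ x⁻¹ * (linFun θ w * Φ w) =
      linFun θ (x⁻¹ * w) * Φ w by simp [linFun, mul_assoc], ← Finset.sum_mul, sum_hom]
    split_ifs <;> simp [n], ← Finset.sum_filter, ← Finset.mul_sum] at h2
  have hn : n ≠ 0 := Nat.cast_ne_zero.2 Subgroup.index_ne_zero_of_finite
  have h3 : (Nat.card W : ℂ) = n * (Nat.card (commutator W) : ℂ) := by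
    rw [← (commutator W).card_mul_index, Nat.cast_mul, mul_comm]
  rw [h3, mul_assoc] at h2
  have h4 := congrArg conj (mul_left_cancel₀ hn h2)
  simpa [hΦ, map_sum] using h4

open Classical in
/-- The share of the norm seen by the complement of the commutator subgroup in the core. -/
theorem MHyp.norm_core {a : ℤ} (ha : ∀ θ : W →* ℂˣ, θ ≠ 1 →
    ∑ w : W, (1 - linFun θ w) * conj (fixVal W R (ψ 0) w) = (Nat.card W : ℂ) * a)
    {B : Set G} (hB : B = {g | ∃ w : W, w ∉ commutator W ∧ g = ((w : M) : G)}) :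
    (a : ℝ) ^ 2 * (((commutator W).index * Nat.card (commutator W) : ℕ) -
        (Nat.card (commutator W) : ℝ)) /
      (((commutator W).index * Nat.card (commutator W) : ℕ) * W.index : ℝ) ≤
    (Nat.card M : ℝ)⁻¹ * ∑ b ∈ Finset.univ.filter (fun b => b ∈ B), ‖rho R (ψ 0) b‖ ^ 2 := by
  set w' := Nat.card (commutator W) with hw'
  set s : Finset W := Finset.univ.filter (fun w : W => w ∉ commutator W)
  set Φ : W → ℝ := fun w => ‖fixVal W R (ψ 0) (w : M)‖ ^ 2 with hΦ
  have hmemB : ∀ b : G, b ∈ B ↔ ∃ w : W, w ∉ commutator W ∧ b = ((w : M) : G) := fun b => by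
    rw [hB]; rfl
  have hsum : ∑ b ∈ Finset.univ.filter (fun b => b ∈ B), ‖rho R (ψ 0) b‖ ^ 2 = ∑ w ∈ s, Φ w := by
    refine Eq.symm ?_
    refine Finset.sum_bij (fun w _ => ((w : M) : G)) ?_ ?_ ?_ ?_
    · intro w hw
      exact Finset.mem_filter.2 ⟨Finset.mem_univ _, (hmemB _).2 ⟨w, (Finset.mem_filter.1 hw).2, rfl⟩⟩
    · intro w _ w' _ e; exact Subtype.ext (Subtype.ext e)
    · intro b hb
      obtain ⟨w, hw, rfl⟩ := (hmemB b).1 (Finset.mem_filter.1 hb).2
      exact ⟨w, Finset.mem_filter.2 ⟨Finset.mem_univ _, hw⟩, rfl⟩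
    · intro w hw
      have hw1 : (w : M) ≠ 1 := fun e => (Finset.mem_filter.1 hw).2 (by
        rw [show w = 1 from Subtype.ext e]; exact one_mem _)
      simp only [hΦ, fixVal_of_mem (mem_fixSet_self w.2 hw1)]
  have hk : ∀ x ∈ s, ((w' : ℝ) * a) ^ 2 ≤
      (w' : ℝ) * ∑ c ∈ Finset.univ.filter (fun c : W => x⁻¹ * c ∈ commutator W), Φ c := by
    intro x hx
    set t := Finset.univ.filter (fun c : W => x⁻¹ * c ∈ commutator W)
    have ht : (t.card : ℝ) = w' := by
      have : t = (Finset.univ.filter (fun c : W => c ∈ commutator W)).image (x * ·) := by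
        ext c
        simp only [t, Finset.mem_filter, Finset.mem_univ, true_and, Finset.mem_image]
        exact ⟨fun hc => ⟨_, hc, mul_inv_cancel_left x c⟩, fun ⟨d, hd, e⟩ => by rw [← e]; simpa using hd⟩
      rw [this, Finset.card_image_of_injective _ (mul_right_injective x), ← Fintype.card_subtype,
        hw', Nat.card_eq_fintype_card]
    have h1 : ‖∑ c ∈ t, fixVal W R (ψ 0) (c : M)‖ ^ 2 ≤ (t.card : ℝ) * ∑ c ∈ t, Φ c :=
      (pow_le_pow_left₀ (norm_nonneg _) (norm_sum_le _ _) 2).trans sq_sum_le_card_mul_sum_sq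
    rw [h.coset_sum ha (Finset.mem_filter.1 hx).2, ht, norm_mul, Complex.norm_natCast,
      Complex.norm_intCast, ← hw', mul_pow, sq_abs, ← mul_pow] at h1
    exact h1
  have hswap : ∑ x ∈ s, ∑ c ∈ Finset.univ.filter (fun c : W => x⁻¹ * c ∈ commutator W), Φ c =
      (w' : ℝ) * ∑ c ∈ s, Φ c := by
    rw [Finset.mul_sum, Finset.sum_comm' (t' := s) (s' := fun c => Finset.univ.filter
      (fun x : W => x⁻¹ * c ∈ commutator W))]
    · refine Finset.sum_congr rfl fun c _ => ?_
      rw [Finset.sum_const, nsmul_eq_mul]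
      congr 1
      have : Finset.univ.filter (fun x : W => x⁻¹ * c ∈ commutator W) =
          (Finset.univ.filter (fun d : W => d ∈ commutator W)).image (fun d => c * d⁻¹) := by
        ext x
        simp only [Finset.mem_filter, Finset.mem_univ, true_and, Finset.mem_image]
        exact ⟨fun hc => ⟨_, hc, by group⟩, fun ⟨d, hd, e⟩ => by rw [← e]; simpa using hd⟩
      rw [this, Finset.card_image_of_injective _ fun d d' e => by simpa using e, ← Fintype.card_subtype,
        hw', Nat.card_eq_fintype_card]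
    · intro x c
      simp only [s, Finset.mem_filter, Finset.mem_univ, true_and]
      constructor
      · rintro ⟨hx, hc⟩
        refine ⟨hc, fun hc' => hx ?_⟩
        have := (commutator W).mul_mem hc' ((commutator W).inv_mem hc)
        rwa [mul_inv_rev, inv_inv, mul_inv_cancel_left] at this
      · rintro ⟨hc, hc'⟩
        refine ⟨fun hx => hc' ?_, hc⟩
        simpa using (commutator W).mul_mem hx hc
  have hscard : (s.card : ℝ) = ((commutator W).index * w' : ℕ) - (w' : ℝ) := by
    rw [hw', Nat.mul_comm, (commutator W).card_mul_index]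
    have h1 := Finset.card_filter_add_card_filter_not (s := (Finset.univ : Finset W))
      (fun w : W => w ∈ commutator W)
    rw [Finset.card_univ, ← Fintype.card_subtype, ← Nat.card_eq_fintype_card,
      ← Nat.card_eq_fintype_card] at h1
    rw [← h1, Nat.cast_add]
    simp [s]
  have hw0 : (0 : ℝ) < w' := Nat.cast_pos.2 Nat.card_pos
  have htot : (a : ℝ) ^ 2 * (s.card : ℝ) ≤ ∑ c ∈ s, Φ c := by
    have := Finset.sum_le_sum hk
    rw [Finset.sum_const, nsmul_eq_mul, ← Finset.mul_sum, hswap] at this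
    nlinarith [mul_pos hw0 hw0]
  have hM : (Nat.card M : ℝ) = ((commutator W).index * w' : ℕ) * W.index := by
    rw [hw', Nat.mul_comm, (commutator W).card_mul_index, ← Nat.cast_mul, W.card_mul_index]
  rw [← hscard, ← hM, hsum, div_eq_inv_mul]
  exact mul_le_mul_of_nonneg_left htot (by positivity)

end Cfsg.Agent.OddChar.TypeOne.Gap
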