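import Cfsg.Agent.OddChar.TypeOne.Gap.Basic
import Cfsg.Agent.OddChar.TypeOne.Coherent
import Cfsg.Agent.OddChar.Signed
import Cfsg.Agent.Lib.CharTheory.Average
import Cfsg.Agent.S0161
import Cfsg.Agent.S1491
import Cfsg.Agent.S1518
import Cfsg.Agent.S1536

/-!
# The Dade map of a maximal subgroup against three orthonormal characters with a common difference
-/

set_option autoImplicit false
set_option linter.unusedSectionVars false
set_option linter.style.haveILetI false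

namespace Cfsg.Agent.OddChar.TypeOne.Gap

open Cfsg.Agent.Characters Cfsg.Agent.OddChar
open scoped ComplexConjugate

universe u

variable {G : Type u} [Group G]

/-- The nonidentity elements of `M` fixing a nonidentity element of `W`. -/
def fixSet {M : Subgroup G} (W : Subgroup M) : Set G :=
  {a | ∃ m : M, m ≠ 1 ∧ a = (m : G) ∧ ∃ y ∈ W, y ≠ 1 ∧ m * y = y * m}

theorem mem_fixSet {M : Subgroup G} {W : Subgroup M} {m : M} :
    (m : G) ∈ fixSet W ↔ m ≠ 1 ∧ ∃ y ∈ W, y ≠ 1 ∧ m * y = y * m :=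
  ⟨fun ⟨m', h1, e, h2⟩ => by rw [Subtype.ext e]; exact ⟨h1, h2⟩, fun ⟨h1, h2⟩ => ⟨m, h1, rfl, h2⟩⟩

/-- The irreducible characters nontrivial on `W`. -/
def ntSet {M : Type u} [Group M] (W : Subgroup M) : Set (M → ℂ) :=
  {χ | Cfsg.IsIrrCharacter M χ ∧ ∃ w ∈ W, χ w ≠ χ 1}

section Vanish

variable {M : Type u} [Group M] [Finite M] (W : Subgroup M) [hWn : W.Normal]

/-- An element without fixed points on `W` is invisible to the characters nontrivial on `W`. -/
theorem vanish {χ : M → ℂ} (hχ : χ ∈ ntSet W) {m : M}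
    (hm : ∀ y ∈ W, m * y = y * m → y = 1) : χ m = 0 := by
  classical
  haveI := Fintype.ofFinite M
  haveI := Fintype.ofFinite (M ⧸ W)
  haveI := Fintype.ofFinite (Cfsg.IrrCharacter M)
  haveI := Fintype.ofFinite (Cfsg.IrrCharacter (M ⧸ W))
  let inf : Cfsg.IrrCharacter (M ⧸ W) → Cfsg.IrrCharacter M := fun ξ =>
    ⟨(ξ : M ⧸ W → ℂ) ∘ QuotientGroup.mk' W,
      isIrrCharacter_comp_surjective _ (QuotientGroup.mk'_surjective W) ξ.2⟩
  have hinj : Function.Injective inf := fun ξ ξ' e => Subtype.ext (funext fun q => by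
    obtain ⟨x, rfl⟩ := QuotientGroup.mk'_surjective W q
    exact congrFun (congrArg Subtype.val e) x)
  have hnot : (⟨χ, hχ.1⟩ : Cfsg.IrrCharacter M) ∉ Finset.univ.image inf := fun h => by
    obtain ⟨ξ, -, e⟩ := Finset.mem_image.1 h
    obtain ⟨w, hw, hne⟩ := hχ.2
    refine hne ?_
    rw [show χ = (ξ : M ⧸ W → ℂ) ∘ QuotientGroup.mk' W from (congrArg Subtype.val e).symm]
    simp [(QuotientGroup.eq_one_iff w).2 hw]
  have htotal : ∑ ξ : Cfsg.IrrCharacter M, ‖(ξ : M → ℂ) m‖ ^ 2 =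
      (Nat.card (Subgroup.centralizer ({m} : Set M)) : ℝ) := by
    have h := second_orthogonality (G := M) m m
    rw [if_pos (IsConj.refl m)] at h
    simp only [Complex.mul_conj'] at h
    exact_mod_cast h
  have hquot : ∑ ξ : Cfsg.IrrCharacter (M ⧸ W), ‖((inf ξ : Cfsg.IrrCharacter M) : M → ℂ) m‖ ^ 2 =
      (Nat.card (Subgroup.centralizer ({QuotientGroup.mk' W m} : Set (M ⧸ W))) : ℝ) := by
    have h := second_orthogonality (G := M ⧸ W) (QuotientGroup.mk' W m) (QuotientGroup.mk' W m)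
    rw [if_pos (IsConj.refl _)] at h
    simp only [Complex.mul_conj'] at h
    exact_mod_cast h
  have hle : Nat.card (Subgroup.centralizer ({m} : Set M)) ≤
      Nat.card (Subgroup.centralizer ({QuotientGroup.mk' W m} : Set (M ⧸ W))) := by
    refine Nat.card_le_card_of_injective (fun x => ⟨QuotientGroup.mk' W (x : M),
      Subgroup.mem_centralizer_singleton_iff.2 (by
        rw [← map_mul, ← map_mul, Subgroup.mem_centralizer_singleton_iff.1 x.2])⟩) fun x y e => ?_
    have e' : (x : M)⁻¹ * y ∈ W := QuotientGroup.eq.1 (congrArg Subtype.val e)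
    have hc : (x : M)⁻¹ * y ∈ Subgroup.centralizer ({m} : Set M) := mul_mem (inv_mem x.2) y.2
    exact Subtype.ext (inv_mul_eq_one.1
      (hm _ e' (Subgroup.mem_centralizer_singleton_iff.1 hc).symm))
  have hsum : ∑ ξ ∈ insert (⟨χ, hχ.1⟩ : Cfsg.IrrCharacter M) (Finset.univ.image inf),
      ‖(ξ : M → ℂ) m‖ ^ 2 ≤ ∑ ξ : Cfsg.IrrCharacter M, ‖(ξ : M → ℂ) m‖ ^ 2 :=
    Finset.sum_le_sum_of_subset_of_nonneg (Finset.subset_univ _) fun _ _ _ => by positivity
  rw [Finset.sum_insert hnot, Finset.sum_image fun a _ b _ e => hinj e, hquot, htotal] at hsum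
  have hle' : (Nat.card (Subgroup.centralizer ({m} : Set M)) : ℝ) ≤
      Nat.card (Subgroup.centralizer ({QuotientGroup.mk' W m} : Set (M ⧸ W))) := Nat.cast_le.2 hle
  have h0 : ‖χ m‖ ^ 2 ≤ 0 := by
    change ‖χ m‖ ^ 2 + _ ≤ _ at hsum
    linarith
  simpa using le_antisymm h0 (sq_nonneg _)

/-- A combination of characters nontrivial on `W` sums to zero on every coset. -/
theorem avg_eq_zero [Fintype M] [Fintype W] {α : M → ℂ} (hα : α ∈ Cfsg.zspan (ntSet W)) :
    CharTheory.Average.avg W α = 0 := by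
  refine Submodule.span_induction (fun χ hχ => ?_) ?_ (fun a b _ _ ha hb => ?_) (fun k a _ ha => ?_) hα
  · rcases CharTheory.Average.avg_irr W hχ.1 with h | h
    · obtain ⟨w, hw, hne⟩ := hχ.2
      refine absurd ?_ hne
      have h1 := CharTheory.Average.avg_mul_left W χ ⟨w, hw⟩ 1
      rwa [h, mul_one] at h1
    · exact h
  · funext g; simp [CharTheory.Average.avg]
  · funext g
    have h1 := congrFun ha g
    have h2 := congrFun hb g
    simp only [CharTheory.Average.avg, Pi.zero_apply] at h1 h2 ⊢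
    simp only [Pi.add_apply, Finset.sum_add_distrib, mul_add, h1, h2, add_zero]
  · funext g
    have h1 := congrFun ha g
    simp only [CharTheory.Average.avg, Pi.zero_apply] at h1 ⊢
    simp only [Pi.smul_apply, ← Finset.smul_sum, mul_smul_comm, h1, smul_zero]

theorem ntSet_gen {α : M → ℂ} (hα : α ∈ Cfsg.zspan (ntSet W)) : Cfsg.IsGeneralizedCharacter M α := by
  refine Submodule.span_induction (fun χ hχ => isGen_of_isCharacter (isCharacter_of_isIrr hχ.1))
    isGen_zero (fun _ _ _ _ => isGen_add) (fun k a _ ha => ?_) hα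
  rw [← Int.cast_smul_eq_zsmul ℂ k a]; exact isGen_intSmul ha k

theorem ntSet_conj {χ : M → ℂ} (hχ : χ ∈ ntSet W) : Cfsg.conjFun χ ∈ ntSet W := by
  obtain ⟨w, hw, hne⟩ := hχ.2
  exact ⟨isIrrCharacter_conj hχ.1, w, hw, fun e => hne ((starRingEnd ℂ).injective e)⟩

end Vanish

/-- The hypotheses on the side of `M`. -/
structure MHyp [Fintype G] (M : Subgroup G) [Fintype M] (W : Subgroup M) (R : G → Subgroup G)
    (ψ : Fin 3 → G → ℂ) : Prop where
  odd : Odd (Nat.card M)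
  normal : W.Normal
  cop : Nat.Coprime (Nat.card W) W.index
  dade : Cfsg.DadeHypothesis (fixSet W) M R
  off : ∀ m : M, m ∉ W → (m : G) ∈ fixSet W → R (m : G) = ⊥
  comm : ∀ x y : M, (∃ w ∈ W, w ≠ 1 ∧ x * w = w * x) → (∃ w ∈ W, w ≠ 1 ∧ y * w = w * y) →
    x * y * x⁻¹ * y⁻¹ ∈ W
  gen : ∀ i, Cfsg.IsGeneralizedCharacter G (ψ i)
  orth : ∀ i j, Cfsg.classInner (ψ i) (ψ j) = if i = j then 1 else 0
  core : ∀ i j, ∀ w : M, w ∈ W → w ≠ 1 → ∀ r ∈ R (w : G), ψ i ((w : G) * r) = ψ j ((w : G) * r)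
  coset : ∀ i j, ∀ m m' : M, m ∉ W → (m : G) ∈ fixSet W → (m' : G) ∈ fixSet W → m' * m⁻¹ ∈ W →
    ψ i (m : G) - ψ j (m : G) = ψ i (m' : G) - ψ j (m' : G)

variable [Fintype G] {M : Subgroup G} [Fintype M] {W : Subgroup M} {R : G → Subgroup G}
  {ψ : Fin 3 → G → ℂ} (h : MHyp M W R ψ)
include h

theorem MHyp.supp {α : M → ℂ} (hα : α ∈ Cfsg.zspan (ntSet W)) (h1 : α 1 = 0) {x : M}
    (hx : (x : G) ∉ fixSet W) : α x = 0 := by
  haveI := h.normal
  by_cases hx1 : x = 1
  · rw [hx1, h1]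
  refine Submodule.span_induction (p := fun f _ => f x = 0) (fun χ hχ => ?_) rfl ?_ ?_ hα
  · exact vanish W hχ fun y hy e => by_contra fun hy1 => hx (mem_fixSet.2 ⟨hx1, y, hy, hy1, e⟩)
  · intro a b _ _ ha hb; simp [ha, hb]
  · intro k a _ ha; simp [ha]

/-- The pairing does not distinguish the three characters. -/
theorem MHyp.pair_eq {α : M → ℂ} (hα : α ∈ Cfsg.zspan (ntSet W)) (h1 : α 1 = 0) (i j : Fin 3) :
    Cfsg.classInner (Cfsg.dadeIsometry (fixSet W) M R α) (ψ i) =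
      Cfsg.classInner (Cfsg.dadeIsometry (fixSet W) M R α) (ψ j) := by
  classical
  haveI := h.normal
  haveI := Fintype.ofFinite W
  rw [← sub_eq_zero, ← classInner_sub_right]
  have hδ : Cfsg.IsClassFunction G (ψ i - ψ j) :=
    isGen_isClassFunction (isGen_sub (h.gen i) (h.gen j))
  rw [inner_rho h.dade (isGen_isClassFunction (ntSet_gen W hα)) (fun x hx => h.supp hα h1 hx) hδ]
  set Δ : M → ℂ := fun m => if hm : ∃ m' : M, m' * m⁻¹ ∈ W ∧ m' ∉ W ∧ (m' : G) ∈ fixSet W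
    then (ψ i - ψ j) (hm.choose : G) else 0 with hΔ
  have hinv : ∀ (n : W) (m : M), Δ ((n : M) * m) = Δ m := by
    intro n m
    have hiff : ∀ m' : M, m' * ((n : M) * m)⁻¹ ∈ W ↔ m' * m⁻¹ ∈ W := fun m' => by
      rw [mul_inv_rev, ← mul_assoc, W.mul_mem_cancel_right (W.inv_mem n.2)]
    simp only [hΔ]
    by_cases hm : ∃ m' : M, m' * m⁻¹ ∈ W ∧ m' ∉ W ∧ (m' : G) ∈ fixSet W
    · obtain ⟨h1', h2', h3'⟩ := hm.choose_spec
      have hm' : ∃ m' : M, m' * ((n : M) * m)⁻¹ ∈ W ∧ m' ∉ W ∧ (m' : G) ∈ fixSet W :=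
        ⟨_, (hiff _).2 h1', h2', h3'⟩
      obtain ⟨g1, g2, g3⟩ := hm'.choose_spec
      rw [dif_pos hm', dif_pos hm]
      refine h.coset i j _ _ g2 g3 h3' ?_
      have := W.mul_mem h1' (W.inv_mem ((hiff _).1 g1))
      rwa [mul_inv_rev, inv_inv, mul_assoc, inv_mul_cancel_left] at this
    · rw [dif_neg hm, dif_neg fun ⟨m', g1, g2⟩ => hm ⟨m', (hiff _).1 g1, g2⟩]
  have key : Cfsg.classInner α (fun a : M => rho R (ψ i - ψ j) a) = Cfsg.classInner α Δ := by
    rw [classInner_def, classInner_def]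
    congr 1
    refine Finset.sum_congr rfl fun m _ => ?_
    by_cases hm : (m : G) ∈ fixSet W
    swap
    · rw [h.supp hα h1 hm, zero_mul, zero_mul]
    by_cases hmW : m ∈ W
    · have hΔ0 : Δ m = 0 := by
        simp only [hΔ]
        exact dif_neg fun ⟨m', g1, g2, _⟩ => g2 (by simpa using W.mul_mem g1 hmW)
      rw [hΔ0, rho_const (c := (0 : ℂ)) fun r hr => by
        rw [Pi.sub_apply, h.core i j m hmW (mem_fixSet.1 hm).1 r hr, sub_self]]
    · have hex : ∃ m' : M, m' * m⁻¹ ∈ W ∧ m' ∉ W ∧ (m' : G) ∈ fixSet W :=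
        ⟨m, by simp, hmW, hm⟩
      obtain ⟨g1, g2, g3⟩ := hex.choose_spec
      simp only [hΔ]
      rw [dif_pos hex, rho_of_bot (h.off m hmW hm), Pi.sub_apply, Pi.sub_apply,
        h.coset i j m _ hmW hm g3 g1]
  rw [key, classInner_def, ← CharTheory.Average.sum_avg_mul W α (fun m => conj (Δ m))
    (fun n m => by simp only [hinv]), avg_eq_zero W hα]
  simp

/-- The pairing with the first character. -/
noncomputable def MHyp.pair (_h : MHyp M W R ψ) (α : M → ℂ) : ℂ :=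
  Cfsg.classInner (Cfsg.dadeIsometry (fixSet W) M R α) (ψ 0)

theorem MHyp.pair_add (α β : M → ℂ) : h.pair (α + β) = h.pair α + h.pair β := by
  rw [MHyp.pair, dade_add, classInner_add_left]; rfl

theorem MHyp.pair_zsmul (n : ℤ) (α : M → ℂ) : h.pair (n • α) = (n : ℂ) * h.pair α := by
  rw [MHyp.pair, dade_zsmul, Coherence.inner_smul_int_left]; rfl

theorem MHyp.pair_zero : h.pair 0 = 0 := by
  have := h.pair_zsmul 0 0
  simpa using this

theorem MHyp.pair_sub (α β : M → ℂ) : h.pair (α - β) = h.pair α - h.pair β := by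
  rw [sub_eq_add_neg, ← neg_one_zsmul, h.pair_add, h.pair_zsmul]; simp [sub_eq_add_neg]

theorem MHyp.pair_sum {ι : Type*} (s : Finset ι) (f : ι → M → ℂ) :
    h.pair (∑ i ∈ s, f i) = ∑ i ∈ s, h.pair (f i) := by
  classical
  induction s using Finset.induction_on with
  | empty => simpa using h.pair_zero
  | insert a s ha ih => rw [Finset.sum_insert ha, Finset.sum_insert ha, h.pair_add, ih]

theorem MHyp.isometry {α β : M → ℂ} (hα : α ∈ Cfsg.zspan (ntSet W)) (hα1 : α 1 = 0)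
    (hβ : β ∈ Cfsg.zspan (ntSet W)) (hβ1 : β 1 = 0) :
    Cfsg.classInner (Cfsg.dadeIsometry (fixSet W) M R α) (Cfsg.dadeIsometry (fixSet W) M R β) =
      Cfsg.classInner α β := by
  haveI := h.normal
  exact (S1500.result _ M R h.dade α (isGen_isClassFunction (ntSet_gen W hα))
    fun x hx => h.supp hα hα1 hx).1 β (isGen_isClassFunction (ntSet_gen W hβ))
    fun x hx => h.supp hβ hβ1 hx

theorem MHyp.pair_int {α : M → ℂ} (hα : α ∈ Cfsg.zspan (ntSet W)) (h1 : α 1 = 0) :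
    ∃ z : ℤ, h.pair α = (z : ℂ) := by
  haveI := h.normal
  exact classInner_gen_int (S1501.result _ M R h.dade α (ntSet_gen W hα) fun x hx => h.supp hα h1 hx)
    (h.gen 0)

/-- Two characters of one degree pair to zero. -/
theorem MHyp.pair_diff {χ χ' : M → ℂ} (hχ : χ ∈ ntSet W) (hχ' : χ' ∈ ntSet W) (hd : χ 1 = χ' 1) :
    h.pair (χ - χ') = 0 := by
  classical
  haveI := h.normal
  by_cases he : χ = χ'
  · rw [he, sub_self, h.pair_zero]
  set α := χ - χ' with hαdef
  have hα : α ∈ Cfsg.zspan (ntSet W) :=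
    Submodule.sub_mem _ (Submodule.subset_span hχ) (Submodule.subset_span hχ')
  have hα1 : α 1 = 0 := by simp [hαdef, hd]
  obtain ⟨z, hz⟩ := h.pair_int hα hα1
  have hb := Coherence.bessel (s := (Finset.univ : Finset (Fin 3))) (f := ψ) (n := fun _ => 1)
    (fun _ _ => one_pos) (fun i _ j _ => by rw [h.orth i j]; simp)
    (v := Cfsg.dadeIsometry (fixSet W) M R α) (u := fun _ => z)
    (fun i _ => (h.pair_eq hα hα1 i 0).trans hz)
  rw [h.isometry hα hα1 hα hα1] at hb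
  have h2 : Cfsg.classInner α α = 2 := by
    simp only [hαdef, classInner_sub_left, classInner_sub_right, classInner_isIrr_self hχ.1,
      classInner_isIrr_self hχ'.1, classInner_isIrr_ne hχ.1 hχ'.1 he,
      classInner_isIrr_ne hχ'.1 hχ.1 (Ne.symm he)]
    norm_num
  rw [h2] at hb
  simp only [Nat.cast_one, div_one, Finset.sum_const, Finset.card_univ, Fintype.card_fin,
    nsmul_eq_mul] at hb
  norm_num at hb
  have h3 : z ^ 2 < 1 := by
    have : ((z ^ 2 : ℤ) : ℝ) < ((1 : ℤ) : ℝ) := by push_cast; linarith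
    exact_mod_cast this
  have hz0 : z = 0 := by nlinarith
  simpa [hz0] using hz

/-- Combinations of characters of one degree vanishing at `1` pair to zero. -/
theorem MHyp.pair_level (s : Finset (M → ℂ)) (hs : ∀ χ ∈ s, χ ∈ ntSet W) {d : ℂ} (hd0 : d ≠ 0)
    (hd : ∀ χ ∈ s, χ 1 = d) (n : (M → ℂ) → ℤ) (h1 : (∑ χ ∈ s, n χ • χ) 1 = 0) :
    h.pair (∑ χ ∈ s, n χ • χ) = 0 := by
  classical
  rcases s.eq_empty_or_nonempty with rfl | ⟨χ₀, hχ₀⟩
  · simpa using h.pair_zero
  have hsum : ∑ χ ∈ s, n χ = 0 := by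
    simp only [Finset.sum_apply] at h1
    rw [Finset.sum_congr rfl fun χ hχ => show (n χ • χ) 1 = (n χ : ℂ) * d by
      simp [hd χ hχ], ← Finset.sum_mul, mul_eq_zero] at h1
    exact_mod_cast h1.resolve_right hd0
  have e : ∑ χ ∈ s, n χ • χ = ∑ χ ∈ s, n χ • (χ - χ₀) := by
    simp only [smul_sub, Finset.sum_sub_distrib, ← Finset.sum_smul, hsum, zero_smul, sub_zero]
  rw [e, h.pair_sum]
  refine Finset.sum_eq_zero fun χ hχ => ?_
  rw [h.pair_zsmul, h.pair_diff (hs χ hχ) (hs χ₀ hχ₀) ((hd χ hχ).trans (hd χ₀ hχ₀).symm), mul_zero]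

end Cfsg.Agent.OddChar.TypeOne.Gap
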