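import Cfsg.Agent.OddChar.TypeOne.Gap.MCoset
import Cfsg.Agent.S1496

/-!
# Twisted sums on the core at an element of order `p`
-/

set_option autoImplicit false
set_option linter.unusedSectionVars false
set_option linter.style.haveILetI false

namespace Cfsg.Agent.OddChar.TypeOne.Gap

open Cfsg.Agent.Characters Cfsg.Agent.OddChar
open scoped ComplexConjugate

universe u

variable {G : Type u} [Group G]

open Classical in
/-- The fixed points of `x` on `W`, as a finset. -/
noncomputable def centIn {M : Type*} [Group M] (W : Subgroup M) [Fintype W] (x : M) : Finset W :=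
  Finset.univ.filter fun y : W => x * y = y * x

theorem mem_centIn {M : Type*} [Group M] {W : Subgroup M} [Fintype W] {x : M} {y : W} :
    y ∈ centIn W x ↔ x * y = y * x := by
  classical
  simp [centIn]

variable [Fintype G] {M : Subgroup G} [Fintype M] {W : Subgroup M} {R : G → Subgroup G}
  {ψ : Fin 3 → G → ℂ} (h : MHyp M W R ψ) [hWn : W.Normal] [Fintype W]
  {p : ℕ} (hp : p.Prime) (hpW : ¬ p ∣ Nat.card W) {u : M} (huo : orderOf u = p)
include h hp hpW huo

theorem MHyp.u_notMem : u ∉ W := fun hu =>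
  hpW (huo ▸ Subgroup.orderOf_dvd_natCard W hu)

/-- The elements `w u ^ i` outside `W` fix a nonidentity element of `W`. -/
theorem MHyp.mem_fixSet_twist (hy : ∃ y ∈ W, y ≠ 1 ∧ u * y = y * u) {x : M}
    (hx : x ∈ W ⊔ Subgroup.zpowers u) (hxW : x ∉ W) : (x : G) ∈ fixSet W := by
  obtain ⟨w, hw, v, hv, rfl⟩ : ∃ w ∈ W, ∃ v ∈ Subgroup.zpowers u, w * v = x :=
    Set.mem_mul.1 (by rw [← Subgroup.normal_mul]; exact hx)
  obtain ⟨i, rfl⟩ := Subgroup.mem_zpowers_iff.1 hv
  have hcop : Nat.Coprime (orderOf (u ^ i)) (Nat.card W) :=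
    ((hp.coprime_iff_not_dvd.2 hpW).coprime_dvd_left (huo ▸ orderOf_dvd_of_mem_zpowers hv))
  obtain ⟨v, hv, c, hc, hcu, e⟩ := S1496.result W (u ^ i)
    (by rw [Subgroup.normalizer_eq_top]; exact Subgroup.mem_top _) hcop w hw
  refine mem_fixSet.2 ⟨fun e1 => hxW (e1 ▸ W.one_mem), ?_⟩
  by_cases hc1 : c = 1
  · obtain ⟨y, hy, hy1, hyu⟩ := hy
    have hyi : u ^ i * y = y * u ^ i := (Commute.zpow_left hyu i).eq
    refine ⟨v⁻¹ * y * v, W.mul_mem (W.mul_mem (W.inv_mem hv) hy) hv, fun e1 => hy1 ?_, ?_⟩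
    · calc y = v * (v⁻¹ * y * v) * v⁻¹ := by group
        _ = 1 := by rw [e1]; group
    · rw [hc1, one_mul] at e
      have e' : w * u ^ i = v⁻¹ * u ^ i * v := by
        conv_rhs => rw [← e]
        group
      rw [e']
      calc v⁻¹ * u ^ i * v * (v⁻¹ * y * v) = v⁻¹ * (u ^ i * y) * v := by group
        _ = v⁻¹ * (y * u ^ i) * v := by rw [hyi]
        _ = _ := by group
  · refine ⟨v⁻¹ * c * v, W.mul_mem (W.mul_mem (W.inv_mem hv) hc) hv, fun e1 => hc1 ?_, ?_⟩
    · calc c = v * (v⁻¹ * c * v) * v⁻¹ := by group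
        _ = 1 := by rw [e1]; group
    · have e' : w * u ^ i = v⁻¹ * (c * u ^ i) * v := by
        conv_rhs => rw [← e]
        group
      rw [e']
      calc v⁻¹ * (c * u ^ i) * v * (v⁻¹ * c * v) = v⁻¹ * c * (u ^ i * c) * v := by group
        _ = v⁻¹ * c * (c * u ^ i) * v := by rw [← hcu]
        _ = _ := by group

/-- The full twisted sum of an invariant nonprincipal linear character vanishes. -/
theorem MHyp.twist_zero (hy : ∃ y ∈ W, y ≠ 1 ∧ u * y = y * u) {θ : W →* ℂˣ} (hθ : θ ≠ 1)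
    (hinv : u ∈ inert W θ) :
    ∑ w : W, linFun θ w * conj (ψ 0 (((w : M) * u : M) : G)) = 0 := by
  classical
  set U := W ⊔ Subgroup.zpowers u with hU
  haveI := Fintype.ofFinite U
  haveI := Fintype.ofFinite (W.subgroupOf U)
  haveI : (W.subgroupOf U).Normal := hWn.subgroupOf U
  have hWU : W ≤ U := le_sup_left
  have huU : u ∈ U := Subgroup.mem_sup_right (Subgroup.mem_zpowers u)
  have hUI : U ≤ inert W θ := sup_le (le_inert W θ) (Subgroup.zpowers_le.2 hinv)
  set θU : W.subgroupOf U →* ℂˣ := θ.comp (Subgroup.subgroupOfEquivOfLe hWU).toMonoidHom with hθU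
  have htrans : Cfsg.indFun U (Cfsg.indFun (W.subgroupOf U) (linFun θU)) = Cfsg.indFun W (linFun θ) :=
    indFun_trans W U hWU (linFun θ)
  have hab : ∀ x ∈ (⊤ : Subgroup U), ∀ y ∈ (⊤ : Subgroup U), x * y * x⁻¹ * y⁻¹ ∈ W.subgroupOf U := by
    intro x _ y _
    rw [Subgroup.mem_subgroupOf, ← QuotientGroup.eq_one_iff]
    have him : U.map (QuotientGroup.mk' W) ≤ Subgroup.zpowers (QuotientGroup.mk' W u) := by
      rw [hU, Subgroup.map_sup, MonoidHom.map_zpowers, QuotientGroup.map_mk'_self, bot_sup_eq]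
    obtain ⟨i, hi⟩ := him (Subgroup.mem_map_of_mem _ x.2)
    obtain ⟨j, hj⟩ := him (Subgroup.mem_map_of_mem _ y.2)
    simp only [QuotientGroup.mk'_apply] at hi hj
    simp only [Subgroup.coe_mul, Subgroup.coe_inv, QuotientGroup.mk_mul, QuotientGroup.mk_inv, ← hi, ← hj]
    group
  have hcop : Nat.Coprime (Nat.card (W.subgroupOf U)) ((W.subgroupOf U).relIndex ⊤) := by
    rw [Subgroup.relIndex_top_right, Nat.card_congr (Subgroup.subgroupOfEquivOfLe hWU).toEquiv,
      show (W.subgroupOf U).index = W.relIndex (Subgroup.zpowers u ⊔ W) by rw [sup_comm, ← hU]; rfl,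
      Subgroup.relIndex_sup_right]
    refine Nat.Coprime.symm ((hp.coprime_iff_not_dvd.2 hpW).coprime_dvd_left ?_)
    rw [← huo, ← Nat.card_zpowers]
    exact Subgroup.relIndex_dvd_card W (Subgroup.zpowers u)
  obtain ⟨D, hD, -, hind, hdeg⟩ := S1491.result (W.subgroupOf U) (⊤ : Subgroup U) (linFun θU)
    (linFun_irr θU)
    (fun g => iff_of_true trivial fun z => mem_inert.1 (hUI g.2) ⟨((z : U) : M), z.2⟩) hab hcop
  set ψU : U → ℂ := fun x => ψ 0 ((x : M) : G) with hψU
  have hdeg1 : ∀ χ ∈ D, χ 1 = 1 := fun χ hχ => by rw [hdeg χ hχ]; simp [linFun_one]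
  have hres : ∀ χ ∈ D, (fun z : W.subgroupOf U => χ z) = linFun θU := fun χ hχ => by
    by_contra hne
    have hirr : Cfsg.IsIrrCharacter (W.subgroupOf U) fun z : W.subgroupOf U => χ z :=
      CharTheory.Basics.isIrr_of_degree_one (isCharacter_restrict _ (isCharacter_of_isIrr (hD χ hχ)))
        (hdeg1 χ hχ)
    have e := classInner_isIrr_ne hirr (linFun_irr θU) hne
    rw [← frobenius_reciprocity' (W.subgroupOf U) (linFun θU)
      (char_isClassFunction (isCharacter_of_isIrr (hD χ hχ))), hind, classInner_sum_right,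
      Finset.sum_eq_single χ (fun ξ hξ hne' => classInner_isIrr_ne (hD χ hχ) (hD ξ hξ) (Ne.symm hne'))
        (fun hh => absurd hχ hh), classInner_isIrr_self (hD χ hχ)] at e
    exact one_ne_zero e
  obtain ⟨C, d, hd0, hC, hindM⟩ := h.parts θ hθ
  -- every piece lies among the constituents of `θ`
  have hsupp : ∀ χ ∈ D, ∀ ξ : M → ℂ, Cfsg.IsIrrCharacter M ξ → ξ ∉ C →
      Cfsg.classInner (Cfsg.indFun U χ) ξ = 0 := by
    intro χ hχ ξ hξ hξC
    have hn : ∀ χ' ∈ D, ∃ n : ℕ, Cfsg.classInner χ' (fun x : U => ξ x) = n := fun χ' hχ' =>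
      classInner_char_nat (isCharacter_of_isIrr (hD χ' hχ')) (isCharacter_restrict U (isCharacter_of_isIrr hξ))
    choose! n hn using hn
    have e : ((∑ χ' ∈ D, n χ' : ℕ) : ℂ) = 0 := by
      rw [Nat.cast_sum, ← Finset.sum_congr rfl hn, ← classInner_sum_left, ← hind,
        ← frobenius_reciprocity U _ (char_isClassFunction (isCharacter_of_isIrr hξ)), htrans, hindM,
        classInner_sum_left]
      exact Finset.sum_eq_zero fun ζ hζ => classInner_isIrr_ne (hC ζ hζ).1.1 hξ fun e => hξC (e ▸ hζ)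
    rw [frobenius_reciprocity U χ (char_isClassFunction (isCharacter_of_isIrr hξ)), hn χ hχ,
      Finset.sum_eq_zero_iff.1 (Nat.cast_eq_zero.1 e) χ hχ, Nat.cast_zero]
  have hconst : ∀ χ ∈ D, ∀ χ' ∈ D, Cfsg.classInner χ ψU = Cfsg.classInner χ' ψU := by
    intro χ hχ χ' hχ'
    rw [← sub_eq_zero, ← classInner_sub_left]
    set α := Cfsg.indFun U (χ - χ') with hα
    haveI := Fintype.ofFinite (Cfsg.IrrCharacter M)
    have hαcf : Cfsg.IsClassFunction M α := indFun_isClassFunction U _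
    have hint : ∀ ξ ∈ C, ∃ z : ℤ, Cfsg.classInner α ξ = z := fun ξ hξ =>
      classInner_gen_int (isGen_indFun U (isGen_sub (isGen_of_isCharacter (isCharacter_of_isIrr (hD χ hχ)))
        (isGen_of_isCharacter (isCharacter_of_isIrr (hD χ' hχ')))))
        (isGen_of_isCharacter (isCharacter_of_isIrr (hC ξ hξ).1.1))
    choose! z hz using hint
    have hexp : α = ∑ ξ ∈ C, z ξ • ξ := by
      conv_lhs => rw [classFun_eq_sum hαcf]
      rw [← Finset.sum_filter_add_sum_filter_not Finset.univ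
        (fun β : Cfsg.IrrCharacter M => (β : M → ℂ) ∈ C),
        Finset.sum_eq_zero (s := Finset.univ.filter fun β : Cfsg.IrrCharacter M => ¬ (β : M → ℂ) ∈ C)
          (fun β hβ => by
            rw [hα, indFun_sub, classInner_sub_left, hsupp χ hχ _ β.2 (Finset.mem_filter.1 hβ).2,
              hsupp χ' hχ' _ β.2 (Finset.mem_filter.1 hβ).2, sub_zero, zero_smul]), add_zero]
      refine Finset.sum_bij (fun β _ => (β : M → ℂ)) (fun β hβ => (Finset.mem_filter.1 hβ).2)
        (fun β _ β' _ e => Subtype.ext e)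
        (fun ξ hξ => ⟨⟨ξ, (hC ξ hξ).1.1⟩, Finset.mem_filter.2 ⟨Finset.mem_univ _, hξ⟩, rfl⟩)
        fun β hβ => ?_
      rw [hz _ (Finset.mem_filter.1 hβ).2, Int.cast_smul_eq_zsmul]
    have hα1 : α 1 = 0 := by simp [hα, indFun_one, hdeg1 χ hχ, hdeg1 χ' hχ']
    have hαm : α ∈ Cfsg.zspan (ntSet W) := by
      rw [hexp]
      exact Submodule.sum_mem _ fun ξ hξ => Submodule.smul_mem _ _ (Submodule.subset_span (hC ξ hξ).1)
    have h0 : h.pair α = 0 := by
      rw [hexp]
      exact h.pair_level C (fun ξ hξ => (hC ξ hξ).1) hd0 (fun ξ hξ => (hC ξ hξ).2.1) z (hexp ▸ hα1)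
    rw [MHyp.pair, inner_rho h.dade hαcf (fun x hx => h.supp hαm hα1 hx)
      (isGen_isClassFunction (h.gen 0))] at h0
    have h1 : Cfsg.classInner α (fixVal W R (ψ 0)) = 0 := by
      rw [← h0, classInner_def, classInner_def]
      congr 1
      refine Finset.sum_congr rfl fun m _ => ?_
      by_cases hm : (m : G) ∈ fixSet W
      · rw [fixVal_of_mem hm]
      · rw [h.supp hαm hα1 hm, zero_mul, zero_mul]
    rw [hα, frobenius_reciprocity U _ h.fixVal_class] at h1
    rw [← h1, classInner_def, classInner_def]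
    congr 1
    refine Finset.sum_congr rfl fun x _ => ?_
    by_cases hxW : (x : M) ∈ W
    · rw [Pi.sub_apply, show χ x = χ' x from
        (congrFun (hres χ hχ) ⟨x, hxW⟩).trans (congrFun (hres χ' hχ') ⟨x, hxW⟩).symm, sub_self,
        zero_mul, zero_mul]
    · have hmem := h.mem_fixSet_twist hp hpW huo hy x.2 hxW
      rw [fixVal_of_mem hmem, rho_of_bot (h.off _ hxW hmem)]
  set uU : U := ⟨u, huU⟩ with huUdef
  have huW : uU ∉ W.subgroupOf U := fun hh => h.u_notMem hp hpW huo hh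
  have hsum0 : ∑ χ ∈ D, conj (χ uU) = 0 := by
    rw [← map_sum, ← Finset.sum_apply, ← hind, Induce.indFun_apply_normal_notMem _ _ huW, map_zero]
  have hne : D.Nonempty := by
    rcases D.eq_empty_or_nonempty with rfl | hne
    · have := congrFun hind 1
      rw [indFun_one, linFun_one, mul_one, Finset.sum_empty, Pi.zero_apply] at this
      exact absurd this (Nat.cast_ne_zero.2 Subgroup.index_ne_zero_of_finite)
    · exact hne
  obtain ⟨χ₀, hχ₀⟩ := hne
  have hzero : ∑ χ ∈ D, conj (χ uU) * Cfsg.classInner χ ψU = 0 := by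
    rw [Finset.sum_congr rfl fun χ hχ => by rw [hconst χ hχ χ₀ hχ₀], ← Finset.sum_mul, hsum0, zero_mul]
  have hDχ : ∀ χ ∈ D, Cfsg.IsCharacter U χ := fun χ hχ => isCharacter_of_isIrr (hD χ hχ)
  have hzero2 : ∑ y : U, (∑ χ ∈ D, χ y) * conj (ψU (y * uU)) = 0 := by
    have hcard : (Nat.card U : ℂ) * ∑ χ ∈ D, conj (χ uU) * Cfsg.classInner χ ψU = 0 := by
      rw [hzero, mul_zero]
    simp only [classInner_def, Finset.mul_sum] at hcard
    rw [← hcard, Finset.sum_comm (s := D)]
    refine Fintype.sum_equiv (Equiv.mulRight uU) _ _ fun y => ?_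
    rw [Finset.sum_mul]
    refine Finset.sum_congr rfl fun χ hχ => ?_
    rw [Equiv.coe_mulRight, show χ (y * uU) = χ y * χ uU from
      char_mul_of_degree_one (hDχ χ hχ) (hdeg1 χ hχ) y uU]
    have h1 : χ uU * conj (χ uU) = 1 := by
      rw [← char_inv (hDχ χ hχ), ← char_mul_of_degree_one (hDχ χ hχ) (hdeg1 χ hχ), mul_inv_cancel,
        hdeg1 χ hχ]
    have h2 : (Nat.card U : ℂ) * (Nat.card U : ℂ)⁻¹ = 1 := mul_inv_cancel₀ natCard_ne_zero
    linear_combination -(χ y * conj (ψU (y * uU))) * ((Nat.card U : ℂ) * (Nat.card U : ℂ)⁻¹) * h1 -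
      (χ y * conj (ψU (y * uU))) * h2
  have hDcard : (D.card : ℂ) ≠ 0 := Nat.cast_ne_zero.2 (Finset.card_ne_zero_of_mem hχ₀)
  refine (mul_eq_zero.1 ?_).resolve_left hDcard
  rw [← hzero2, Finset.mul_sum, ← Finset.sum_filter_add_sum_filter_not Finset.univ
    (fun y : U => (y : M) ∈ W), Finset.sum_eq_zero (s := Finset.univ.filter fun y : U => (y : M) ∉ W)
      (fun y hy => by
        rw [show (∑ χ ∈ D, χ y) = (∑ χ ∈ D, χ) y from (Finset.sum_apply _ _ _).symm, ← hind,
          Induce.indFun_apply_normal_notMem (W.subgroupOf U) (linFun θU)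
            (Subgroup.mem_subgroupOf.not.2 (Finset.mem_filter.1 hy).2), zero_mul]),
    add_zero]
  refine Finset.sum_bij (fun w _ => (⟨(w : M), hWU w.2⟩ : U))
    (fun w _ => Finset.mem_filter.2 ⟨Finset.mem_univ _, w.2⟩)
    (fun w _ w' _ e => Subtype.ext (congrArg (fun z : U => (z : M)) e))
    (fun y hy => ⟨⟨(y : M), (Finset.mem_filter.1 hy).2⟩, Finset.mem_univ _, rfl⟩) fun w _ => ?_
  rw [Finset.sum_congr rfl fun χ hχ => show χ (⟨(w : M), hWU w.2⟩ : U) = linFun θ w from
    congrFun (hres χ hχ) ⟨⟨(w : M), hWU w.2⟩, w.2⟩, Finset.sum_const, nsmul_eq_mul, mul_assoc]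
  rfl

end Cfsg.Agent.OddChar.TypeOne.Gap
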