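import Cfsg.Agent.OddChar.TypeOne.Gap.Frob
import Cfsg.Agent.OddLocal.NonTI
import Cfsg.Agent.OddLocal.TauTwoNonabelian

/-!
# Maximal subgroups whose core is not a TI subset
-/

set_option autoImplicit false
set_option linter.unusedSectionVars false
set_option linter.style.haveILetI false

namespace Cfsg.Agent.OddChar.TypeOne.Gap

open Cfsg Subgroup
open Cfsg.Agent.OddLocal Cfsg.Agent.OddLocal.SigmaParts Cfsg.Agent.OddLocal.NonTI

variable {G : Type*} [Group G] [Finite G] {M N P : Subgroup G} {x : G} {p : ℕ}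

/-- A line of `M_σ` normal in `M` bounds `|M : M_σ|`. -/
theorem relIndex_dvd_pred (hG : IsMinSimpleOddOrder G) (hM : IsCoatom M) (hκ : kappa M = ∅) {q : ℕ}
    [Fact q.Prime] {Y : Subgroup G} (hY : Nat.card Y = q) (hYσ : Y ≤ sigmaCore M)
    (hn : M ≤ normalizer (Y : Set G)) : (sigmaCore M).relIndex M ∣ q - 1 := by
  obtain ⟨E, hE⟩ := Compl.exists_compl hG hM
  have h1 : Nat.card M = Nat.card (sigmaCore M) * Nat.card E := by
    rw [mul_comm]; exact Basics.card_eq_of_isCompl' hE.1 hE.2.1 hE.2.2.1 hE.2.2.2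
  have h2 : Nat.card (sigmaCore M) * (sigmaCore M).relIndex M = Nat.card M := by
    rw [← Nat.card_congr (subgroupOfEquivOfLe (Sigma.sigmaCore_le M)).toEquiv]
    exact card_mul_index ((sigmaCore M).subgroupOf M)
  rw [Nat.eq_of_mul_eq_mul_left Nat.card_pos (h2.trans h1)]
  refine LineAut.card_dvd_pred hY (hE.1.trans hn) fun e he heY => ?_
  obtain ⟨y, hy, hy1⟩ := (bot_or_exists_ne_one Y).resolve_left (PrimeAction.ne_bot_of_card hY)
  refine mem_bot.mp (hE.2.2.1.le (mem_inf.mpr ⟨he, frob hG hM hκ (hE.1 he) (hYσ hy) hy1 ?_⟩))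
  exact (mem_centralizer_iff.mp heY y hy).symm

/-- The intersection with a conjugate outside `M` is cyclic. -/
theorem isCyclic_inter (hG : IsMinSimpleOddOrder G) (hM : IsCoatom M)
    (hnil : Group.IsNilpotent (sigmaCore M)) {g : G} (hg : g ∉ M) {X : Subgroup G}
    (hX : X ≤ sigmaCore M) (hXg : X ≤ (sigmaCore M).map (MulAut.conj g).toMonoidHom) : IsCyclic X := by
  haveI : Group.IsNilpotent X := Cores.isNilpotent_to_le hX hnil
  haveI : IsZGroup X := ⟨fun r hr Q => by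
    have := Fact.mk hr
    by_contra hnc
    set Q' := (Q : Subgroup X).map X.subtype with hQ'
    have hnc' : ¬ IsCyclic Q' := fun h => hnc (isCyclic_of_surjective _
      ((Q : Subgroup X).equivMapOfInjective X.subtype X.subtype_injective).symm.surjective)
    have hQ1 : Q' ≠ ⊥ := fun e => hnc' (e ▸ inferInstance)
    have hQp : IsPGroup r Q' := Q.isPGroup'.map _
    have hQσ : Q' ≤ sigmaCore M := (map_subtype_le _).trans hX
    have hrσ : r ∈ sigma M := by
      obtain ⟨k, hk⟩ := hQp.exists_card_eq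
      have hk0 : k ≠ 0 := fun e => hQ1 (card_eq_one.mp (by rw [hk, e, pow_zero]))
      exact Transitivity.isPi_piCoreOf (sigma M) M r hr
        ((hk ▸ dvd_pow_self r hk0 : r ∣ Nat.card Q').trans (card_dvd_of_le hQσ))
    have hQM : Q' ≤ M := hQσ.trans (Sigma.sigmaCore_le M)
    have hle : Q'.map (MulAut.conj g⁻¹).toMonoidHom ≤ M := by
      rintro _ ⟨a, ha, rfl⟩
      obtain ⟨b, hb, rfl⟩ := hXg (map_subtype_le _ ha)
      simpa [mul_assoc] using Sigma.sigmaCore_le M hb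
    obtain ⟨m, hm, c, hc, e⟩ := Sigma.sigma_conj hG hM hrσ hQp hQ1 hQM hle
    have hcM : c ∈ M := SigmaCompl.normalizer_le hG hM hrσ hQp hQM hnc' (centralizer_le_normalizer _ hc)
    have := inv_mem (mul_mem hm hcM)
    rw [← e, inv_inv] at this
    exact hg this⟩
  infer_instance

/-- An abelian core has rank two. -/
theorem rank_two (hG : IsMinSimpleOddOrder G) (c : Nbr M N P x p)
    (hab : IsMulCommutative (sigmaCore M)) : RankLE 2 (sigmaCore M) ∧ ¬ RankLE 1 (sigmaCore M) := by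
  refine ⟨fun q hq A hAc hAe => ?_, fun h => ?_⟩
  · haveI := Fact.mk hq
    set A' := A.map (sigmaCore M).subtype with hA'
    have hA'σ : A' ≤ sigmaCore M := map_subtype_le _
    rw [← card_map_of_injective (sigmaCore M).subtype_injective, ← hA']
    by_cases hd : q ∣ Nat.card A'
    · have hqN := c.not_sigma hq hA'σ hd
      have hA'N : A' ≤ N := fun a ha => (mem_inf.mp (c.inter (Sigma.sigmaCore_le M (hA'σ ha))
        (congrArg Subtype.val (hab.is_comm.comm ⟨a, hA'σ ha⟩ ⟨x, c.hx⟩)))).2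
      have h1 := SigmaCompl.rank_le hG c.hN hq hqN (A'.subgroupOf N)
        ⟨⟨fun a b => Subtype.ext (Subtype.ext (congrArg Subtype.val (hab.is_comm.comm
          ⟨_, hA'σ a.2⟩ ⟨_, hA'σ b.2⟩) :))⟩⟩ fun a ha => Subtype.ext (by
          obtain ⟨b, hb, e⟩ := mem_subgroupOf.mp ha
          rw [SubgroupClass.coe_pow, ← e, ← map_pow, hAe b hb]
          rfl)
      rwa [Nat.card_congr (subgroupOfEquivOfLe hA'N).toEquiv] at h1
    · have hAp : IsPGroup q A := fun a => ⟨1, Subtype.ext (by simpa using hAe a a.2)⟩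
      obtain ⟨k, hk⟩ := (hAp.map (sigmaCore M).subtype).exists_card_eq
      rw [← hA'] at hk
      rcases k with - | k
      · rw [hk, pow_zero]; exact Nat.one_le_pow _ _ hq.pos
      · exact absurd (hk ▸ dvd_pow_self q k.succ_ne_zero) hd
  · obtain ⟨B, -, hBP, hBe, hBc⟩ := c.exists_B
    have hBσ := hBP.trans c.hPσ
    have h1 := h p c.hp (B.subgroupOf (sigmaCore M))
      ⟨⟨fun a b => Subtype.ext (hab.is_comm.comm a.1 b.1)⟩⟩
      fun a ha => Subtype.ext (hBe.2 _ (mem_subgroupOf.mp ha))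
    rw [Nat.card_congr (subgroupOfEquivOfLe hBσ).toEquiv, hBc] at h1
    exact absurd ((Nat.pow_le_pow_iff_right c.hp.one_lt).mp h1) (by norm_num)

theorem not_comm_x (c : Nbr M N P x p) (hab : ¬ IsMulCommutative (sigmaCore M)) :
    ¬ ∀ a ∈ P, Commute a x := fun h => hab (c.core_comm h)

theorem not_comm_P (c : Nbr M N P x p) (hab : ¬ IsMulCommutative (sigmaCore M)) :
    ¬ IsMulCommutative P := fun h => not_comm_x c hab fun a ha =>
  congrArg Subtype.val (h.is_comm.comm ⟨a, ha⟩ ⟨x, c.x_mem⟩)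

theorem map_pCore (c : Nbr M N P x p) : (pCore p (sigmaCore M)).map (sigmaCore M).subtype = P := by
  have := Fact.mk c.hp
  refine le_antisymm (c.mem_P (map_subtype_le _) ((PLocal.Cores.isPGroup_pCore).map _)) ?_
  rw [← map_subgroupOf_eq_of_le c.hPσ]
  have : (P.subgroupOf (sigmaCore M)).Normal := (normal_subgroupOf_iff_le_normalizer c.hPσ).mpr
    ((Sigma.sigmaCore_le M).trans c.normal)
  exact map_mono (PLocal.Cores.le_pCore (c.pgroup.of_equiv (subgroupOfEquivOfLe c.hPσ).symm))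

theorem pCore_nonabelian (c : Nbr M N P x p) (hab : ¬ IsMulCommutative (sigmaCore M)) :
    ¬ IsMulCommutative (pCore p (sigmaCore M)) := fun h => not_comm_P c hab ⟨⟨fun a b => by
  obtain ⟨a', ha', ea⟩ := (map_pCore c).ge a.2
  obtain ⟨b', hb', eb⟩ := (map_pCore c).ge b.2
  refine Subtype.ext ?_
  show (a : G) * b = b * a
  rw [← ea, ← eb]
  exact congrArg (fun z : pCore p (sigmaCore M) => ((z : sigmaCore M) : G))
    (h.is_comm.comm ⟨a', ha'⟩ ⟨b', hb'⟩)⟩⟩

theorem cyclic_pPrimeCore (c : Nbr M N P x p) (hab : ¬ IsMulCommutative (sigmaCore M)) :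
    IsCyclic (pPrimeCore p (sigmaCore M)) := by
  obtain ⟨D, -, hDc, hmax⟩ := c.exists_cyclic (not_comm_P c hab)
  have h1 : (pPrimeCore p (sigmaCore M)).map (sigmaCore M).subtype ≤ D :=
    hmax _ (map_subtype_le _) (by
      rw [card_map_of_injective (sigmaCore M).subtype_injective]
      exact PLocal.Cores.not_dvd_card_pPrimeCore c.hp.ne_one)
  have := Subgroup.isCyclic_of_le h1
  exact isCyclic_of_surjective _ ((pPrimeCore p (sigmaCore M)).equivMapOfInjective
    (sigmaCore M).subtype (sigmaCore M).subtype_injective).symm.surjective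

theorem cyclic_pPrimeCore_M (hκ : kappa M = ∅) (c : Nbr M N P x p)
    (hab : ¬ IsMulCommutative (sigmaCore M)) : IsCyclic (pPrimeCore p ↥M) := by
  obtain ⟨D, -, hDc, hmax⟩ := c.exists_cyclic (not_comm_P c hab)
  set W := (pPrimeCore p ↥M).map M.subtype with hW
  have hWp : ¬ p ∣ Nat.card W := by
    rw [hW, card_map_of_injective M.subtype_injective]
    exact PLocal.Cores.not_dvd_card_pPrimeCore c.hp.ne_one
  have hWσ : W ≤ sigmaCore M := fun w hw => by
    have hwM : w ∈ M := map_subtype_le _ hw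
    refine frob c.hG c.hM hκ hwM c.hx c.x_ne ?_
    have h1 : w * x * w⁻¹ * x⁻¹ ∈ P :=
      mul_mem ((mem_normalizer_iff.mp (c.normal hwM) x).mp c.x_mem) (inv_mem c.x_mem)
    have h2 : w * x * w⁻¹ * x⁻¹ ∈ W := by
      obtain ⟨w', hw', rfl⟩ := hw
      haveI : (pPrimeCore p ↥M).Normal := Subgroup.sSup_normal _ fun _ h => h.1
      refine ⟨w' * (⟨x, Sigma.sigmaCore_le M c.hx⟩ * w'⁻¹ * (⟨x, Sigma.sigmaCore_le M c.hx⟩ : M)⁻¹),
        mul_mem hw' (Subgroup.Normal.conj_mem inferInstance _ (inv_mem hw') _), ?_⟩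
      simp [mul_assoc]
    have hpw : (orderOf (w * x * w⁻¹ * x⁻¹)) = 1 := by
      have := Fact.mk c.hp
      obtain ⟨k, hk⟩ := IsPGroup.iff_orderOf.1 c.pgroup ⟨_, h1⟩
      rw [orderOf_mk] at hk
      rcases k with - | k
      · rw [hk, pow_zero]
      · exact absurd ((dvd_pow_self p k.succ_ne_zero).trans (hk ▸ orderOf_dvd_natCard W h2)) hWp
    exact mul_inv_eq_iff_eq_mul.mp (mul_inv_eq_one.mp (orderOf_eq_one_iff.mp hpw))
  have := Subgroup.isCyclic_of_le (hmax W hWσ hWp)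
  exact isCyclic_of_surjective _ ((pPrimeCore p ↥M).equivMapOfInjective M.subtype
    M.subtype_injective).symm.surjective

theorem dvd_pred (hκ : kappa M = ∅) (c : Nbr M N P x p) (hab : ¬ IsMulCommutative (sigmaCore M))
    {q : ℕ} (hq : q.Prime) (hd : q ∣ Nat.card (sigmaCore M)) : (sigmaCore M).relIndex M ∣ q - 1 := by
  have := Fact.mk hq
  obtain ⟨D, -, hDc, hmax⟩ := c.exists_cyclic (not_comm_P c hab)
  by_cases hqp : q = p
  · subst hqp
    have hPp := c.pgroup
    have hP1 : P ≠ ⊥ := fun e => c.x_ne (mem_bot.mp (e ▸ c.x_mem))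
    obtain ⟨z, hz, hzo⟩ := KappaFixed.exists_order_eq (hPp.to_le (P2Elem.omegaCenter_le (q := q) P))
      (P2Elem.omegaCenter_ne_bot hPp hP1)
    have hzc : ∀ a ∈ P, Commute z a := fun a ha => (mem_centralizer_iff.mp hz.2.1 a ha).symm
    have hncx := not_comm_x c hab
    have hxz : x ∉ zpowers z := fun h => hncx fun a ha => by
      obtain ⟨i, hi⟩ := mem_zpowers_iff.mp h
      exact hi ▸ ((hzc a ha).zpow_left i).symm
    have huniq : ∀ w ∈ P2Elem.omegaCenter q P, w ∈ zpowers z := fun w hw => by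
      obtain ⟨b, hb, e, he, hbe⟩ := KappaDecomp.exists_mul_sup (A := zpowers x) (B := zpowers z)
        (zpowers_le.mpr (centralizer_le_normalizer _ (TauTwo.centralizer_zpowers x ▸
          mem_centralizer_singleton_iff.mpr (hzc x c.x_mem).eq)))
        (c.mem_pair hz.1 hzc hzo hxz hw.1 hw.2.2 (mem_centralizer_iff.mp hw.2.1 x c.x_mem).symm)
      rcases eq_or_ne b 1 with rfl | hb1
      · rw [hbe, one_mul]; exact he
      refine absurd (fun a ha => ?_) hncx
      have hbz : b = w * e⁻¹ := eq_mul_inv_of_mul_eq hbe.symm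
      have hba : Commute a b := by
        obtain ⟨j, hj⟩ := mem_zpowers_iff.mp he
        rw [hbz, ← hj]
        exact (show Commute a w from mem_centralizer_iff.mp hw.2.1 a ha).mul_right
          ((hzc a ha).symm.zpow_right j).inv_right
      obtain ⟨i, hi⟩ := mem_zpowers_iff.mp ((ZGroupCore.zpowers_eq_of_prime (A := zpowers x)
        (by rw [Nat.card_zpowers, c.hxo]; exact hq) hb hb1).ge (mem_zpowers x))
      exact hi ▸ hba.zpow_right i
    have hZ : zpowers z = P2Elem.omegaCenter q P := le_antisymm (zpowers_le.mpr hz) huniq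
    refine relIndex_dvd_pred c.hG c.hM hκ (Y := zpowers z) (by rw [Nat.card_zpowers, hzo])
      (zpowers_le.mpr (c.hPσ hz.1)) ?_
    rw [hZ]
    exact c.normal.trans (P2Elem.normalizer_le_normalizer_omegaCenter P)
  · obtain ⟨y, hy⟩ := exists_prime_orderOf_dvd_card' q hd
    rw [← orderOf_coe] at hy
    have hmem : ∀ w ∈ sigmaCore M, orderOf w = q → w ∈ D := fun w hw hwo =>
      hmax (zpowers w) (zpowers_le.mpr hw) (by
        rw [Nat.card_zpowers, hwo]
        exact fun h => hqp ((Nat.prime_dvd_prime_iff_eq c.hp hq).mp h).symm) (mem_zpowers w)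
    refine relIndex_dvd_pred c.hG c.hM hκ (Y := zpowers (y : G)) (by rw [Nat.card_zpowers, hy])
      (zpowers_le.mpr y.2) fun m hm => Transfer.Fusion.map_conj_eq_self_iff.mp
        (eq_of_le_of_card_ge ?_ (by rw [Transfer.Fusion.card_map_conj]))
    rw [MonoidHom.map_zpowers, zpowers_le]
    show m * y * m⁻¹ ∈ zpowers (y : G)
    exact TauTwo.mem_zpowers_of_cyclic hDc (hmem _ y.2 hy)
      (hmem _ ((mem_normalizer_iff.mp (Sigma.le_normalizer_sigmaCore M hm) _).mp y.2)
        (((MulAut.conj m).orderOf_eq (y : G)).trans hy)) hy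
      (by rw [conj_pow, ← hy, pow_orderOf_eq_one]; group)

/-- No other prime occurs. -/
theorem same_prime (c : Nbr M N P x p) (hab : ¬ IsMulCommutative (sigmaCore M)) {N' P' : Subgroup G}
    {y : G} {r : ℕ} (c' : Nbr M N' P' y r) : r = p := by
  by_contra hrp
  haveI := Fact.mk c'.hp
  obtain ⟨D, -, hDc, hmax⟩ := c.exists_cyclic (not_comm_P c hab)
  obtain ⟨B, -, hBP, hBe, hBc⟩ := c'.exists_B
  have hBD : B ≤ D := hmax B (hBP.trans c'.hPσ) (by
    rw [hBc]
    exact fun h => hrp ((Nat.prime_dvd_prime_iff_eq c.hp c'.hp).mp (c.hp.dvd_of_dvd_pow h)).symm)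
  exact Components.Hyperplane.not_isCyclic hBe hBc.ge (Subgroup.isCyclic_of_le hBD)

/-- `x` is no `p`-th power in `M_σ`. -/
theorem no_root (c : Nbr M N P x p) (hab : ¬ IsMulCommutative (sigmaCore M)) {w : G}
    (hw : w ∈ sigmaCore M) : w ^ p ≠ x := by
  intro hwx
  haveI := Fact.mk c.hp
  have hnab := c.sylow_nonabelian (not_comm_P c hab)
  obtain ⟨A, hAE, hA⟩ := SigmaCompl.exists_ctx c.hG c.hN c.sig.compl c.p_tau
  obtain ⟨S, Z, s, hn⟩ := hA.exists_nab hnab c.sig.compl hAE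
  obtain ⟨Q, hAQ, hQS⟩ := hn.PS
  have hxp : x ^ p = 1 := c.hxo ▸ pow_orderOf_eq_one x
  have hwE : w ∈ M ⊓ N := c.inter (Sigma.sigmaCore_le M hw) (hwx ▸ Commute.self_pow w p)
  have hxA : x ∈ A := hA.mem_of_pow c.sig.compl hAE (hwx ▸ pow_mem hwE p) hxp
  have hwp : IsPGroup p (zpowers w) := by
    refine fun ⟨v, hv⟩ => ⟨2, Subtype.ext ?_⟩
    obtain ⟨i, rfl⟩ := mem_zpowers_iff.mp hv
    show (w ^ i) ^ p ^ 2 = 1
    rw [← zpow_natCast, ← zpow_mul, mul_comm, zpow_mul, zpow_natCast, pow_two, pow_mul, hwx, hxp, one_zpow]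
  have hwA : w ∈ normalizer (A : Set G) := hA.le_normalizer_compl c.sig.compl hAE hwE
  have hwC : zpowers w ≤ centralizer (A : Set G) := hA.pelem_centralizes c.sig.compl hAE hwp
    (zpowers_le.mpr (mem_inf.mp hwE).2) (zpowers_le.mpr hwA)
  set T := zpowers w ⊔ A with hT
  have hTp : IsPGroup p T := hwp.to_sup_of_normal_right' hA.hA.isPGroup (zpowers_le.mpr hwA)
  have hTN : T ≤ N := sup_le (zpowers_le.mpr (mem_inf.mp hwE).2) hA.hAM
  obtain ⟨Q', hQ'⟩ := (hTp.comap_subtype (K := N)).exists_le_sylow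
  obtain ⟨n, hnQ⟩ := MulAction.exists_smul_eq N Q' Q
  have hin : ∀ t ∈ T, (n : G) * t * (n : G)⁻¹ ∈ (Q : Subgroup N).map N.subtype := fun t ht => by
    refine ⟨n * ⟨t, hTN ht⟩ * n⁻¹, ?_, rfl⟩
    rw [← hnQ, Transfer.Fusion.coe_smul_eq_map]
    exact ⟨_, hQ' (mem_subgroupOf.mpr ht), rfl⟩
  have homega := ((S1417.result c.hG N c.hN p c.p_tau A ⟨hA.hAM, hA.hA.el, hA.hA.card⟩).2.1 Q).2 hAQ |>.1
  have hAn : A.map (MulAut.conj (n : G)).toMonoidHom = A := by
    refine eq_of_le_of_card_ge ?_ (by rw [Transfer.Fusion.card_map_conj])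
    rintro _ ⟨a, ha, rfl⟩
    show (n : G) * a * (n : G)⁻¹ ∈ A
    refine (homega _ (hin a (mem_sup_right ha))).mp ?_
    rw [conj_pow, hA.hA.el.2 a ha]; group
  set w' := (n : G) * w * (n : G)⁻¹ with hw'
  set x' := (n : G) * x * (n : G)⁻¹ with hx'
  have hx'A : x' ∈ A := hAn ▸ ⟨x, hxA, rfl⟩
  have hw'x : w' ^ p = x' := by rw [hw', hx', conj_pow, hwx]
  have hx'1 : x' ≠ 1 := fun e => c.x_ne (conj_eq_one_iff.mp e)
  have hw'C : zpowers w' ≤ centralizer (A : Set G) := by
    rw [zpowers_le, mem_centralizer_iff]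
    intro a ha
    obtain ⟨b, hb, rfl⟩ := hAn.ge ha
    show (n : G) * b * (n : G)⁻¹ * w' = w' * ((n : G) * b * (n : G)⁻¹)
    have h := mem_centralizer_iff.mp (hwC (mem_zpowers w)) b hb
    calc (n : G) * b * (n : G)⁻¹ * w' = (n : G) * (b * w) * (n : G)⁻¹ := by rw [hw']; group
      _ = (n : G) * (w * b) * (n : G)⁻¹ := by rw [h]
      _ = w' * ((n : G) * b * (n : G)⁻¹) := by rw [hw']; group
  have hx'Z : x' ∉ Z := fun hz => (hA.fpf_Z hn hz hx'1).2 fun v hv => by
    rw [hx', TauTwo.centralizer_map_conj] at hv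
    obtain ⟨v₀, hv₀, rfl⟩ := hv
    exact mul_mem (mul_mem n.2 (c.sig.hC hv₀)) (inv_mem n.2)
  have hle := hA.le_line hn (zpowers_le.mpr (hQS (hin w (mem_sup_left (mem_zpowers w))))) hw'C
    (isCyclic_of_surjective (zpowersHom G w').rangeRestrict (MonoidHom.rangeRestrict_surjective _))
    hx'A hx'1 (hw'x ▸ pow_mem (mem_zpowers w') p) hx'Z
  obtain ⟨i, hi⟩ := mem_zpowers_iff.mp (hle (mem_zpowers w'))
  apply hx'1
  rw [← hw'x, ← hi, ← zpow_natCast, ← zpow_mul, mul_comm, zpow_mul, zpow_natCast,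
    hA.hA.el.2 x' hx'A, one_zpow]

theorem not_beta (c : Nbr M N P x p) : p ∉ beta M := fun hβ => by
  haveI := Fact.mk c.hp
  obtain ⟨A, -, hA⟩ := SigmaCompl.exists_ctx c.hG c.hN c.sig.compl c.p_tau
  obtain ⟨S, hAS⟩ := hA.hA.isPGroup.exists_le_sylow
  obtain ⟨B, -, hBe, hAB⟩ := hβ.2.2.2 S A hAS hA.hA.el hA.hA.card
  exact hAB.not_ge fun b hb => hA.hA.omega b (mem_centralizer_iff.mpr fun a ha =>
    Components.Hyperplane.mem_comm hBe (hAB.le ha) hb) (hBe.2 b hb)

end Cfsg.Agent.OddChar.TypeOne.Gap
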