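import Cfsg.Agent.OddChar.TypeOne.Gap.Frob
import Cfsg.Agent.OddLocal.DadeSets

/-!
# Tame embedding of the sets attached to a maximal subgroup
-/

set_option autoImplicit false
set_option linter.unusedSectionVars false

namespace Cfsg.Agent.OddChar.TypeOne.Gap

open Cfsg Subgroup
open Cfsg.Agent.OddLocal Cfsg.Agent.OddLocal.SigmaParts

variable {G : Type*} [Group G] [Finite G] {M N A B C : Subgroup G} {x : G}

theorem compl_symm (h : IsComplIn A B C) : IsComplIn B A C := by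
  refine ⟨h.2.1, h.1, by rw [inf_comm]; exact h.2.2.1, fun m hm => ?_⟩
  obtain ⟨a, ha, b, hb, e⟩ := h.2.2.2 m⁻¹ (inv_mem hm)
  exact ⟨b⁻¹, inv_mem hb, a⁻¹, inv_mem ha, by rw [← mul_inv_rev, ← e, inv_inv]⟩

/-- The subgroup over a centraliser leaving `M` is of type II. -/
theorem support_typeII (hG : IsMinSimpleOddOrder G) (hM : IsCoatom M) (hx : x ∈ sigmaCore M) (hx1 : x ≠ 1)
    (hxM : ¬ centralizer ({x} : Set G) ≤ M) (h : Signalizer.Sig M N x) :
    IsOfTypeII N ∧ x ∈ typeA N ∧ x ∉ typeA1 N := by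
  obtain ⟨N', -, huniq, -, -, -, -, hdec⟩ := S1375.result hG M hM x hx hx1 hxM
  obtain rfl := huniq N h.hN h.hC
  obtain ⟨K, U, hKU⟩ := Fcore.exists_decomp hG h.hN
  obtain ⟨hU, hxA, hxσ⟩ := hdec K U hKU
  have hK : K ≠ ⊥ := fun e => Set.not_nonempty_empty
    (kappa_eq_empty hKU e ▸ kappa_nonempty hG hM hx hx1 hxM h.hN h.hC)
  have hI : ¬ IsOfTypeI N := fun hI => hK (Types.of_typeI hG h.hN hKU hI).1
  refine ⟨Types.typeII hG h.hN hKU hK hU, ?_, ?_⟩
  · rw [typeA, if_neg hI, Types.typeCore_eq hG h.hN, PType.commutator_eq hG h.hN hKU hK]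
    exact ⟨hxA.2, hx1, hxA.1.2⟩
  · rw [typeA1, Types.typeCore_eq hG h.hN]
    exact fun e => hxσ e.1

theorem frobenius_setting {K U S E : Subgroup G} {u : G} (c : PartnerFrobenius.Setting M N K U S E x u) :
    IsFrobeniusComplement (E.subgroupOf M) ∧
      frobeniusKernel (E.subgroupOf M) = ((fittingHall ↥M : Subgroup ↥M) : Set ↥M) := by
  have hG := c.P.hG
  have hF : fittingHall ↥M = (sigmaCore M).subgroupOf M := by
    rw [core_eq_fittingHallOf hG c.hM c.hκ, fittingHallOf, subgroupOf,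
      comap_map_eq_self_of_injective M.subtype_injective]
  rw [hF]
  have hn : ((sigmaCore M).subgroupOf M).Normal :=
    (normal_subgroupOf_iff_le_normalizer (Sigma.sigmaCore_le M)).mpr (Sigma.le_normalizer_sigmaCore M)
  refine Frobenius.Basic.isFrobeniusComplement_of_fixedPointFree ((sigmaCore M).subgroupOf M)
    (E.subgroupOf M) ?_ ?_ ?_ ?_ fun h hh hh1 y hy e => ?_
  · rw [eq_bot_iff]
    exact fun z hz => mem_bot.mpr (Subtype.ext (mem_bot.mp (c.hE.2.2.1.le ⟨hz.2, hz.1⟩)))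
  · rw [eq_top_iff]
    rintro ⟨z, hz⟩ -
    obtain ⟨a, ha, b, hb, hab⟩ := c.hE.2.2.2 z hz
    rw [show (⟨z, hz⟩ : M) = ⟨a, c.hE.1 ha⟩ * ⟨b, Sigma.sigmaCore_le M hb⟩ from Subtype.ext hab]
    exact mul_mem (mem_sup_right ha) (mem_sup_left hb)
  · intro e
    have h1 : (⟨x, Sigma.sigmaCore_le M c.hx⟩ : M) ∈ (sigmaCore M).subgroupOf M := c.hx
    rw [e, mem_bot] at h1
    exact c.hx1 (congrArg Subtype.val h1)
  · intro e
    have h1 : (⟨u, c.huM⟩ : M) ∈ E.subgroupOf M := c.huE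
    rw [e, mem_bot] at h1
    exact c.P.u_ne (congrArg Subtype.val h1)
  · have h1 : (y : G) ∈ sigmaCore M ⊓ centralizer ({(h : G)} : Set G) :=
      mem_inf.mpr ⟨hy, mem_centralizer_singleton_iff.mpr (congrArg Subtype.val e : _)⟩
    have hh' : (h : G) ∈ E := hh
    rw [c.regular hh' fun e1 => hh1 (Subtype.ext e1), mem_bot] at h1
    exact Subtype.ext h1

end Cfsg.Agent.OddChar.TypeOne.Gap
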