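import Cfsg.Agent.OddChar.TypeOne.Gap.NonTI

/-!
# Maximal subgroups without `κ`-primes are of type I
-/

set_option autoImplicit false
set_option linter.unusedSectionVars false

namespace Cfsg.Agent.OddChar.TypeOne.Gap

open Cfsg Subgroup
open Cfsg.Agent.OddLocal Cfsg.Agent.OddLocal.SigmaParts

variable {G : Type*} [Group G] [Finite G] {M K U : Subgroup G}

theorem fittingHall_eq (hG : IsMinSimpleOddOrder G) (hM : IsCoatom M) (hκ : kappa M = ∅) :
    fittingHall ↥M = (sigmaCore M).subgroupOf M := by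
  rw [core_eq_fittingHallOf hG hM hκ, fittingHallOf, subgroupOf,
    comap_map_eq_self_of_injective M.subtype_injective]

theorem exponent_dvd (hG : IsMinSimpleOddOrder G) (hM : IsCoatom M) (hκ : kappa M = ∅) :
    Monoid.exponent (↥M ⧸ fittingHall ↥M) ∣ (sigmaCore M).relIndex M := by
  refine Group.exponent_dvd_nat_card.trans (dvd_of_eq ?_)
  rw [← index_eq_card, fittingHall_eq hG hM hκ]
  rfl

theorem exists_nbr_of_not_le (hG : IsMinSimpleOddOrder G) (hM : IsCoatom M) {x : G}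
    (hx : x ∈ sigmaCore M) (hx1 : x ≠ 1) (hxM : ¬ centralizer ({x} : Set G) ≤ M) :
    ∃ (N P : Subgroup G) (y : G) (p : ℕ), NonTI.Nbr M N P y p := by
  have hκ := kappa_empty_of_not_le hG hM hx hx1 hxM
  obtain ⟨n, hn⟩ := KappaStructure.exists_prime_power hx1
  obtain ⟨N, P, c⟩ := NonTI.exists_nbr hG hM (nilpotent_core hG hM hκ) (pow_mem hx n) hn fun h =>
    hxM fun a ha => h (mem_centralizer_singleton_iff.mpr
      ((show Commute a x from mem_centralizer_singleton_iff.mp ha).pow_right n).eq)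
  exact ⟨N, P, _, _, c⟩

theorem isOfTypeI (hG : IsMinSimpleOddOrder G) (hM : IsCoatom M) (hKU : IsSigmaDecomposition M K U)
    (hK : K = ⊥) (hU : U ≠ ⊥) : IsOfTypeI M := by
  have hκ := kappa_eq_empty hKU hK
  have hcore := core_eq_fittingHallOf hG hM hκ
  have hF := fittingHall_eq hG hM hκ
  have hE := KappaDecomp.isCompl hKU
  rw [hK, sup_bot_eq] at hE
  have hσM := Sigma.sigmaCore_le M
  refine ⟨⟨Transitivity.isSolvable_of_ne_top hG hM.1, hG.1.of_dvd_nat (card_subgroup_dvd_card M), ?_, ?_,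
    U.subgroupOf M, ?_, ?_, ⟨⊥, bot_le, ?_, inferInstance, fun x hx hx1 u hu => ?_⟩,
    U.subgroupOf M, le_rfl, rfl, fun u hu hu1 x hx hux => ?_⟩, ?_⟩
  · rw [hF]
    intro e
    exact Sigma.sigmaCore_ne_bot hG hM (by rw [← map_subgroupOf_eq_of_le hσM, e, Subgroup.map_bot])
  · rw [hF, ne_eq, subgroupOf_eq_top]
    exact fun hle => (Cfsg.Agent.Coprime.commutator_lt_of_isSolvable (Transitivity.isSolvable_of_ne_top hG hM.1)
      (fun e => Sigma.sigmaCore_ne_bot hG hM (le_bot_iff.mp (e ▸ hσM)))).not_ge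
        (hle.trans (Sigma.sigmaCore_le_commutator hG hM))
  · intro e
    exact hU (by rw [← map_subgroupOf_eq_of_le hE.1, e, Subgroup.map_bot])
  · rw [hF]
    refine isComplement'_of_disjoint_and_mul_eq_univ (disjoint_iff.mpr (eq_bot_iff.mpr fun z hz => ?_)) ?_
    · obtain ⟨h1, h2⟩ := mem_inf.mp hz
      exact mem_bot.mpr (Subtype.ext (mem_bot.mp (hE.2.2.1.le ⟨h2, h1⟩)))
    · refine Set.eq_univ_of_forall fun z => ?_
      obtain ⟨a, ha, b, hb, hab⟩ := hE.2.2.2 z z.2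
      refine ⟨⟨a * b * a⁻¹, hσM ((mem_normalizer_iff.mp (Sigma.le_normalizer_sigmaCore M (hE.1 ha)) b).mp hb)⟩,
        (mem_normalizer_iff.mp (Sigma.le_normalizer_sigmaCore M (hE.1 ha)) b).mp hb, ⟨a, hE.1 ha⟩, ha,
        Subtype.ext ?_⟩
      show a * b * a⁻¹ * a = _
      rw [inv_mul_cancel_right, hab]
  · intro v _
    rw [mem_normalizer_iff]
    intro w
    simp only [SetLike.mem_coe, mem_bot, conj_eq_one_iff]
  · obtain ⟨hu1, hu2⟩ := mem_inf.mp hu
    rw [hF, mem_subgroupOf] at hx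
    have h1 : (u : G) ∈ sigmaCore M := frob hG hM hκ u.2 hx (fun e => hx1 (Subtype.ext e))
      (congrArg Subtype.val (mem_centralizer_singleton_iff.mp hu2))
    exact mem_bot.mpr (Subtype.ext (mem_bot.mp (hE.2.2.1.le (mem_inf.mpr ⟨hu1, h1⟩))))
  · rw [hF, mem_subgroupOf] at hx
    by_contra hx1
    have h1 : (u : G) ∈ sigmaCore M := frob hG hM hκ u.2 hx (fun e => hx1 (Subtype.ext e))
      (congrArg Subtype.val hux)
    exact hu1 (Subtype.ext (mem_bot.mp (hE.2.2.1.le (mem_inf.mpr ⟨hu, h1⟩))))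
  by_cases hall : ∀ x ∈ sigmaCore M, x ≠ 1 → centralizer ({x} : Set G) ≤ M
  · exact Or.inl (hcore ▸ isTI_core hG hM hall)
  push Not at hall
  obtain ⟨x, hx, hx1, hxM⟩ := hall
  obtain ⟨N, P, y, p, c⟩ := exists_nbr_of_not_le hG hM hx hx1 hxM
  by_cases hab : IsMulCommutative (sigmaCore M)
  · exact Or.inr (Or.inl (hcore ▸ ⟨hab, rank_two hG c hab⟩))
  · refine Or.inr (Or.inr ⟨fun q hq hd => ?_, p, c.hp, ?_, cyclic_pPrimeCore_M hκ c hab⟩)
    · rw [← hcore] at hd
      exact (exponent_dvd hG hM hκ).trans (dvd_pred hκ c hab hq hd)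
    · rw [← hcore, ← c.hxo]
      exact orderOf_dvd_natCard _ c.hx

end Cfsg.Agent.OddChar.TypeOne.Gap
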